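import Cfsg.Agent.BN.Parabolic
import Cfsg.Agent.J4.Mx

/-! A group with a BN-pair is the universal completion of its minimal parabolics, subject to the
braid relations. -/

set_option autoImplicit false

namespace CF.E62

open Cfsg CF.BN CF.J4

variable {E G : Type*} [Group E] [Group G]

theorem bn_ext (P : BNPair E) (r : P.S → E) (hN : ∀ i, r i ∈ P.N)
    (hw : ∀ i, wt P (r i) = (cox P).s i) (f0 : E → G) (f : P.S → E → G) (h0 : HomOn P.B f0)
    (hf : ∀ i, HomOn (parW P {i}) (f i)) (hB : ∀ i, ∀ b ∈ P.B, f i b = f0 b)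
    (h1 : ∀ i, r i * r i = 1)
    (h2 : ∀ i j, (r i * r j) ^ orderOf ((cox P).s i * (cox P).s j) = 1 ∧
      (f i (r i) * f j (r j)) ^ orderOf ((cox P).s i * (cox P).s j) = 1) :
    ∃ Φ : E →* G, (∀ b ∈ P.B, Φ b = f0 b) ∧ ∀ i, ∀ g ∈ parW P {i}, Φ g = f i g := by
  have hr : ∀ i, r i ∈ parW P {i} := fun i => mem_parW_singleton.2 (Or.inr (hw i))
  have hBP : ∀ i, ∀ b ∈ P.B, b ∈ parW P {i} := fun i b hb => B_le_parW _ hb
  obtain ⟨φ, hφ⟩ := (exch P).exists_hom (H := E × G) (fun i => (r i, f i (r i)))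
    (fun i => Prod.ext (h1 i) (by
      change f i (r i) * f i (r i) = 1
      rw [← hf i _ (hr i) _ (hr i), h1, (hf i).one]))
    (fun i j => Prod.ext (by simpa using (h2 i j).1) (by simpa using (h2 i j).2))
  let ρ : Weyl P →* E := (MonoidHom.fst E G).comp φ
  let ν : Weyl P →* G := (MonoidHom.snd E G).comp φ
  have hρ : ∀ i, ρ ((cox P).s i) = r i := fun i => by simp [ρ, hφ]
  have hν : ∀ i, ν ((cox P).s i) = f i (r i) := fun i => by simp [ν, hφ]
  have hρw : ∀ w, ρ w ∈ P.N ∧ wt P (ρ w) = w := by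
    intro w
    induction w using (cox P).induction_right with
    | one => rw [map_one]; exact ⟨one_mem _, wt_one⟩
    | step i w ih =>
      rw [map_mul, hρ]
      exact ⟨mul_mem ih.1 (hN i), by rw [wt_mul_of_mem_N ih.1 (hN i), ih.2, hw]⟩
  -- an element of a minimal parabolic moved into `B` by a shorter element lies in `B`
  have inB : ∀ i w, (cox P).len (w * (cox P).s i) = (cox P).len w + 1 → ∀ y ∈ parW P {i},
      ρ w * y * (ρ w)⁻¹ ∈ P.B → y ∈ P.B := by
    intro i w hl y hy hb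
    refine (mem_parW_singleton.1 hy).resolve_right fun e => ?_
    have a := wt_mul_s_of_lt (g := ρ w) e (by rw [(hρw w).2]; omega)
    have b : wt P (ρ w * y) = w := by
      rw [show ρ w * y = ρ w * y * (ρ w)⁻¹ * ρ w by group, wt_mul_left hb, (hρw w).2]
    rw [b, (hρw w).2] at a
    exact cox_s_ne_one P i (left_eq_mul.1 a)
  have key : ∀ w, ∀ x ∈ P.B, ρ w * x * (ρ w)⁻¹ ∈ P.B →
      ν w * f0 x * (ν w)⁻¹ = f0 (ρ w * x * (ρ w)⁻¹) := by
    intro w
    induction w using (cox P).induction_len_right with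
    | one => intro x _ _; simp
    | step i w hl ih =>
      intro x hx hb
      have e : ρ (w * (cox P).s i) * x * (ρ (w * (cox P).s i))⁻¹ =
          ρ w * (r i * x * (r i)⁻¹) * (ρ w)⁻¹ := by rw [map_mul, hρ]; group
      rw [e] at hb ⊢
      have hy : r i * x * (r i)⁻¹ ∈ parW P {i} :=
        mul_mem (mul_mem (hr i) (hBP i x hx)) (inv_mem (hr i))
      have hy' := inB i w hl _ hy hb
      rw [← ih _ hy' hb, ← hB i _ hy', (hf i).conj (hr i) (hBP i x hx), hB i x hx, map_mul, hν]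
      group
  let T : E → G → Prop := fun g k => ∃ b ∈ P.B, ∃ b' ∈ P.B, ∃ w, g = b * ρ w * b' ∧
    k = f0 b * ν w * f0 b'
  have uniq : ∀ g k k', T g k → T g k' → k = k' := by
    rintro g k k' ⟨b, hb, c, hc, w, rfl, rfl⟩ ⟨b', hb', c', hc', w', e, rfl⟩
    have hww : w = w' := by
      have := congrArg (wt P) e
      rwa [wt_mul_right hc, wt_mul_left hb, wt_mul_right hc', wt_mul_left hb', (hρw w).2,
        (hρw w').2] at this
    subst hww
    have e2 : ρ w * (c' * c⁻¹) * (ρ w)⁻¹ = b'⁻¹ * b := by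
      calc _ = b'⁻¹ * (b' * ρ w * c') * c⁻¹ * (ρ w)⁻¹ := by group
        _ = _ := by rw [← e]; group
    have := key w (c' * c⁻¹) (mul_mem hc' (inv_mem hc)) (by rw [e2]; exact mul_mem (inv_mem hb') hb)
    rw [e2, h0 _ hc' _ (inv_mem hc), h0 _ (inv_mem hb') _ hb, h0.inv hc, h0.inv hb'] at this
    calc f0 b * ν w * f0 c = f0 b' * ((f0 b')⁻¹ * f0 b) * ν w * f0 c := by group
      _ = _ := by rw [← this]; group
  have mulB : ∀ g k, T g k → ∀ b ∈ P.B, T (g * b) (k * f0 b) := by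
    rintro g k ⟨b, hb, c, hc, w, rfl, rfl⟩ d hd
    exact ⟨b, hb, c * d, mul_mem hc hd, w, by group, by rw [h0 _ hc _ hd]; group⟩
  have up : ∀ i w, (cox P).len (w * (cox P).s i) = (cox P).len w + 1 → ∀ p ∈ parW P {i},
      T (ρ w * p) (ν w * f i p) := by
    intro i w hl p hp
    have t0 : T (ρ w) (ν w) := ⟨1, one_mem _, 1, one_mem _, w, by simp, by simp [h0.one]⟩
    rcases mem_parW_singleton.1 hp with hb | hs
    · rw [hB i p hb]; exact mulB _ _ t0 p hb
    have a := wt_mul_s_of_lt (g := ρ w) hs (by rw [(hρw w).2]; omega)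
    rw [(hρw w).2, ← (hρw (w * (cox P).s i)).2, wt_eq_wt_iff] at a
    obtain ⟨c, hc, c', hc', e⟩ := a
    rw [map_mul, hρ] at e
    have ex : p * (r i * c')⁻¹ = (ρ w)⁻¹ * c * ρ w := by
      calc _ = (ρ w)⁻¹ * (ρ w * p) * (r i * c')⁻¹ := by group
        _ = _ := by rw [e]; group
    have hrc : r i * c' ∈ parW P {i} := mul_mem (hr i) (hBP i _ hc')
    have hx : p * (r i * c')⁻¹ ∈ parW P {i} := mul_mem hp (inv_mem hrc)
    have hc2 : ρ w * (p * (r i * c')⁻¹) * (ρ w)⁻¹ = c := by rw [ex]; group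
    have hxB := inB i w hl _ hx (by rw [hc2]; exact hc)
    have k1 := key w _ hxB (by rw [hc2]; exact hc)
    rw [hc2, ← hB i _ hxB, hf i _ hp _ (inv_mem hrc), (hf i).inv hrc, hf i _ (hr i) _ (hBP i _ hc'),
      hB i _ hc'] at k1
    refine ⟨c, hc, c', hc', w * (cox P).s i, by rw [e, map_mul, hρ], ?_⟩
    rw [← k1, map_mul, hν]; group
  have mulP : ∀ g k, T g k → ∀ i, ∀ p ∈ parW P {i}, T (g * p) (k * f i p) := by
    rintro g k ⟨b, hb, c, hc, w, rfl, rfl⟩ i p hp
    have hcp : c * p ∈ parW P {i} := mul_mem (hBP i c hc) hp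
    have aux : T (ρ w * (c * p)) (ν w * f i (c * p)) := by
      rcases (exch P).len_mul_s i w with h | h
      · exact up i w h _ hcp
      · have := up i (w * (cox P).s i) (by rw [InvGen.mul_s_mul_s, h]) _ (mul_mem (hr i) hcp)
        rwa [map_mul, map_mul, hρ, hν, hf i _ (hr i) _ hcp, mul_assoc, ← mul_assoc (r i), h1,
          one_mul, mul_assoc, ← mul_assoc (f i (r i)), ← hf i _ (hr i) _ (hr i), h1, (hf i).one,
          one_mul] at this
    obtain ⟨d, hd, d', hd', u, e1, e2⟩ := aux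
    refine ⟨b * d, mul_mem hb hd, d', hd', u, ?_, ?_⟩
    · rw [mul_assoc, mul_assoc, ← mul_assoc (ρ w), mul_assoc (ρ w), e1]; group
    · rw [hf i _ (hBP i c hc) _ hp, hB i c hc] at e2
      rw [h0 _ hb _ hd, mul_assoc, mul_assoc, ← mul_assoc (ν w), mul_assoc (ν w), e2]; group
  have mulW : ∀ w g k, T g k → T (g * ρ w) (k * ν w) := by
    intro w
    induction w using (cox P).induction_right with
    | one => intro g k h; simpa using h
    | step i w ih =>
      intro g k h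
      rw [map_mul, map_mul, hρ, hν, ← mul_assoc, ← mul_assoc]
      exact mulP _ _ (ih g k h) i _ (hr i)
  have ex : ∀ g, ∃ k, T g k := fun g => by
    obtain ⟨b, hb, b', hb', e⟩ := wt_eq_wt_iff.1 (hρw (wt P g)).2.symm
    exact ⟨_, b, hb, b', hb', _, e, rfl⟩
  have mul : ∀ g k g' k', T g k → T g' k' → T (g * g') (k * k') := by
    rintro g k g' k' h ⟨b, hb, c, hc, w, rfl, rfl⟩
    simpa only [mul_assoc] using mulB _ _ (mulW w _ _ (mulB _ _ h b hb)) c hc
  choose θ hθ using ex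
  have t1 : T 1 1 := ⟨1, one_mem _, 1, one_mem _, 1, by simp, by simp [h0.one]⟩
  refine ⟨MonoidHom.mk' θ fun a b => uniq _ _ _ (hθ _) (mul _ _ _ _ (hθ a) (hθ b)),
    fun b hb => uniq _ _ _ (hθ b) ?_, fun i g hg => uniq _ _ _ (hθ g) ?_⟩
  · simpa using mulB _ _ t1 b hb
  · simpa using mulP _ _ t1 i g hg

end CF.E62
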