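import Cfsg.Agent.E62.Pre

/-! The position of a second conjugate of the extraspecial group. -/

set_option autoImplicit false
set_option linter.unusedSectionVars false

namespace CF.E62

open Cfsg Subgroup CF.Loc CF.Even CF.LX CF.J4
open scoped commutatorElement

variable {G E : Type*} [Group G] [Group E] [Finite G] [Finite E]

/-- `X` has index at most two in `A` -/
def Ix (X A : Subgroup G) : Prop := ∀ x ∈ A, ∀ y ∈ A, x ∉ X → y ∉ X → x * y ∈ X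

theorem Ix.of_card {X A : Subgroup G} (h : X ≤ A) (c : Nat.card A ≤ 2 * Nat.card X) : Ix X A := fun x hx y hy a b => by
  have k := card_mul_relIndex h
  have p : 0 < Nat.card X := Nat.card_pos
  have p1 : X.relIndex A ≠ 1 := fun e => a (relIndex_eq_one.1 e hx)
  have p0 : X.relIndex A ≠ 0 := index_ne_zero_of_finite
  have : X.relIndex A ≤ 2 := by nlinarith
  exact (mul_mem_iff_of_index_two (H := X.subgroupOf A) (a := ⟨x, hx⟩) (b := ⟨y, hy⟩)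
    (show X.relIndex A = 2 by omega)).2 (iff_of_false a b)

theorem Ix.card {X A : Subgroup G} (h : Ix X A) : Nat.card A ≤ 2 * Nat.card ↥(A ⊓ X) := by
  by_cases e : A ≤ X
  · rw [inf_eq_left.2 e]; omega
  obtain ⟨x, hx, nx⟩ := SetLike.not_le_iff_exists.1 e
  rw [← card_mul_relIndex (inf_le_left : A ⊓ X ≤ A), inf_relIndex_left, mul_comm, relIndex,
    index_eq_two_iff.2 ⟨⟨x, hx⟩, fun y => ?_⟩]
  by_cases k : (y : G) ∈ X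
  · exact .inr ⟨k, fun c => nx ((mul_mem_cancel_left k).1 c)⟩
  · exact .inl ⟨h _ y.2 _ hx k nx, k⟩

theorem Ix.norm {X A : Subgroup G} (h : Ix X A) (hX : X ≤ A) : A ≤ 𝐍(X) := fun g hg => mem_normalizer_fintype fun x hx => by
  by_cases k : g ∈ X
  · exact mul_mem (mul_mem k hx) (inv_mem k)
  · exact h _ (mul_mem hg (hX hx)) _ (inv_mem hg) (fun c => k ((mul_mem_cancel_right hx).1 c)) (mt inv_mem_iff.1 k)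

theorem Ix.comm {X A : Subgroup G} (h : Ix X A) {x g : G} (hx : x ∈ A) (h1 : g ∈ 𝐍(X)) (h2 : g ∈ 𝐍(A)) : ⁅x, g⁆ ∈ X := by
  rw [show ⁅x, g⁆ = x * (g * x⁻¹ * g⁻¹) by rw [commutatorElement_def]; group]
  by_cases k : x ∈ X
  · exact mul_mem k (norm_mem' h1 (inv_mem k))
  · exact h _ hx _ (norm_mem' h2 (inv_mem hx)) k fun c => k (inv_mem_iff.1 ((mem_normalizer_iff.1 h1 _).2 c))

section
variable {Q P W : Subgroup G} {z t x y : G} (p : Pair Q P z t)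
include p

theorem E_le_C : Q ⊓ P ≤ Q ⊓ 𝐂(Q ⊓ P) := fun _ hx =>
  ⟨hx.1, fun _ hy => CF.Invol.commute_of_forall_mul_self (fun _ => p.E_sq) hy hx⟩

theorem cardE (c : Nat.card Q = 2 ^ 21) : Nat.card ↥(Q ⊓ P) ≤ 2 ^ 11 := by
  have k := p.l.card_mul_card (p.V_le p.zV) inf_le_left
  have := card_le_of_le (E_le_C p)
  rw [c] at k
  nlinarith

theorem centE (c : Nat.card Q = 2 ^ 21) (e : Nat.card ↥(Q ⊓ P) = 2 ^ 11) : Q ⊓ 𝐂(Q ⊓ P) ≤ Q ⊓ P := by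
  have k := p.l.card_mul_card (p.V_le p.zV) inf_le_left
  rw [c, e] at k
  exact (eq_of_le_of_card_ge (E_le_C p) (by omega)).ge

theorem cardP1 (c : Nat.card Q = 2 ^ 21) : Nat.card ↥(P ⊓ 𝐂₁(z)) = 2 ^ 20 := by
  have := p.r.two_mul_card_c1 p.zP p.l.z_ne p.ne.symm
  rw [p.card_eq, c] at this
  omega

theorem mem_A : x ∈ P ⊓ 𝐂₁(z) ⊔ Q ↔ ∃ b ∈ P ⊓ 𝐂₁(z), ∃ q ∈ Q, b * q = x :=
  mem_sup_of_le_normalizer' (inf_le_right.trans p.l.nor)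

theorem inf_Q : P ⊓ 𝐂₁(z) ⊓ Q = Q ⊓ P := le_antisymm (fun _ k => ⟨k.2, k.1.1⟩) fun _ k => ⟨⟨k.2, p.l.le_c1 k.1⟩, k.1⟩

theorem A_le_C : P ⊓ 𝐂₁(z) ⊔ Q ≤ 𝐂₁(z) := sup_le inf_le_right p.l.le_c1

theorem mem_P1 (c : Q ⊓ 𝐂(Q ⊓ P) ≤ Q ⊓ P) (hx : x ∈ P ⊓ 𝐂₁(z) ⊔ Q)
    (k : ∀ e ∈ Q ⊓ P, x * e * x⁻¹ * e⁻¹ ∈ zpowers t) : x ∈ P := by
  obtain ⟨b, hb, q, hq, rfl⟩ := (mem_A p).1 hx
  refine mul_mem hb.1 (c ⟨hq, fun e he => ?_⟩).2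
  refine (p.l.conj_cases hq he.1).elim (fun k => (conj_eq_iff.1 k).symm) fun l => ?_
  have := (mul_mem_cancel_right (p.r.comm_mem hb.1 he.2)).1 (show z * (b * e * b⁻¹ * e⁻¹) ∈ _ by
    have := k e he
    rwa [show b * q * e * (b * q)⁻¹ = b * (q * e * q⁻¹) * b⁻¹ by group, l, ← mul_assoc b, mem_c1.1 hb.2, mul_assoc z,
      mul_assoc z, mul_assoc z] at this)
  exact absurd ((p.r.mem_z.1 this).resolve_left p.l.z_ne).symm p.ne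

theorem cmm_sup (zW : z ∈ W) (hy : y ∈ Q) (k : ∀ b ∈ P ⊓ 𝐂₁(z), ⁅y, b⁆ ∈ W) (hx : x ∈ P ⊓ 𝐂₁(z) ⊔ Q) : ⁅y, x⁆ ∈ W := by
  obtain ⟨b, hb, q, hq, rfl⟩ := (mem_A p).1 hx
  have := k b hb
  rw [commutatorElement_def] at this ⊢
  rw [show y * (b * q) * y⁻¹ * (b * q)⁻¹ = y * b * (q * y⁻¹ * q⁻¹) * b⁻¹ by group]
  rcases p.l.conj_cases hq (inv_mem hy) with e | e <;> rw [e]
  · exact this
  · rw [← mul_assoc, mem_c1.1 (mul_mem (p.l.le_c1 hy) hb.2), mul_assoc z, mul_assoc z]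
    exact mul_mem zW this

theorem cmm1 (hy : y ∈ Q) (hx : x ∈ P ⊓ 𝐂₁(z) ⊔ Q) : ⁅y, x⁆ ∈ Q ⊓ 𝐂₁(t) :=
  cmm_sup p ⟨p.l.mem, mem_c1.2 p.tz.symm⟩ hy (fun _ hb => p.comm_Q_C (commutator_mem_commutator hy (p.B_le hb))) hx

theorem cmm2 (hy : y ∈ Q ⊓ 𝐂₁(t)) (hx : x ∈ P ⊓ 𝐂₁(z) ⊔ Q) : ⁅y, x⁆ ∈ Q ⊓ P :=
  cmm_sup p (p.V_le p.zV) hy.1 (fun _ hb => p.comm_R_R (commutator_mem_commutator (mem_sup_right hy) (mem_sup_left hb))) hx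

theorem cmm3 (hy : y ∈ Q ⊓ P) (hx : x ∈ P ⊓ 𝐂₁(z) ⊔ Q) : ⁅y, x⁆ ∈ V4 z t :=
  cmm_sup p p.zV hy.1 (fun _ hb => (commutator_comm (Q ⊔ P) _ ▸ p.comm_X_E)
    (commutator_mem_commutator hy (mem_sup_right hb.1))) hx

theorem mem_N : x ∈ 𝐂(V4 z t) ↔ x * z = z * x ∧ x * t = t * x := by
  rw [cent_V4]; exact and_congr mem_c1 mem_c1

theorem N_norm_A : 𝐂(V4 z t) ≤ 𝐍(P ⊓ 𝐂₁(z) ⊔ Q) := fun _ k =>
  cj_eq_self_iff.1 (by rw [cj_sup, cj_eq_self (p.C_norm_B k), cj_eq_self (p.C_norm_Q k)])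

end

/-- the first list of properties of the model -/
structure MA (Q0 : Subgroup E) (a t F r : E) : Prop where
  l : LQ Q0 a
  cQ : Nat.card Q0 = 2 ^ 21
  rr : r * r = 1
  ra : r * a * r⁻¹ = t
  tQ : t ∈ Q0
  ne : t ≠ a
  FQ : F ∈ Q0
  FF : F * F = 1
  Ft : F * t * F⁻¹ = a * t
  br : F * (r * F * r⁻¹) * F = r
  cE : Nat.card ↥(Q0 ⊓ cj[r] Q0) = 2 ^ 11
  j8 : ∀ X, Q0 ≤ X → X ≤ 𝐂₁(a) → (∀ x ∈ X, x * x ∈ Q0) → 2 ^ 29 ≤ Nat.card X →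
    ∃ c ∈ 𝐂₁(a), cj[c] X ≤ cj[r] Q0 ⊓ 𝐂₁(a) ⊔ Q0
  v1 : ∀ X, Q0 ≤ X → Ix X (cj[r] Q0 ⊓ 𝐂₁(a) ⊔ Q0) →
    ∃ x ∈ X, ∃ y ∈ X, ∃ w ∈ X, ⁅⁅⁅F, x⁆, y⁆, w⁆ = t ∨ ⁅⁅⁅F, x⁆, y⁆, w⁆ = a * t
  v2 : Q0 ⊓ cj[r] Q0 ≤ ⁅Q0 ⊓ 𝐂₁(t), cj[r] Q0 ⊓ 𝐂₁(a)⁆
  d : Q0 ⊓ 𝐂₁(t) ≤ ⁅Q0 ⊓ 𝐂₁(t), 𝐂(V4 a t)⁆
  pf : 𝐂(V4 a t) ≤ ⁅𝐂(V4 a t), 𝐂(V4 a t)⁆
  fb : ∀ k ∈ 𝐂(V4 a t), ∃ b ∈ cj[r] Q0 ⊓ 𝐂₁(a), b⁻¹ * k * F * (b⁻¹ * k)⁻¹ * F⁻¹ ∈ zpowers a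
  fe : ∃ c ∈ 𝐂₁(a), c * t * c⁻¹ = F
  odd : ¬ 2 ∣ (𝐂(V4 a t) ⊔ Q0).relIndex 𝐂₁(a)

variable {Q H P : Subgroup G} {z t : G} {Q0 : Subgroup E} {a t0 F r : E} {Θ : E → G}

namespace MA
variable (M : MA Q0 a t0 F r)
include M

theorem p : Pair Q0 (cj[r] Q0) a t0 := M.ra ▸ M.l.pair (by rw [M.cQ]; norm_num) (M.ra ▸ M.ne) (M.ra ▸ M.tQ)

theorem ri : r⁻¹ = r := inv_eq_of_mul_eq_one_left M.rr

theorem rt : r * t0 * r⁻¹ = a := by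
  rw [← M.ra, show r * (r * a * r⁻¹) * r⁻¹ = r * r * a * (r * r)⁻¹ by group, M.rr]; group

theorem cj_cj (X : Subgroup E) : cj[r] (cj[r] X) = X := by rw [← cj_mul, M.rr, cj_one]

theorem cjN : cj[r] 𝐂(V4 a t0) = 𝐂(V4 a t0) := by
  rw [cent_V4, cj_inf, cj_centralizer_singleton, cj_centralizer_singleton, M.ra, M.rt, inf_comm]

theorem cjQ1 : cj[r] (Q0 ⊓ 𝐂₁(t0)) = cj[r] Q0 ⊓ 𝐂₁(a) := by rw [cj_inf, cj_centralizer_singleton, M.rt]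

theorem d' : cj[r] Q0 ⊓ 𝐂₁(a) ≤ ⁅cj[r] Q0 ⊓ 𝐂₁(a), 𝐂(V4 a t0)⁆ := by
  have := cj_mono r M.d
  rwa [cj_commutator, M.cjQ1, M.cjN] at this

theorem cA : Nat.card ↥(cj[r] Q0 ⊓ 𝐂₁(a) ⊔ Q0) = 2 ^ 30 := by
  have := card_sup_mul_card_inf (H := cj[r] Q0 ⊓ 𝐂₁(a)) (inf_le_right.trans M.l.nor)
  rw [inf_Q M.p, M.cE, cardP1 M.p M.cQ, M.cQ] at this
  omega

end MA

theorem Pr0.cmm (h : Pr0 Q H z Q0 a Θ) {g : G} {m x : E} (c : Cor H Θ Q0 a g m) (hx : x ∈ Q0) :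
    ⁅x, m⁆ ∈ Q0 ∧ Θ ⁅x, m⁆ = ⁅Θ x, g⁆ := by
  have k := h.cm (inv_mem hx) c.r
  rw [show ⁅x, m⁆ = x * (m * x⁻¹ * m⁻¹) by rw [commutatorElement_def]; group]
  exact ⟨mul_mem hx k, by rw [h.hom _ hx _ k, ← c.e _ (inv_mem hx), h.hom.inv hx, commutatorElement_def]; group⟩

theorem Pr0.mem_zp (h : Pr0 Q H z Q0 a Θ) {x y : E} (hx : x ∈ Q0) (hy : y ∈ Q0) :
    Θ x ∈ zpowers (Θ y) ↔ x ∈ zpowers y := by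
  have k : ∀ n : ℤ, Θ (y ^ n) = Θ y ^ n := fun n => map_zpow h.hom.hom ⟨y, hy⟩ n
  exact ⟨fun ⟨n, e⟩ => ⟨n, h.inj _ (zpow_mem hy n) _ hx ((k n).trans e)⟩, fun ⟨n, e⟩ => ⟨n, e ▸ (k n).symm⟩⟩

/-- the second extraspecial group corresponds to the one of the model -/
structure Sv (Q H P : Subgroup G) (z t : G) (Q0 : Subgroup E) (a t0 r : E) (Θ : E → G) : Prop
    extends Pre Q H z Q0 a Θ where
  p : Pair Q P z t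
  tt : Θ t0 = t
  PH : P ⊓ 𝐂₁(z) ≤ H
  cE : Q ⊓ 𝐂(Q ⊓ P) ≤ Q ⊓ P
  pp : ∀ {g m}, Cor H Θ Q0 a g m → (g ∈ P ↔ m ∈ cj[r] Q0)

section
variable (h : Pre Q H z Q0 a Θ) (M : MA Q0 a t0 F r) (p : Pair Q P z t) (ix : Ix H 𝐂₁(z)) (cQ : Nat.card Q = 2 ^ 21)
include h M p ix cQ

omit M in
theorem card_X : 2 ^ 40 ≤ Nat.card (h.lift (P ⊓ 𝐂₁(z) ⊓ H ⊔ Q)) * Nat.card ↥(Q ⊓ P) := by
  have k1 := card_sup_mul_card_inf (H := P ⊓ 𝐂₁(z) ⊓ H) (inf_le_right.trans (h.HC.trans h.l.nor))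
  have k2 := Ix.card (X := H) (A := P ⊓ 𝐂₁(z)) fun x hx y hy => ix x hx.2 y hy.2
  have k3 := h.card_lift (A := P ⊓ 𝐂₁(z) ⊓ H ⊔ Q) (sup_le inf_le_right h.QH)
  rw [inf_assoc _ H, inf_eq_right.2 h.QH, inf_Q p, cQ] at k1
  rw [cardP1 p cQ] at k2
  nlinarith

omit M p ix cQ in
theorem Q_le_X : Q0 ≤ h.lift (P ⊓ 𝐂₁(z) ⊓ H ⊔ Q) := fun x hx => h.mem_lift.2 ⟨_, mem_sup_right (h.mem x hx), h.cself hx⟩

theorem sv_a : ∃ m ∈ 𝐂₁(a), ∀ g ∈ P ⊓ 𝐂₁(z) ⊓ H ⊔ Q, ∀ n, Cor H Θ Q0 a g (m * n * m⁻¹) → n ∈ cj[r] Q0 ⊓ 𝐂₁(a) ⊔ Q0 := by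
  have k := card_X h p ix cQ
  have k1 := cardE p cQ
  obtain ⟨c, hc, e⟩ := M.j8 _ (Q_le_X (P := P) h) h.lift_le (fun x hx => by
    obtain ⟨g, hg, c⟩ := h.mem_lift.1 hx
    refine (h.memQ (h.cmul c c)).1 ?_
    obtain ⟨b, hb, q, hq, rfl⟩ := (mem_A p).1 ((sup_le_sup_right inf_le_left Q : _ ≤ P ⊓ 𝐂₁(z) ⊔ Q) hg)
    rw [show b * q * (b * q) = b * b * (b⁻¹ * q * b * q) by group]
    exact mul_mem (zpowers_le.2 p.tQ (p.r.sq_mem hb.1)) (mul_mem (norm_mem (h.l.nor hb.2) hq) hq)) (by nlinarith)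
  exact ⟨c⁻¹, inv_mem hc, fun g hg n k => e (mem_cj.2 (h.mem_lift.2 ⟨g, hg, by simpa using k⟩))⟩

variable (S : ∀ g ∈ P ⊓ 𝐂₁(z) ⊓ H ⊔ Q, ∀ n, Cor H Θ Q0 a g n → n ∈ cj[r] Q0 ⊓ 𝐂₁(a) ⊔ Q0)
include S

theorem ix_X : Ix (h.lift (P ⊓ 𝐂₁(z) ⊓ H ⊔ Q)) (cj[r] Q0 ⊓ 𝐂₁(a) ⊔ Q0) := by
  have k := card_X h p ix cQ
  have k1 := cardE p cQ
  exact .of_card (fun x hx => (h.mem_lift.1 hx).elim fun g k => S g k.1 x k.2) (by rw [M.cA]; nlinarith)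

theorem sv_b : Θ t0 = t ∨ Θ t0 = z * t := by
  obtain ⟨x, hx, y, hy, w, hw, e⟩ := M.v1 _ (Q_le_X (P := P) h) (ix_X h M p ix cQ S)
  obtain ⟨g1, a1, c1⟩ := h.mem_lift.1 hx
  obtain ⟨g2, a2, c2⟩ := h.mem_lift.1 hy
  obtain ⟨g3, a3, c3⟩ := h.mem_lift.1 hw
  have l := sup_le_sup_right (inf_le_left : P ⊓ 𝐂₁(z) ⊓ H ≤ _) Q
  obtain ⟨b1, e1⟩ := h.cmm c1 M.FQ
  obtain ⟨b2, e2⟩ := h.cmm c2 b1
  have k := cmm3 p (cmm2 p (cmm1 p (h.mem _ M.FQ) (l a1)) (l a2)) (l a3)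
  rw [← e1, ← e2, ← (h.cmm c3 b2).2] at k
  have k2 : Θ t0 ∈ V4 z t := by
    rcases e with e | e <;> rw [e] at k
    · exact k
    · rw [h.hom _ h.e0.mem _ M.tQ, h.tz] at k
      exact (mul_mem_cancel_left p.zV).1 k
  rcases p.mem_V.1 k2 with e | e | e
  · exact absurd (h.inj _ M.tQ _ (one_mem _) (e.trans h.hom.one.symm)) M.p.r.z_ne
  · exact absurd (h.inj _ M.tQ _ h.e0.mem (e.trans h.tz.symm)) M.ne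
  · exact e

theorem sv_c (tt : Θ t0 = t) : Sv Q H P z t Q0 a t0 r Θ := by
  have l := sup_le_sup_right (inf_le_left : P ⊓ 𝐂₁(z) ⊓ H ≤ _) Q
  have hX : cj[r] Q0 ⊓ 𝐂₁(a) ≤ h.lift (P ⊓ 𝐂₁(z) ⊓ H ⊔ Q) := M.d'.trans (commutator_le.2 fun x hx n hn => by
    refine (ix_X h M p ix cQ S).comm (mem_sup_left hx) (mem_normalizer_fintype fun y hy => ?_) (N_norm_A M.p hn)
    obtain ⟨g, hg, c⟩ := h.mem_lift.1 hy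
    obtain ⟨k, d⟩ := h.up n (mem_c1.2 ((mem_N M.p).1 hn).1)
    have kN : k ∈ 𝐂(V4 z t) := (mem_N p).2 ⟨mem_c1.1 (h.HC d.l), tt ▸ (h.ccomm d M.tQ).2 ((mem_N M.p).1 hn).2⟩
    refine h.mem_lift.2 ⟨_, norm_mem' (cj_eq_self_iff.1 ?_) hg, h.cconj d c⟩
    rw [cj_sup, cj_inf _ _ H, cj_eq_self (p.C_norm_B kN), cj_eq_self (p.C_norm_Q kN), cj_eq_self_of_mem d.l])
  have hA : cj[r] Q0 ⊓ 𝐂₁(a) ⊔ Q0 ≤ h.lift (P ⊓ 𝐂₁(z) ⊓ H ⊔ Q) := sup_le hX (Q_le_X h)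
  have e1 : Q0 ⊓ cj[r] Q0 ≤ h.hom.pre (Q ⊓ P) := M.v2.trans (commutator_le.2 fun x hx n hn => by
    obtain ⟨g, hg, c⟩ := h.mem_lift.1 (hX hn)
    obtain ⟨b, e⟩ := h.cmm c hx.1
    exact h.hom.mem_pre.2 ⟨b, e ▸ cmm2 p ⟨h.mem _ hx.1, mem_c1.2 (tt ▸ (h.comm hx.1 M.tQ).2 (mem_c1.1 hx.2))⟩ (l hg)⟩)
  have f : Function.Injective fun x : ↥(Q0 ⊓ cj[r] Q0) => (⟨Θ x, (h.hom.mem_pre.1 (e1 x.2)).2⟩ : ↥(Q ⊓ P)) :=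
    fun x y e => Subtype.ext (h.inj _ x.2.1 _ y.2.1 (congrArg Subtype.val e))
  have c1 : Nat.card ↥(Q ⊓ P) = 2 ^ 11 := le_antisymm (cardE p cQ) (M.cE ▸ Nat.card_le_card_of_injective _ f)
  have e2 : ∀ y ∈ Q ⊓ P, ∃ x ∈ Q0 ⊓ cj[r] Q0, Θ x = y := fun y hy => by
    obtain ⟨x, e⟩ := ((Nat.bijective_iff_injective_and_card _).2 ⟨f, M.cE.trans c1.symm⟩).2 ⟨y, hy⟩
    exact ⟨x, x.2, congrArg Subtype.val e⟩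
  have PH : P ⊓ 𝐂₁(z) ≤ H := by
    have k1 := card_sup_mul_card_inf (H := P ⊓ 𝐂₁(z) ⊓ H) (inf_le_right.trans (h.HC.trans h.l.nor))
    have k2 := (card_le_of_le hA).trans (h.card_lift_le (mem_sup_right h.l.mem))
    rw [inf_assoc _ H, inf_eq_right.2 h.QH, inf_Q p, cQ, c1] at k1
    rw [M.cA] at k2
    exact (eq_of_le_of_card_ge (inf_le_left : P ⊓ 𝐂₁(z) ⊓ H ≤ _) (by rw [cardP1 p cQ]; omega)).ge.trans inf_le_right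
  refine ⟨h, p, tt, PH, centE p cQ c1, fun {g m} c => ⟨fun k => ?_, fun k => ?_⟩⟩
  · refine mem_P1 M.p (centE M.p M.cQ M.cE) (S g (mem_sup_left ⟨⟨k, h.HC c.l⟩, c.l⟩) m c) fun e he => ?_
    have b := h.cm he.1 c.r
    rw [← h.mem_zp (mul_mem b (inv_mem he.1)) M.tQ, h.hom _ b _ (inv_mem he.1), h.hom.inv he.1, ← c.e _ he.1, tt]
    exact p.r.comm_mem k (h.hom.mem_pre.1 (e1 he)).2.2
  · obtain ⟨g', hg, d⟩ := h.mem_lift.1 (hX ⟨k, c.r⟩)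
    refine mem_P1 p (centE p cQ c1) ?_ fun e he => ?_
    · rcases h.left' c d with rfl | rfl
      exacts [l hg, mul_mem (mem_sup_right h.l.mem) (l hg)]
    · obtain ⟨x, hx, rfl⟩ := e2 e he
      have b := h.cm hx.1 c.r
      rw [c.e _ hx.1, ← h.hom.inv hx.1, ← h.hom _ b _ (inv_mem hx.1), ← tt, h.mem_zp (mul_mem b (inv_mem hx.1)) M.tQ]
      exact M.p.r.comm_mem k hx.2

omit S in
theorem exists_sv : ∃ m ∈ 𝐂₁(a), Sv Q H P z t Q0 a t0 r fun x => Θ (m * x * m⁻¹) := by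
  have tw : ∀ {m n g}, m ∈ 𝐂₁(a) → Cor H (fun x => Θ (m * x * m⁻¹)) Q0 a g n → Cor H Θ Q0 a g (m * n * m⁻¹) :=
    fun {m n g} hm c => ⟨c.l, mul_mem (mul_mem hm c.r) (inv_mem hm), fun x hx => by
      have := c.e _ (h.cm hx (inv_mem hm))
      simpa [mul_assoc] using this⟩
  obtain ⟨m, hm, k⟩ := sv_a h M p ix cQ
  have S := fun g hg n c => k g hg n (tw hm c)
  rcases sv_b (h.twist hm) M p ix cQ S with e | e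
  · exact ⟨m, hm, sv_c (h.twist hm) M p ix cQ S e⟩
  have m2 := mul_mem hm (M.l.le_c1 M.FQ)
  refine ⟨m * F, m2, sv_c (h.twist m2) M p ix cQ (fun g hg n c => ?_) ?_⟩
  · have := k g hg (F * n * F⁻¹) (by simpa [mul_assoc] using tw m2 c)
    simpa [mul_assoc] using mul_mem (mul_mem (inv_mem (mem_sup_right M.FQ)) this) (mem_sup_right M.FQ)
  · have := (h.twist hm).hom _ M.l.mem _ M.tQ
    rw [← M.Ft, (h.twist hm).tz, e, ← mul_assoc z, h.l.zz, one_mul] at this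
    simpa [mul_assoc] using this

end

end CF.E62
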