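import Cfsg.Agent.E62.G1
import Cfsg.Agent.BabU.D2
import Mathlib.GroupTheory.Transfer

/-! The subgroup of the centraliser is isomorphic to the one of the model. -/

set_option autoImplicit false
set_option linter.unusedSectionVars false

namespace CF.E62

open Cfsg Subgroup CF.Loc CF.Even CF.LX CF.J4
open scoped commutatorElement

variable {G E : Type*} [Group G] [Group E] [Finite G] [Finite E]

theorem comm_mul {P : Subgroup G} {t u x y : G} (l : EX P t) (hu : u ∈ P) (hx : x ∈ P) (hy : y ∈ P) :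
    x * y * u = u * (x * y) ↔ (x * u = u * x ↔ y * u = u * y) := by
  have n : t * u ≠ u := fun e => l.z_ne (mul_eq_right.1 e)
  have n2 : t * (t * u) = u := by rw [← mul_assoc, l.zz, one_mul]
  simp only [← conj_eq_iff]
  rw [show x * y * u * (x * y)⁻¹ = x * (y * u * y⁻¹) * x⁻¹ by group]
  have k : x * (t * u) * x⁻¹ = t * (x * u * x⁻¹) := by rw [← mul_assoc, l.zc hx]; group
  rcases l.conj_cases hx hu with a | a <;> rcases l.conj_cases hy hu with b | b <;> simp [a, b, k, n, n2]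

/-- the elements that fix `u` modulo `t` -/
def Fx (u t : G) : Subgroup G where
  carrier := {k | k ∈ 𝐂(zpowers t) ∧ k * u * k⁻¹ * u⁻¹ ∈ zpowers t}
  one_mem' := ⟨one_mem _, by simp⟩
  mul_mem' := fun {k l} a b => ⟨mul_mem a.1 b.1, by
    have := mul_mem b.2 a.2
    rwa [← conj_eq_of_mem_centralizer a.1 b.2, show k * (l * u * l⁻¹ * u⁻¹) * k⁻¹ * (k * u * k⁻¹ * u⁻¹) =
      k * l * u * (k * l)⁻¹ * u⁻¹ by group] at this⟩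
  inv_mem' := fun {k} a => ⟨inv_mem a.1, by
    have := inv_mem a.2
    rwa [← conj_eq_of_mem_centralizer (inv_mem a.1) this, show k⁻¹ * (k * u * k⁻¹ * u⁻¹)⁻¹ * k⁻¹⁻¹ =
      k⁻¹ * u * k⁻¹⁻¹ * u⁻¹ by group] at this⟩

theorem mem_Fx {u t k : G} : k ∈ Fx u t ↔ k ∈ 𝐂₁(t) ∧ k * u * k⁻¹ * u⁻¹ ∈ zpowers t := by
  rw [← centralizer_zpowers]; rfl

theorem Fx.comm {u t k e : G} (hk : k ∈ Fx u t) (he : e ∈ 𝐂₁(t)) :
    k * e * k⁻¹ * u = u * (k * e * k⁻¹) ↔ e * u = u * e := by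
  have a := (inv_mem hk).2
  have b := (centralizer_zpowers t).ge he _ a
  generalize hc : k⁻¹ * u * k⁻¹⁻¹ * u⁻¹ = c at b
  rw [show u = k * (c * u) * k⁻¹ by rw [← hc]; group, ← conj_mul_conj, ← conj_mul_conj, mul_left_inj, mul_right_inj,
    ← mul_assoc, ← b, mul_assoc, mul_assoc, mul_right_inj, ← hc]
  group

theorem cj_Fx (s u t : G) : cj[s] (Fx u t) = Fx (s * u * s⁻¹) (s * t * s⁻¹) := by
  ext k
  rw [mem_cj, mem_Fx, mem_Fx, ← cj_centralizer_singleton, mem_cj, ← cj_zpowers, mem_cj]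
  exact and_congr_right fun _ => by
    rw [show s⁻¹ * (k * (s * u * s⁻¹) * k⁻¹ * (s * u * s⁻¹)⁻¹) * s = s⁻¹ * k * s * u * (s⁻¹ * k * s)⁻¹ * u⁻¹ by group]

theorem exists_sign {Γ : Type*} [Group Γ] [Finite Γ] {K L : Subgroup Γ} {ζ : Γ} (c : ∀ x, x * ζ = ζ * x)
    (zz : ζ * ζ = 1) (n : ζ ∉ L) (k : ∀ x ∈ K, x ∈ L ∨ ζ * x ∈ L) (o : ¬ 2 ∣ K.index) :
    ∃ χ : Γ →* ℤˣ, χ ζ = -1 := by
  classical
  have k1 : ∀ {x y}, x ∈ L → ζ * y ∈ L → x * y ∉ L := fun {x y} a b d =>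
    n ((mul_mem_cancel_right ((mul_mem_cancel_left a).1 d)).1 b)
  let φ : K →* ℤˣ := MonoidHom.mk' (fun x => if (x : Γ) ∈ L then 1 else -1) fun x y => by
    by_cases a : (x : Γ) ∈ L <;> by_cases b : (y : Γ) ∈ L
    · simp [a, b, mul_mem a b]
    · simp [a, b, (mul_mem_cancel_left a)]
    · simp [a, b, (mul_mem_cancel_right b)]
    · have := mul_mem ((k _ x.2).resolve_left a) ((k _ y.2).resolve_left b)
      rw [mul_assoc, ← mul_assoc x.1, c, mul_assoc ζ, ← mul_assoc, zz, one_mul] at this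
      simp [a, b, this]
  refine ⟨φ.transfer, ?_⟩
  rw [MonoidHom.transfer_eq_pow φ ζ fun m g _ => by rw [mul_assoc, ← ((show Commute g ζ from c g).pow_right m).eq,
    inv_mul_cancel_left]]
  obtain ⟨m, e⟩ := Nat.not_even_iff_odd.1 (mt even_iff_two_dvd.1 o)
  have : ζ ^ K.index = ζ := by rw [e, pow_succ, pow_mul, sq, zz, one_pow, one_mul]
  simp [φ, this, n]

variable {Q H P : Subgroup G} {z t U : G} {Q0 : Subgroup E} {a t0 F r : E} {Θ : E → G}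

theorem MA.UP (M : MA Q0 a t0 F r) : r * F * r⁻¹ ∈ cj[r] Q0 := conj_mem_cj r M.FQ

theorem MA.UU (M : MA Q0 a t0 F r) : r * F * r⁻¹ * (r * F * r⁻¹) = 1 := by rw [← conj_mul_conj, M.FF]; group

theorem MA.Ua (M : MA Q0 a t0 F r) : r * F * r⁻¹ * a * (r * F * r⁻¹)⁻¹ = t0 * a := by
  nth_rw 1 [← M.rt]
  rw [show r * F * r⁻¹ * (r * t0 * r⁻¹) * (r * F * r⁻¹)⁻¹ = r * (F * t0 * F⁻¹) * r⁻¹ by group, M.Ft, conj_mul_conj, M.ra,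
    M.rt]

theorem MA.k1 (M : MA Q0 a t0 F r) {m : E} (hm : m ∈ 𝐂(V4 a t0)) :
    ∃ x ∈ Q0 ⊓ 𝐂₁(t0), x⁻¹ * m ∈ Fx (r * F * r⁻¹) t0 := by
  obtain ⟨m, hn, rfl⟩ := M.cjN.ge hm
  obtain ⟨b, hb, e⟩ := M.fb m hn
  refine ⟨r * b * r⁻¹, ?_, ?_⟩
  · rw [← M.cj_cj (Q0 ⊓ _), M.cjQ1]; exact conj_mem_cj r hb
  · rw [← M.ra, ← cj_Fx, mem_cj]
    have := mem_Fx.2 ⟨mul_mem (inv_mem hb.2) (mem_c1.2 ((mem_N M.p).1 hn).1), e⟩
    simpa [mul_assoc] using this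

/-- the element that corresponds to the negative root element -/
structure Su (Q H P : Subgroup G) (z t U : G) (Q0 : Subgroup E) (a t0 F r : E) (Θ : E → G) : Prop
    extends Sv Q H P z t Q0 a t0 r Θ where
  M : MA Q0 a t0 F r
  UP : U ∈ P
  UU : U * U = 1
  Uz : U * z * U⁻¹ = t * z
  UE : ∀ x ∈ Q0 ⊓ cj[r] Q0, Θ x * U = U * Θ x ↔ x * (r * F * r⁻¹) = r * F * r⁻¹ * x
  UN : U ∈ 𝐍(𝐂(V4 z t) ⊓ H)
  k1 : ∀ n ∈ 𝐂(V4 z t) ⊓ H, ∃ q ∈ Q ⊓ 𝐂₁(t), q⁻¹ * n ∈ Fx U t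

namespace Sv
variable (h : Sv Q H P z t Q0 a t0 r Θ) (M : MA Q0 a t0 F r)
include h M

theorem corN {g : G} {m : E} (c : Cor H Θ Q0 a g m) : g ∈ 𝐂(V4 z t) ↔ m ∈ 𝐂(V4 a t0) := by
  rw [mem_N h.p, mem_N M.p, ← h.tt, h.ccomm c M.tQ]
  exact and_congr_left' (iff_of_true (mem_c1.1 (h.HC c.l)) (mem_c1.1 c.r))

theorem N_eq (ix : Ix H 𝐂₁(z)) : 𝐂(V4 z t) ⊓ H = ⁅𝐂(V4 z t), 𝐂(V4 z t)⁆ := by
  have l : 𝐂(V4 z t) ≤ 𝐂₁(z) := fun _ k => mem_c1.2 ((mem_N h.p).1 k).1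
  have l0 : 𝐂(V4 a t0) ≤ 𝐂₁(a) := fun _ k => mem_c1.2 ((mem_N M.p).1 k).1
  refine le_antisymm (fun g hg => ?_) (le_inf (commutator_le_left_of_le_normalizer le_normalizer)
    (commutator_le.2 fun x hx y hy => ix.comm (l hx) (ix.norm h.HC (l hy)) (le_normalizer (l hy))))
  have k1 : Q0 ⊓ 𝐂₁(t0) ≤ h.hom.pre ⁅𝐂(V4 z t), 𝐂(V4 z t)⁆ := M.d.trans (commutator_le.2 fun x hx n hn => by
    obtain ⟨k, c⟩ := h.up n (l0 hn)
    obtain ⟨b, e⟩ := h.cmm c hx.1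
    exact h.hom.mem_pre.2 ⟨b, e ▸ commutator_mem_commutator ((h.corN M (h.cself hx.1)).2 (M.p.A_le hx))
      ((h.corN M c).2 hn)⟩)
  have k2 : 𝐂(V4 a t0) ≤ h.lift ⁅𝐂(V4 z t), 𝐂(V4 z t)⁆ := M.pf.trans (commutator_le.2 fun x hx n hn => by
    obtain ⟨k, c⟩ := h.up n (l0 hn)
    obtain ⟨y, d⟩ := h.up x (l0 hx)
    exact h.mem_lift.2 ⟨_, commutator_mem_commutator ((h.corN M d).2 hx) ((h.corN M c).2 hn),
      h.cmul (h.cconj d c) (h.cinv c)⟩)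
  obtain ⟨m, c⟩ := h.down g hg.2
  obtain ⟨k, hk, d⟩ := h.mem_lift.1 (k2 ((h.corN M c).1 hg.1))
  rcases h.left' c d with rfl | rfl
  exacts [hk, mul_mem (h.tz ▸ (h.hom.mem_pre.1 (k1 ⟨M.l.mem, mem_c1.2 M.p.tz.symm⟩)).2) hk]

theorem exists_su (ix : Ix H 𝐂₁(z)) : ∃ U, Su Q H P z t U Q0 a t0 F r Θ := by
  have p := h.p
  have nN : 𝐍(V4 z t) ≤ 𝐍(𝐂(V4 z t) ⊓ H) := fun g hg => cj_eq_self_iff.1 (by
    rw [h.N_eq M ix, cj_commutator, cj_centralizer, cj_eq_self hg])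
  have mE : ∀ x ∈ Q0 ⊓ cj[r] Q0, Θ x ∈ Q ⊓ P := fun x hx => ⟨h.mem x hx.1, (h.pp (h.cself hx.1)).2 hx.2⟩
  have Ft : Θ F * t * (Θ F)⁻¹ = z * t := by
    rw [← h.tt, ← h.hom.conj M.FQ M.tQ, M.Ft, h.hom _ M.l.mem _ M.tQ, h.tz]
  have key : ∀ s ∈ Q ⊔ P, s * z * s⁻¹ = t → s * t * s⁻¹ = z → s * Θ F * s⁻¹ ∈ P ∧
      s * Θ F * s⁻¹ * z * (s * Θ F * s⁻¹)⁻¹ = t * z := fun s _ a b => ⟨p.cjl s a ▸ conj_mem_cj s (h.mem _ M.FQ), by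
    nth_rw 1 [← b]
    rw [show s * Θ F * s⁻¹ * (s * t * s⁻¹) * (s * Θ F * s⁻¹)⁻¹ = s * (Θ F * t * (Θ F)⁻¹) * s⁻¹ by group, Ft,
      conj_mul_conj, a, b]⟩
  obtain ⟨s, hs, sz, st⟩ := p.exists_swap
  obtain ⟨u1, u2⟩ := key s hs sz st
  have nz : ∀ {X : Type _} [Group X] {u z t : X}, t ≠ 1 → u * z * u⁻¹ = t * z → ¬ z * u = u * z := fun n e k =>
    n (mul_eq_right.1 (e.symm.trans (conj_eq_iff.2 k.symm)))
  have nz0 : ¬ a * (r * F * r⁻¹) = r * F * r⁻¹ * a := fun k =>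
    M.p.r.z_ne (mul_eq_right.1 (M.Ua.symm.trans (conj_eq_iff.2 k.symm)))
  generalize hu : s * Θ F * s⁻¹ = u at u1 u2
  let W : Subgroup G :=
    { carrier := {y | ∃ x ∈ Q0 ⊓ cj[r] Q0, Θ x = y ∧ (y * u = u * y ↔ x * (r * F * r⁻¹) = r * F * r⁻¹ * x)}
      one_mem' := ⟨1, one_mem _, h.hom.one, by simp⟩
      mul_mem' := by
        rintro _ _ ⟨x, hx, rfl, e⟩ ⟨y, hy, rfl, e'⟩
        exact ⟨_, mul_mem hx hy, h.hom _ hx.1 _ hy.1, by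
          rw [comm_mul p.r.toEX u1 (mE x hx).2 (mE y hy).2, comm_mul M.p.r.toEX M.UP hx.2 hy.2, e, e']⟩
      inv_mem' := by
        rintro _ ⟨x, hx, rfl, e⟩
        rw [inv_eq_of_mul_eq_one_left (p.E_sq (mE x hx))]
        exact ⟨x, hx, rfl, e⟩ }
  have sE : ∀ y ∈ Q ⊓ P, ∃ x ∈ Q0 ⊓ cj[r] Q0, Θ x = y := fun y hy => by
    obtain ⟨x, hx, rfl⟩ := h.surj y hy.1
    exact ⟨x, ⟨hx, (h.pp (h.cself hx)).1 hy.2⟩, rfl⟩
  obtain ⟨q, hq, c, k⟩ := BabU.move_char p.l.toEX (W := W) (U := Q ⊓ P)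
    ⟨a, M.p.V_le M.p.zV, h.tz, iff_of_false (nz p.r.z_ne u2) nz0⟩ (by rintro _ ⟨x, hx, rfl, -⟩; exact mE x hx)
    inf_le_left fun y hy y' hy' n n' => by
      obtain ⟨x, hx, rfl⟩ := sE y hy
      obtain ⟨x', hx', rfl⟩ := sE y' hy'
      refine ⟨_, mul_mem hx hx', h.hom _ hx.1 _ hx'.1, ?_⟩
      rw [comm_mul p.r.toEX u1 hy.2 hy'.2, comm_mul M.p.r.toEX M.UP hx.2 hx'.2]
      have := fun e => n ⟨x, hx, rfl, e⟩
      have := fun e => n' ⟨x', hx', rfl, e⟩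
      tauto
  have qt : q * t = t * q := (c t ⟨t0, M.p.V_le M.p.tV, h.tt, iff_of_true (p.r.zc u1).symm (M.p.r.zc M.UP).symm⟩).symm
  have sz' : q⁻¹ * s * z * (q⁻¹ * s)⁻¹ = t := by
    rw [← conj_eq_iff.2 (Commute.inv_left qt).eq, ← sz]; group
  have st' : q⁻¹ * s * t * (q⁻¹ * s)⁻¹ = z := by
    rw [← conj_eq_iff.2 (p.l.zc (inv_mem hq)), ← st]; group
  have hs' := mul_mem (inv_mem (mem_sup_left hq)) hs
  obtain ⟨v1, v2⟩ := key _ hs' sz' st'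
  refine ⟨_, h, M, v1, by rw [← conj_mul_conj, ← h.hom _ M.FQ _ M.FQ, M.FF, h.hom.one]; group, v2, fun x hx => ?_,
    nN (p.X_norm_V (mem_sup_right v1)), fun n hn => ?_⟩
  · rw [show q⁻¹ * s * Θ F * (q⁻¹ * s)⁻¹ = q⁻¹ * u * q by rw [← hu]; group,
      show Θ x * (q⁻¹ * u * q) = q⁻¹ * (q * Θ x * q⁻¹ * u) * q by group,
      show q⁻¹ * u * q * Θ x = q⁻¹ * (u * (q * Θ x * q⁻¹)) * q by group, mul_left_inj, mul_right_inj]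
    by_cases w : Θ x ∈ W
    · rw [conj_eq_of_mem_centralizer c w]
      obtain ⟨y, hy, e, k⟩ := w
      exact h.inj _ hy.1 _ hx.1 e ▸ k
    · rw [k _ (mE x hx) w, comm_mul p.r.toEX u1 p.zP (mE x hx).2]
      have := fun e => w ⟨x, hx, rfl, e⟩
      have := nz p.r.z_ne u2
      tauto
  · generalize q⁻¹ * s = s at *
    obtain ⟨n, hk, rfl⟩ := (cj_eq_self (nN (p.X_norm_V hs'))).ge hn
    obtain ⟨m, d⟩ := h.down n hk.2
    obtain ⟨b0, hb, e⟩ := M.fb m ((h.corN M d).1 hk.1)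
    obtain ⟨b, d'⟩ := h.up b0 hb.2
    have d2 := h.cmul (h.cinv d') d
    refine ⟨s * b * s⁻¹, ⟨p.symm.cjl s st' ▸ conj_mem_cj s ((h.pp d').2 hb.1), by
      rw [← sz', ← cj_centralizer_singleton]; exact conj_mem_cj s (h.HC d'.l)⟩, ?_⟩
    rw [← sz', ← cj_Fx, mem_cj]
    have : b⁻¹ * n ∈ Fx (Θ F) z := mem_Fx.2 ⟨h.HC d2.l, by
      have b := h.cm M.FQ d2.r
      rwa [d2.e _ M.FQ, ← h.hom.inv M.FQ, ← h.hom _ b _ (inv_mem M.FQ), ← h.tz,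
        h.mem_zp (mul_mem b (inv_mem M.FQ)) M.l.mem]⟩
    simpa [mul_assoc] using this

end Sv

end CF.E62
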