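import Cfsg.Agent.E62.G2
import Cfsg.Agent.Known.Mon.Sect

/-! The isomorphism between the centralisers. -/

set_option autoImplicit false
set_option linter.unusedSectionVars false

namespace CF.E62

open Cfsg Subgroup CF.Loc CF.Even CF.LX CF.J4
open scoped commutatorElement

variable {G E : Type*} [Group G] [Group E] [Finite G] [Finite E]
variable {Q H P : Subgroup G} {z t U : G} {Q0 : Subgroup E} {a t0 F r : E} {Θ ψ : E → G}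

theorem le_Fx (l : EX P t) (hu : U ∈ P) : P ≤ Fx U t := fun _ k => mem_Fx.2 ⟨l.le_c1 k, l.comm_mem k hu⟩

theorem MA.na (M : MA Q0 a t0 F r) : ¬ a * (r * F * r⁻¹) = r * F * r⁻¹ * a := fun k =>
  M.p.r.z_ne (mul_eq_right.1 (M.Ua.symm.trans (conj_eq_iff.2 k.symm)))

theorem N_le (p : Pair Q P z t) : 𝐂(V4 z t) ≤ 𝐂₁(z) := fun _ k => mem_c1.2 ((mem_N p).1 k).1

theorem N_le' (p : Pair Q P z t) : 𝐂(V4 z t) ≤ 𝐂₁(t) := fun _ k => mem_c1.2 ((mem_N p).1 k).2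

theorem N_norm_E (p : Pair Q P z t) {k e : G} (hk : k ∈ 𝐂(V4 z t)) (he : e ∈ Q ⊓ P) : k * e * k⁻¹ ∈ Q ⊓ P :=
  ⟨norm_mem' (p.C_norm_Q hk) he.1, norm_mem' (p.C_norm_P hk) he.2⟩

/-- the correspondence between the second extraspecial groups -/
def Lam (H P : Subgroup G) (U : G) (Θ : E → G) (Q0 : Subgroup E) (a U0 : E) (p : G) (x : E) : Prop :=
  Cor H Θ Q0 a p x ∧ p ∈ P ∧ (p * U = U * p ↔ x * U0 = U0 * x)

/-- the centralisers are identified -/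
structure Ps (Q H P : Subgroup G) (z t U : G) (Q0 : Subgroup E) (a t0 F r : E) (Θ ψ : E → G) : Prop
    extends Su Q H P z t U Q0 a t0 F r Θ where
  hm : HomOn 𝐂₁(a) ψ
  co : ∀ m ∈ 𝐂₁(a), Cor H Θ Q0 a (ψ m) m
  eq : ∀ x ∈ Q0, ψ x = Θ x
  un : ∀ n ∈ 𝐂(V4 a t0), U * ψ n * U⁻¹ = ψ (r * F * r⁻¹ * n * (r * F * r⁻¹)⁻¹)

namespace Su
variable (h : Su Q H P z t U Q0 a t0 F r Θ)
include h

theorem nz : ¬ z * U = U * z := fun k => h.p.r.z_ne (mul_eq_right.1 (h.Uz.symm.trans (conj_eq_iff.2 k.symm)))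

theorem cN {g : G} {m : E} (c : Cor H Θ Q0 a g m) : g ∈ 𝐂(V4 z t) ↔ m ∈ 𝐂(V4 a t0) := h.toSv.corN h.M c

theorem k2 {k : G} {m : E} (c : Cor H Θ Q0 a k m) (hk : k ∈ 𝐂(V4 z t)) (f : k ∈ Fx U t) : m ∈ Fx (r * F * r⁻¹) t0 := by
  have M := h.M
  have hm := (h.cN c).1 hk
  obtain ⟨x, hx, e⟩ := M.k1 hm
  have hn := mul_mem (inv_mem (M.p.A_le hx)) hm
  refine (mul_mem_cancel_left (inv_mem (le_Fx M.p.r.toEX M.UP (centE M.p M.cQ M.cE ⟨hx.1, fun y hy => ?_⟩).2))).1 e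
  have b := N_norm_E M.p (inv_mem hn) hy
  have k1 := Fx.comm f (h.p.r.le_c1 ((h.pp (h.cself b.1)).2 b.2))
  rw [c.e _ b.1, h.UE _ (N_norm_E M.p hm b), h.UE _ b, ← Fx.comm e (M.p.r.le_c1 b.2),
    show x⁻¹ * m * ((x⁻¹ * m)⁻¹ * y * (x⁻¹ * m)⁻¹⁻¹) * (x⁻¹ * m)⁻¹ = y by group,
    show m * ((x⁻¹ * m)⁻¹ * y * (x⁻¹ * m)⁻¹⁻¹) * m⁻¹ = x * y * x⁻¹ by group] at k1
  refine (M.l.conj_cases hx.1 hy.1).elim (fun k => (conj_eq_iff.1 k).symm) fun k => ?_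
  rw [k, comm_mul M.p.r.toEX M.UP M.p.zP hy.2] at k1
  have := M.na
  tauto

theorem lam_ex {x : E} (hx : x ∈ cj[r] Q0 ⊓ 𝐂₁(a)) : ∃ p, Lam H P U Θ Q0 a (r * F * r⁻¹) p x := by
  obtain ⟨g, c⟩ := h.up x hx.2
  have k := (h.pp c).2 hx.1
  by_cases e : g * U = U * g ↔ x * (r * F * r⁻¹) = r * F * r⁻¹ * x
  · exact ⟨g, c, k, e⟩
  · refine ⟨z * g, by simpa using h.cmul h.cz c, mul_mem h.p.zP k, ?_⟩
    rw [comm_mul h.p.r.toEX h.UP h.p.zP k]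
    have := h.nz
    tauto

theorem lam_uniq {p : G} {x y : E} (c : Lam H P U Θ Q0 a (r * F * r⁻¹) p x) (d : Lam H P U Θ Q0 a (r * F * r⁻¹) p y) :
    x = y := by
  refine (h.right' c.1 d.1).resolve_right fun e => ?_
  have k := c.2.2.symm.trans d.2.2
  rw [e, comm_mul h.M.p.r.toEX h.M.UP h.M.p.zP ((h.pp d.1).1 d.2.1)] at k
  have := h.M.na
  tauto

theorem lam_N {p g : G} {x n : E} (c : Lam H P U Θ Q0 a (r * F * r⁻¹) p x) (d : Cor H Θ Q0 a g n) (hg : g ∈ 𝐂(V4 z t)) :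
    Lam H P U Θ Q0 a (r * F * r⁻¹) (g * p * g⁻¹) (n * x * n⁻¹) := by
  have M := h.M
  obtain ⟨q, hq, f⟩ := h.k1 g ⟨hg, d.l⟩
  obtain ⟨y, hy, rfl⟩ := h.surj q hq.1
  have d1 := h.cmul (h.cinv (h.cself hy)) d
  have hk := mul_mem (inv_mem (h.p.A_le hq)) hg
  have c1 := h.cconj d1 c.1
  have p1 := norm_mem' (h.p.C_norm_P hk) c.2.1
  have e1 := (Fx.comm f (h.p.r.le_c1 c.2.1)).trans
    (c.2.2.trans (Fx.comm (h.k2 d1 hk f) (M.p.r.le_c1 ((h.pp c.1).1 c.2.1))).symm)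
  refine ⟨h.cconj d c.1, norm_mem' (h.p.C_norm_P hg) c.2.1, ?_⟩
  rw [show g * p * g⁻¹ = ⁅Θ y, (Θ y)⁻¹ * g * p * ((Θ y)⁻¹ * g)⁻¹⁆ * ((Θ y)⁻¹ * g * p * ((Θ y)⁻¹ * g)⁻¹) by
    rw [commutatorElement_def]; group, show n * x * n⁻¹ = ⁅y, y⁻¹ * n * x * (y⁻¹ * n)⁻¹⁆ * (y⁻¹ * n * x * (y⁻¹ * n)⁻¹) by
    rw [commutatorElement_def]; group]
  have p0 := (h.pp c1).1 p1
  have b := cmm2 M.p ⟨hy, N_le' M.p ((h.cN (h.cself hy)).1 (h.p.A_le hq))⟩ (mem_sup_left ⟨p0, c1.r⟩)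
  rw [comm_mul h.p.r.toEX h.UP (cmm2 h.p hq (mem_sup_left ⟨p1, h.HC c1.l⟩)).2 p1, comm_mul M.p.r.toEX M.UP b.2 p0,
    ← (h.cmm c1 hy).2, h.UE _ b, e1]

theorem lam_U {p : G} {x : E} (c : Lam H P U Θ Q0 a (r * F * r⁻¹) p x) :
    Lam H P U Θ Q0 a (r * F * r⁻¹) (U * p * U⁻¹) (r * F * r⁻¹ * x * (r * F * r⁻¹)⁻¹) := by
  have M := h.M
  have p0 := (h.pp c.1).1 c.2.1
  by_cases e : p * U = U * p
  · rwa [conj_eq_iff.2 e.symm, conj_eq_iff.2 (c.2.2.1 e).symm]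
  rw [(h.p.r.conj_cases h.UP c.2.1).resolve_left fun k => e (conj_eq_iff.1 k).symm,
    (M.p.r.conj_cases M.UP p0).resolve_left fun k => e (c.2.2.2 (conj_eq_iff.1 k).symm)]
  refine ⟨h.cmul (h.tt ▸ h.cself M.tQ) c.1, mul_mem h.p.r.mem c.2.1, ?_⟩
  rw [comm_mul h.p.r.toEX h.UP h.p.r.mem c.2.1, comm_mul M.p.r.toEX M.UP M.p.r.mem p0, c.2.2,
    iff_true_intro (h.p.r.zc h.UP).symm, iff_true_intro (M.p.r.zc M.UP).symm]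

/-- the pairs whose conjugates correspond as well -/
def Γ : Subgroup (G × E) := (𝐂(V4 a t0)).comap (MonoidHom.snd G E) ⊓ h.D ⊓
  h.D.comap (MulAut.conj (U, r * F * r⁻¹)).toMonoidHom

theorem mem_Γ {g : G} {n : E} : (g, n) ∈ h.Γ ↔ (n ∈ 𝐂(V4 a t0) ∧ Cor H Θ Q0 a g n) ∧
    Cor H Θ Q0 a (U * g * U⁻¹) (r * F * r⁻¹ * n * (r * F * r⁻¹)⁻¹) := Iff.rfl

theorem Γ_z : (z, 1) ∉ h.Γ := fun k => by
  have := (h.mem_Γ.1 k).2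
  rw [mul_one, mul_inv_cancel, h.Uz] at this
  rcases h.left this with e | e
  exacts [h.p.ne ((eq_inv_of_mul_eq_one_left e).trans h.l.zi), h.p.r.z_ne (mul_eq_right.1 e)]

theorem Γ_uniq {g k : G} {n : E} (c : (g, n) ∈ h.Γ) (d : (k, n) ∈ h.Γ) : g = k :=
  (h.left' (h.mem_Γ.1 c).1.2 (h.mem_Γ.1 d).1.2).resolve_right fun e => h.Γ_z (by
    simpa [e] using mul_mem c (inv_mem d))

theorem Γ_or {g : G} {n : E} (c : Cor H Θ Q0 a g n) (hn : n ∈ 𝐂(V4 a t0)) : (g, n) ∈ h.Γ ∨ (z * g, n) ∈ h.Γ := by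
  have M := h.M
  have hg := (h.cN c).2 hn
  have g1 := norm_mem' h.UN (show g ∈ 𝐂(V4 z t) ⊓ H from ⟨hg, c.l⟩)
  obtain ⟨m, d⟩ := h.down _ g1.2
  have n1 : r * F * r⁻¹ ∈ 𝐍(𝐂(V4 a t0)) := normalizer_le_normalizer_centralizer _ (M.p.X_norm_V (mem_sup_right M.UP))
  have ui : (r * F * r⁻¹)⁻¹ = r * F * r⁻¹ := inv_eq_of_mul_eq_one_left M.UU
  have vi : U⁻¹ = U := inv_eq_of_mul_eq_one_left h.UU
  generalize hu : r * F * r⁻¹ = u at *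
  have hδ := mul_mem (inv_mem (norm_mem' n1 hn)) ((h.cN d).1 g1.1)
  have k : ∀ x ∈ cj[r] Q0, x * a = a * x → (u * n * u⁻¹)⁻¹ * m * x * ((u * n * u⁻¹)⁻¹ * m)⁻¹ = x := fun x hx e => by
    obtain ⟨p, l⟩ := h.lam_ex ⟨hx, mem_c1.2 e⟩
    have l1 := h.lam_U (h.lam_N (h.lam_U l) c hg)
    have l2 := h.lam_N l d g1.1
    rw [show U * (g * (U * p * U⁻¹) * g⁻¹) * U⁻¹ = U * g * U⁻¹ * p * (U * g * U⁻¹)⁻¹ by
      nth_rw 2 [← vi]; nth_rw 2 [vi]; group] at l1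
    have := h.lam_uniq l1 l2
    rw [hu] at this
    rw [show (u * n * u⁻¹)⁻¹ * m * x * ((u * n * u⁻¹)⁻¹ * m)⁻¹ = (u * n * u⁻¹)⁻¹ * (m * x * m⁻¹) * (u * n * u⁻¹) by group,
      ← this]
    calc _ = u * n⁻¹ * (u⁻¹ * u) * n * u * x * u⁻¹ * n⁻¹ * (u⁻¹ * u) * n * u⁻¹ := by group
      _ = u * u * x * (u * u)⁻¹ := by group
      _ = x := by rw [← hu, M.UU]; group
  have k1 := M.p.r.cent_c1 M.p.zP M.l.zz (M.p.r.mem_of_hyperplane M.p.zP M.l.zz M.l.z_ne M.ne.symm ((mem_N M.p).1 hδ).2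
    fun x hx e => by rw [k x hx e, mul_inv_cancel]; exact one_mem _) fun x hx e => (conj_eq_iff.1 (k x hx e)).symm
  have ct := h.cmul (h.cmul (h.tt ▸ h.cself M.tQ) h.cz) d
  have nN := (mem_N M.p).1 (norm_mem' n1 hn)
  rw [mem_Γ, mem_Γ, conj_mul_conj, h.Uz, hu]
  have cz : Cor H Θ Q0 a (z * g) n := by simpa using h.cmul h.cz c
  rw [inv_mul_eq_one, inv_mul_eq_iff_eq_mul, inv_mul_eq_iff_eq_mul, inv_mul_eq_iff_eq_mul, ← mul_assoc, nN.1, nN.2,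
    mul_assoc t0, nN.1] at k1
  rcases k1 with e | e | e | e
  · exact .inl ⟨⟨hn, c⟩, e ▸ d⟩
  · exact .inr ⟨⟨hn, cz⟩, by rwa [e, mul_one, ← mul_assoc t0, M.p.r.zz, one_mul] at ct⟩
  · exact .inl ⟨⟨hn, c⟩, by have := h.cmul h.ca d; rwa [e, one_mul, ← mul_assoc a, M.l.zz, one_mul] at this⟩
  · exact .inr ⟨⟨hn, cz⟩, by
      have := h.cmul h.ca ct
      rwa [e, mul_one, ← mul_assoc t0, M.p.r.zz, one_mul, one_mul, ← mul_assoc a, M.l.zz, one_mul] at this⟩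

theorem Γ_cmm {g k : G} {m n : E} (c : Cor H Θ Q0 a g m) (d : Cor H Θ Q0 a k n) (hm : m ∈ 𝐂(V4 a t0))
    (hn : n ∈ 𝐂(V4 a t0)) : (⁅g, k⁆, ⁅m, n⁆) ∈ h.Γ := by
  have e1 : ∀ {x y}, x ∈ H → y ∈ H → ⁅z * x, y⁆ = ⁅x, y⁆ := fun {x y} hx hy => by
    rw [commutatorElement_def, commutatorElement_def, show z * x * y * (z * x)⁻¹ = z * (x * y * x⁻¹) * z⁻¹ by group,
      conj_eq_iff.2 (mem_c1.1 (h.HC (mul_mem (mul_mem hx hy) (inv_mem hx)))).symm]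
  have e2 : ∀ {x y}, x ∈ H → y ∈ H → ⁅x, z * y⁆ = ⁅x, y⁆ := fun {x y} hx hy => by
    rw [← commutatorElement_inv, e1 hy hx, commutatorElement_inv]
  have zH := h.QH h.l.mem
  rcases h.Γ_or c hm with u | u <;> rcases h.Γ_or d hn with v | v <;>
    have := mul_mem (mul_mem (mul_mem u v) (inv_mem u)) (inv_mem v)
  · exact this
  · exact e2 c.l d.l ▸ this
  · exact e1 c.l d.l ▸ this
  · exact e2 c.l d.l ▸ e1 c.l (mul_mem zH d.l) ▸ this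

theorem Γ_Q {x : E} (hx : x ∈ Q0 ⊓ 𝐂₁(t0)) : (Θ x, x) ∈ h.Γ := by
  let W : Subgroup E :=
    { carrier := {x | x ∈ Q0 ∧ (Θ x, x) ∈ h.Γ}
      one_mem' := ⟨one_mem _, h.hom.one ▸ one_mem _⟩
      mul_mem' := fun a b => ⟨mul_mem a.1 b.1, h.hom _ a.1 _ b.1 ▸ mul_mem a.2 b.2⟩
      inv_mem' := fun a => ⟨inv_mem a.1, h.hom.inv a.1 ▸ inv_mem a.2⟩ }
  refine ((h.M.d.trans (commutator_le.2 fun y hy n hn => ?_) : _ ≤ W) hx).2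
  obtain ⟨g, c⟩ := h.up n (N_le h.M.p hn)
  exact ⟨(h.cmm c hy.1).1, (h.cmm c hy.1).2 ▸ h.Γ_cmm (h.cself hy.1) c (h.M.p.A_le hy) hn⟩

theorem exists_chi : ∃ χ : h.D →* ℤˣ, χ ⟨(z, 1), h.cz⟩ = -1 := by
  let S : Subgroup (G × E) :=
    { carrier := {d | d.2 ∈ Q0 ∧ d.1 = Θ d.2}
      one_mem' := ⟨one_mem _, h.hom.one.symm⟩
      mul_mem' := fun a b => ⟨mul_mem a.1 b.1, by rw [Prod.fst_mul, Prod.snd_mul, a.2, b.2, h.hom _ a.1 _ b.1]⟩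
      inv_mem' := fun a => ⟨inv_mem a.1, by rw [Prod.fst_inv, Prod.snd_inv, a.2, h.hom.inv a.1]⟩ }
  have nS : h.Γ ≤ 𝐍(S) := fun d k => mem_normalizer_fintype fun x hx =>
    ⟨h.cm hx.1 k.1.2.r, (congrArg (fun y => d.1 * y * d.1⁻¹) hx.2).trans (k.1.2.e _ hx.1)⟩
  refine exists_sign (K := (𝐂(V4 a t0) ⊔ Q0).comap ((MonoidHom.snd G E).comp h.D.subtype))
    (L := (h.Γ ⊔ S).subgroupOf h.D) (fun x => Subtype.ext (Prod.ext (mem_c1.1 (h.HC x.2.l)) (by simp)))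
    (Subtype.ext (Prod.ext h.l.zz (mul_one _))) (fun k => h.Γ_z ?_) (fun x hx => ?_) ?_
  · obtain ⟨d, hd, s, hs, e⟩ := (mem_sup_of_le_normalizer' nS).1 k
    have : s.2 ∈ 𝐂(V4 a t0) := eq_inv_of_mul_eq_one_right (congrArg Prod.snd e) ▸ inv_mem hd.1.1
    have := mul_mem hd (show (s.1, s.2) ∈ h.Γ from hs.2 ▸ h.Γ_Q ⟨hs.1, N_le' h.M.p this⟩)
    rwa [e] at this
  · obtain ⟨n, hn, q, hq, e⟩ := (mem_sup_of_le_normalizer' h.M.p.C_norm_Q).1 hx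
    obtain ⟨⟨g, m⟩, c⟩ := x
    obtain rfl : n * q = m := e
    have d := h.cmul c (h.cinv (h.cself hq))
    rw [mul_inv_cancel_right] at d
    have s : (Θ q, q) ∈ h.Γ ⊔ S := mem_sup_right ⟨hq, rfl⟩
    refine (h.Γ_or d hn).imp (fun k => ?_) fun k => ?_
    · simpa [mem_subgroupOf] using mul_mem (mem_sup_left k) s
    · simpa [mem_subgroupOf, mul_assoc] using mul_mem (mem_sup_left k) s
  · rw [index_comap, show ((MonoidHom.snd G E).comp h.D.subtype).range = 𝐂₁(a) from le_antisymm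
      (by rintro _ ⟨d, rfl⟩; exact d.2.r) fun m hm => (h.up m hm).elim fun g c => ⟨⟨(g, m), c⟩, rfl⟩]
    exact h.M.odd

theorem exists_ps : ∃ ψ, Ps Q H P z t U Q0 a t0 F r Θ ψ := by
  classical
  have M := h.M
  obtain ⟨χ, hχ⟩ := h.exists_chi
  have neg : ∀ g m (c : Cor H Θ Q0 a g m) c', χ ⟨(z * g, m), c'⟩ = -χ ⟨(g, m), c⟩ := fun g m c c' => by
    rw [← neg_one_mul, ← hχ, ← map_mul]; congr 2; simp
  obtain ⟨θ, hθ⟩ := CF.Known.Mon.exists_hom_of_rel (A := 𝐂₁(a)) (L := G)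
    (fun m g => ∃ c : Cor H Θ Q0 a g m, χ ⟨(g, m), c⟩ = 1) (fun m => by
      obtain ⟨g, c⟩ := h.up m m.2
      have c' : Cor H Θ Q0 a (z * g) m := by simpa using h.cmul h.cz c
      rcases Int.units_eq_one_or (χ ⟨(g, m), c⟩) with e | e
      exacts [⟨g, c, e⟩, ⟨_, c', (neg g m c c').trans (by rw [e, neg_neg])⟩])
    (fun m g k ⟨c, e⟩ ⟨d, e'⟩ => (h.left' c d).resolve_right (by
      rintro rfl
      exact absurd (e.symm.trans ((neg _ _ d c).trans (congrArg Neg.neg e'))) (by decide)))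
    fun m g n k ⟨c, e⟩ ⟨d, e'⟩ => ⟨h.cmul c d, (map_mul χ ⟨(g, m), c⟩ ⟨(k, n), d⟩).trans (by rw [e, e', mul_one])⟩
  let ψ : E → G := fun m => if k : m ∈ 𝐂₁(a) then θ ⟨m, k⟩ else 1
  have e0 : ∀ m (k : m ∈ 𝐂₁(a)), ψ m = θ ⟨m, k⟩ := fun m k => dif_pos k
  have hm : HomOn 𝐂₁(a) ψ := fun x hx y hy => by rw [e0 _ hx, e0 _ hy, e0 _ (mul_mem hx hy), ← map_mul]; rfl
  have co : ∀ m ∈ 𝐂₁(a), Cor H Θ Q0 a (ψ m) m := fun m k => e0 m k ▸ ((hθ ⟨m, k⟩ _).1 rfl).1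
  have gam : ∀ n ∈ 𝐂(V4 a t0), (ψ n, n) ∈ h.Γ := fun n hn => by
    let W : Subgroup E :=
      { carrier := {x | x ∈ 𝐂₁(a) ∧ (ψ x, x) ∈ h.Γ}
        one_mem' := ⟨one_mem _, hm.one ▸ one_mem _⟩
        mul_mem' := fun a b => ⟨mul_mem a.1 b.1, hm _ a.1 _ b.1 ▸ mul_mem a.2 b.2⟩
        inv_mem' := fun a => ⟨inv_mem a.1, hm.inv a.1 ▸ inv_mem a.2⟩ }
    refine ((M.pf.trans (commutator_le.2 fun x hx y hy => ?_) : _ ≤ W) hn).2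
    have x1 := N_le M.p hx
    have y1 := N_le M.p hy
    refine ⟨mul_mem (mul_mem (mul_mem x1 y1) (inv_mem x1)) (inv_mem y1), ?_⟩
    have := h.Γ_cmm (co x x1) (co y y1) hx hy
    rwa [commutatorElement_def, ← hm.conj x1 y1, ← hm.inv y1, ← hm _ (mul_mem (mul_mem x1 y1) (inv_mem x1)) _ (inv_mem y1)]
      at this
  have q1 : ∀ x ∈ Q0 ⊓ 𝐂₁(t0), ψ x = Θ x := fun x hx => h.Γ_uniq (gam x (M.p.A_le hx)) (h.Γ_Q hx)
  refine ⟨ψ, h, hm, co, fun x hx => ?_, fun n hn => ?_⟩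
  · have hF : ψ F = Θ F := by
      obtain ⟨c, hc, e⟩ := M.fe
      rw [← e, hm.conj hc (M.l.le_c1 M.tQ), q1 t0 ⟨M.tQ, mem_c1.2 rfl⟩, (co c hc).e _ M.tQ]
    rcases M.l.mem_or M.tQ M.Ft hx with e | e
    · exact q1 x ⟨hx, mem_c1.2 e⟩
    · have b := mul_mem (inv_mem M.FQ) hx
      rw [← mul_inv_cancel_left F x, hm _ (M.l.le_c1 M.FQ) _ (M.l.le_c1 b), h.hom _ M.FQ _ b, hF, q1 _ ⟨b, mem_c1.2 e⟩]
  · have k := h.mem_Γ.1 (gam n hn)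
    have n1 := norm_mem' (normalizer_le_normalizer_centralizer _ (M.p.X_norm_V (mem_sup_right M.UP))) hn
    refine h.Γ_uniq (h.mem_Γ.2 ⟨⟨n1, k.2⟩, ?_⟩) (gam _ n1)
    rw [show U * (U * ψ n * U⁻¹) * U⁻¹ = U * U * ψ n * (U * U)⁻¹ by group, h.UU, show r * F * r⁻¹ *
      (r * F * r⁻¹ * n * (r * F * r⁻¹)⁻¹) * (r * F * r⁻¹)⁻¹ = r * F * r⁻¹ * (r * F * r⁻¹) * n *
      (r * F * r⁻¹ * (r * F * r⁻¹))⁻¹ by group, M.UU]
    simpa using k.1.2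

end Su

end CF.E62
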