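import Cfsg.Agent.E62.G3
import Cfsg.Agent.E62.BN
import Cfsg.Agent.Invol.Dihedral

/-! The amalgam of the parabolic subgroups. -/

set_option autoImplicit false
set_option linter.unusedSectionVars false

namespace CF.E62

open Cfsg Subgroup CF.Loc CF.Even CF.LX CF.J4 CF.BN
open scoped commutatorElement

variable {G E : Type*} [Group G] [Group E] [Finite G] [Finite E]
variable {Q H P : Subgroup G} {z t U : G} {Q0 : Subgroup E} {a t0 F r s : E} {Θ ψ : E → G}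

/-- the second list of properties of the model -/
structure MB (Q0 : Subgroup E) (a t0 F r s : E) (T : BNPair E) (ρ : T.S → E) : Prop extends MA Q0 a t0 F r where
  sim : IsSimpleGroup E
  hN : ∀ i, ρ i ∈ T.N
  hw : ∀ i, wt T (ρ i) = (cox T).s i
  h1 : ∀ i, ρ i * ρ i = 1
  ho : ∀ i j, (ρ i * ρ j) ^ orderOf ((cox T).s i * (cox T).s j) = 1
  cs : ∀ i, ρ i = r ∨ ρ i = s ∨ ρ i ∈ 𝐂(V4 a t0)
  o3 : ∀ i j, ρ i = s → ρ j = r → 3 ∣ orderOf ((cox T).s i * (cox T).s j)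
  BN : T.B ≤ 𝐂(V4 a t0) ⊔ Q0
  sa : s ∈ 𝐂₁(a)
  ss : s * s = 1
  sr : (s * r) ^ 3 = 1
  sF : s * F * s ∈ 𝐂₁(t0)
  sb : r * (s * F * s) * r * (s * (r * (s * F * s) * r) * s) * (r * (s * F * s) * r) = s
  g : ∀ d ∈ 𝐂(𝐂(V4 a t0) ⊓ 𝐂₁(s * t0 * s)), r * d * r = d⁻¹ → s * d * s = d⁻¹ →
    s * d = r * (s * F * s) * r * (d⁻¹ * (s * (r * (s * F * s) * r) * s) * d) * (r * (s * F * s) * r) → d = 1

theorem MA.uF (M : MA Q0 a t0 F r) : (r * F * r⁻¹ * F) ^ 3 = 1 := by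
  have k : ∀ x, F * (F * x) = x := fun x => by rw [← mul_assoc, M.FF, one_mul]
  have := M.br
  have uu := M.UU
  generalize hu : r * F * r⁻¹ = u at *
  rw [M.ri, ← this] at hu
  simp only [mul_assoc, k] at hu
  simp only [pow_succ, pow_zero, one_mul, mul_assoc, hu, uu]

theorem braid_aux {A B F : G} (a : A * A = 1) (b : B * B = 1) (f : F * (B * (F * (B * F))) = B) :
    A * (A * B) ^ 3 = B * (A * F * A) * B * (((A * B) ^ 3)⁻¹ * (A * (B * (A * F * A) * B) * A) * (A * B) ^ 3) *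
      (B * (A * F * A) * B) := by
  have k : ∀ x, A * (A * x) = x := fun x => by rw [← mul_assoc, a, one_mul]
  have l : ∀ x, B * (B * x) = x := fun x => by rw [← mul_assoc, b, one_mul]
  have m : ∀ x, F * (B * (F * (B * (F * x)))) = B * x := fun x => by nth_rw 3 [← f]; simp only [mul_assoc]
  simp only [pow_succ, pow_zero, one_mul, mul_assoc, mul_inv_rev, inv_eq_of_mul_eq_one_left a,
    inv_eq_of_mul_eq_one_left b, k, l, m]

theorem MA.uN (M : MA Q0 a t0 F r) {n : E} (hn : n ∈ 𝐂(V4 a t0)) : r * F * r⁻¹ * n * (r * F * r⁻¹)⁻¹ ∈ 𝐂(V4 a t0) :=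
  norm_mem' (normalizer_le_normalizer_centralizer _ (M.p.X_norm_V (mem_sup_right M.UP))) hn

theorem MA.FN (M : MA Q0 a t0 F r) {n : E} (hn : n ∈ 𝐂(V4 a t0)) : F * n * F⁻¹ ∈ 𝐂(V4 a t0) :=
  norm_mem' (normalizer_le_normalizer_centralizer _ (M.p.X_norm_V (mem_sup_left M.FQ))) hn

theorem MA.rN (M : MA Q0 a t0 F r) {n : E} (hn : n ∈ 𝐂(V4 a t0)) : r * n * r ∈ 𝐂(V4 a t0) := by
  have := M.cjN.le (conj_mem_cj r hn)
  rwa [M.ri] at this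

namespace MB
variable {T : BNPair E} {ρ : T.S → E} (M : MB Q0 a t0 F r s T ρ)
include M

theorem si : s⁻¹ = s := inv_eq_of_mul_eq_one_left M.ss

theorem rsr : r * s * r = s * r * s := by
  have := M.sr
  rw [show (s * r) ^ 3 = s * r * s * (r * s * r) by simp only [pow_succ, pow_zero, one_mul, mul_assoc]] at this
  rw [eq_inv_of_mul_eq_one_right this]
  simp only [mul_inv_rev, M.si, M.ri, mul_assoc]

theorem sas : s * a * s = a := by rw [mem_c1.1 M.sa, mul_assoc, M.ss, mul_one]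

theorem rar : r * a * r = t0 := by rw [← M.ra, M.ri]

theorem rwr : r * (s * t0 * s) * r = s * t0 * s := by
  rw [← M.rar, show r * (s * (r * a * r) * s) * r = r * s * r * a * (r * s * r) by group, M.rsr,
    show s * r * s * a * (s * r * s) = s * (r * (s * a * s) * r) * s by group, M.sas]

end MB

namespace Ps
variable (h : Ps Q H P z t U Q0 a t0 F r Θ ψ)
include h

theorem pa : ψ a = z := (h.eq a h.e0.mem).trans h.tz

theorem pt : ψ t0 = t := (h.eq t0 h.M.tQ).trans h.tt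

theorem inj' {x y : E} (hx : x ∈ 𝐂₁(a)) (hy : y ∈ 𝐂₁(a)) (e : ψ x = ψ y) : x = y :=
  (h.right' (h.co x hx) (e ▸ h.co y hy)).resolve_right fun k => h.l.z_ne (by
    rw [k, h.hm _ (mem_c1.2 rfl) _ hy, h.pa] at e
    exact mul_eq_right.1 e)

theorem surj' {g : G} (hg : g ∈ H) : ∃ x ∈ 𝐂₁(a), ψ x = g := by
  obtain ⟨m, c⟩ := h.down g hg
  rcases h.left' c (h.co m c.r) with e | e
  · exact ⟨m, c.r, e.symm⟩
  · exact ⟨a * m, mul_mem (mem_c1.2 rfl) c.r, by rw [h.hm _ (mem_c1.2 rfl) _ c.r, h.pa, e]⟩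

theorem Fa : F ∈ 𝐂₁(a) := h.M.l.le_c1 h.M.FQ

theorem FF : ψ F * ψ F = 1 := by rw [← h.hm _ h.Fa _ h.Fa, h.M.FF, h.hm.one]

theorem uF : (U * ψ F) ^ 3 = 1 := by
  have M := h.M
  have k : ∀ n ∈ 𝐂(V4 a t0), U * ψ F * ψ n * (U * ψ F)⁻¹ = ψ (r * F * r⁻¹ * F * n * (r * F * r⁻¹ * F)⁻¹) := fun n hn => by
    have := h.un _ (M.FN hn)
    rw [h.hm.conj h.Fa (N_le M.p hn)] at this
    simpa only [mul_inv_rev, mul_assoc] using this
  have k1 : ∀ n ∈ 𝐂(V4 a t0), r * F * r⁻¹ * F * n * (r * F * r⁻¹ * F)⁻¹ ∈ 𝐂(V4 a t0) := fun n hn => by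
    simpa only [mul_inv_rev, mul_assoc] using M.uN (M.FN hn)
  have k3 : ∀ n ∈ 𝐂(V4 a t0), (U * ψ F) ^ 3 * ψ n * ((U * ψ F) ^ 3)⁻¹ = ψ n := fun n hn => by
    have e := M.uF
    generalize U * ψ F = x at *
    generalize r * F * r⁻¹ * F = y at *
    rw [show x ^ 3 * ψ n * (x ^ 3)⁻¹ = x * (x * (x * ψ n * x⁻¹) * x⁻¹) * x⁻¹ by simp [pow_succ, mul_assoc], k n hn, k _ (k1 n hn),
      k _ (k1 _ (k1 n hn)), show y * (y * (y * n * y⁻¹) * y⁻¹) * y⁻¹ = y ^ 3 * n * (y ^ 3)⁻¹ by simp [pow_succ, mul_assoc], e]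
    simp
  have k4 : ∀ y ∈ Q, y * t = t * y → (U * ψ F) ^ 3 * y * ((U * ψ F) ^ 3)⁻¹ = y := fun y hy e => by
    obtain ⟨x, hx, rfl⟩ := h.surj y hy
    rw [← h.eq x hx]
    exact k3 x (M.p.A_le ⟨hx, mem_c1.2 ((h.comm hx M.tQ).1 (h.tt.symm ▸ e))⟩)
  have k5 := h.l.cent_c1 h.p.tQ h.p.r.zz (h.l.mem_of_hyperplane h.p.tQ h.p.r.zz h.p.r.z_ne h.p.ne
    (conj_eq_iff.1 (k4 z h.l.mem h.p.tz.symm)) fun y hy e => by rw [k4 y hy e, mul_inv_cancel]; exact one_mem _)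
    fun y hy e => (conj_eq_iff.1 (k4 y hy e)).symm
  have c : U * ψ F * (U * ψ F) ^ 3 * (U * ψ F)⁻¹ = (U * ψ F) ^ 3 := conj_eq_iff.2 (Commute.self_pow _ _)
  have Fz : ψ F * z * (ψ F)⁻¹ = z := conj_eq_iff.2 (mem_c1.1 (h.HC (h.co F h.Fa).l))
  have Ft : ψ F * t * (ψ F)⁻¹ = z * t := by
    rw [← h.pt, ← h.hm.conj h.Fa (M.l.le_c1 M.tQ), M.Ft, h.hm _ (mem_c1.2 rfl) _ (M.l.le_c1 M.tQ), h.pa]
  have Ut : U * t * U⁻¹ = t := conj_eq_iff.2 (h.p.r.zc h.UP)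
  have e1 : U * ψ F * z * (U * ψ F)⁻¹ = t * z := by
    rw [show U * ψ F * z * (U * ψ F)⁻¹ = U * (ψ F * z * (ψ F)⁻¹) * U⁻¹ by group, Fz, h.Uz]
  have e2 : U * ψ F * t * (U * ψ F)⁻¹ = z := by
    rw [show U * ψ F * t * (U * ψ F)⁻¹ = U * (ψ F * t * (ψ F)⁻¹) * U⁻¹ by group, Ft, conj_mul_conj, h.Uz, Ut, h.p.tz,
      mul_assoc, h.p.r.zz, mul_one]
  rcases k5 with e | e | e | e
  · exact e
  all_goals rw [e] at c
  · exact absurd (mul_eq_right.1 (e1.symm.trans c)) h.p.r.z_ne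
  · exact absurd (c.symm.trans e2) h.p.ne
  · rw [conj_mul_conj, e1, e2, mul_assoc, h.l.zz, mul_one] at c
    exact absurd (mul_eq_right.1 c.symm) h.l.z_ne

theorem exists_f2 : ∃ f : E → G, HomOn (𝐂(V4 a t0) ⊔ closure {r * F * r⁻¹, F}) f ∧ (∀ n ∈ 𝐂(V4 a t0), f n = ψ n) ∧
    f (r * F * r⁻¹) = U ∧ f F = ψ F := by
  classical
  have M := h.M
  let S : Subgroup (E × G) :=
    { carrier := {d | d.1 ∈ 𝐂(V4 a t0) ∧ d.2 = ψ d.1}
      one_mem' := ⟨one_mem _, h.hm.one.symm⟩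
      mul_mem' := fun a b => ⟨mul_mem a.1 b.1, by
        rw [Prod.fst_mul, Prod.snd_mul, a.2, b.2, h.hm _ (N_le M.p a.1) _ (N_le M.p b.1)]⟩
      inv_mem' := fun a => ⟨inv_mem a.1, by rw [Prod.fst_inv, Prod.snd_inv, a.2, h.hm.inv (N_le M.p a.1)]⟩ }
  let x : E × G := (r * F * r⁻¹, U)
  let y : E × G := (F, ψ F)
  have nS : closure {x, y} ≤ 𝐍(S) := (closure_le _).2 (by
    rintro _ (rfl | rfl) <;> refine mem_normalizer_fintype fun d hd => ?_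
    · exact ⟨M.uN hd.1, (congrArg (fun y => U * y * U⁻¹) hd.2).trans (h.un _ hd.1)⟩
    · exact ⟨M.FN hd.1, (congrArg (fun y => ψ F * y * (ψ F)⁻¹) hd.2).trans (h.hm.conj h.Fa (N_le M.p hd.1)).symm⟩)
  have xy : (x * y) ^ 3 = 1 := Prod.ext M.uF h.uF
  have key : ∀ d ∈ closure {x, y}, d.1 ∈ 𝐂(V4 a t0) → d = 1 := fun d hd k => by
    have red : ∀ n : ℤ, (x * y) ^ n = 1 ∨ (x * y) ^ n = x * y ∨ (x * y) ^ n = (x * y)⁻¹ := fun n => by
      rw [zpow_eq_zpow_emod n (n := 3) (by exact_mod_cast xy)]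
      have : n % 3 = 0 ∨ n % 3 = 1 ∨ n % 3 = 2 := by omega
      rcases this with e | e | e <;> rw [e]
      · exact .inl (zpow_zero _)
      · exact .inr (.inl (zpow_one _))
      · exact .inr (.inr (eq_inv_of_mul_eq_one_left (by rw [← xy, zpow_two, pow_succ, pow_two])))
    have n1 : r * F * r⁻¹ ∉ 𝐂₁(a) := fun c => M.na (mem_c1.1 c).symm
    have n2 : F ∉ 𝐂₁(t0) := fun c => M.l.z_ne (mul_eq_right.1 (M.Ft.symm.trans (conj_eq_iff.2 (mem_c1.1 c))))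
    have n3 : r * F * r⁻¹ * F ∉ 𝐂₁(a) := fun c => n1 ((mul_mem_cancel_right h.Fa).1 c)
    rcases (CF.Invol.mem_closure_pair_iff (Prod.ext M.UU h.UU) (Prod.ext M.FF h.FF)).1 hd with ⟨n, rfl⟩ | ⟨n, rfl⟩ <;>
      rcases red n with e | e | e <;> rw [e] at k ⊢
    · exact absurd (N_le M.p k) n3
    · exact absurd (inv_mem_iff.1 (N_le M.p k)) n3
    · exact absurd (N_le M.p k) (by simpa using n1)
    · refine absurd (N_le' M.p k) ?_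
      rwa [show (x * (x * y)).1 = r * F * r⁻¹ * (r * F * r⁻¹) * F from (mul_assoc _ _ _).symm, M.UU, one_mul]
    · refine absurd (N_le' M.p k) fun c => n2 ?_
      have u := M.p.r.le_c1 M.UP
      rw [show (x * (x * y)⁻¹).1 = r * F * r⁻¹ * (F⁻¹ * (r * F * r⁻¹)⁻¹) from congrArg _ (mul_inv_rev _ _)] at c
      exact inv_mem_iff.1 ((mul_mem_cancel_right (inv_mem u)).1 ((mul_mem_cancel_left u).1 c))
  obtain ⟨θ, hθ⟩ := CF.Known.Mon.exists_hom_of_rel (A := ↥(𝐂(V4 a t0) ⊔ closure {r * F * r⁻¹, F})) (L := G)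
    (fun m g => ((m : E), g) ∈ closure {x, y} ⊔ S) (fun m => by
      have : 𝐂(V4 a t0) ⊔ closure {r * F * r⁻¹, F} ≤ (closure {x, y} ⊔ S).map (MonoidHom.fst E G) :=
        sup_le (fun n hn => ⟨(n, ψ n), mem_sup_right ⟨hn, rfl⟩, rfl⟩) ((closure_le _).2 (by
          rintro _ (rfl | rfl)
          exacts [⟨x, mem_sup_left (subset_closure (.inl rfl)), rfl⟩, ⟨y, mem_sup_left (subset_closure (.inr rfl)), rfl⟩]))
      obtain ⟨d, k, e⟩ := this m.2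
      exact ⟨d.2, e ▸ k⟩)
    (fun m g k c d => by
      obtain ⟨u, hu, v, hv, e⟩ := (mem_sup_of_le_normalizer' nS).1 (mul_mem c (inv_mem d))
      have e1 : u.1 * v.1 = 1 := (congrArg Prod.fst e).trans (mul_inv_cancel _)
      obtain rfl := key u hu (eq_inv_of_mul_eq_one_left e1 ▸ inv_mem hv.1)
      have e2 : v.2 = g * k⁻¹ := by simpa using congrArg Prod.snd e
      rw [hv.2, show v.1 = 1 by simpa using e1, h.hm.one] at e2
      exact mul_inv_eq_one.1 e2.symm)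
    fun m g n k c d => mul_mem c d
  let f : E → G := fun m => if k : m ∈ 𝐂(V4 a t0) ⊔ closure {r * F * r⁻¹, F} then θ ⟨m, k⟩ else 1
  have e0 : ∀ m k, f m = θ ⟨m, k⟩ := fun m k => dif_pos k
  refine ⟨f, fun x hx y hy => by rw [e0 _ hx, e0 _ hy, e0 _ (mul_mem hx hy), ← map_mul]; rfl,
    fun n hn => (e0 n (mem_sup_left hn)).trans ((hθ _ _).2 (mem_sup_right ⟨hn, rfl⟩)),
    (e0 _ (mem_sup_right (subset_closure (.inl rfl)))).trans ((hθ _ _).2 (mem_sup_left (subset_closure (.inl rfl)))),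
    (e0 _ (mem_sup_right (subset_closure (.inr rfl)))).trans ((hθ _ _).2 (mem_sup_left (subset_closure (.inr rfl))))⟩

variable {T : BNPair E} {ρ : T.S → E} (M : MB Q0 a t0 F r s T ρ)
include M

theorem braid {f : E → G} (hf : HomOn (𝐂(V4 a t0) ⊔ closure {r * F * r⁻¹, F}) f) (fN : ∀ n ∈ 𝐂(V4 a t0), f n = ψ n)
    (fF : f F = ψ F) (ix : Ix H 𝐂₁(z)) : (ψ s * f r) ^ 3 = 1 := by
  have p := M.p
  have m1 : F ∈ 𝐂(V4 a t0) ⊔ closure {r * F * r⁻¹, F} := mem_sup_right (subset_closure (.inr rfl))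
  have m2 : r ∈ 𝐂(V4 a t0) ⊔ closure {r * F * r⁻¹, F} := by
    have := mul_mem (mul_mem m1 (mem_sup_right (subset_closure (.inl rfl)))) m1
    rwa [M.br] at this
  have AA : ψ s * ψ s = 1 := by rw [← h.hm _ M.sa _ M.sa, M.ss, h.hm.one]
  have BB : f r * f r = 1 := by rw [← hf _ m2 _ m2, M.rr, hf.one]
  have cA : ∀ {n}, n ∈ 𝐂₁(a) → ψ s * ψ n * ψ s = ψ (s * n * s) := fun hn => by
    rw [h.hm _ (mul_mem M.sa hn) _ M.sa, h.hm _ M.sa _ hn]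
  have cB : ∀ {n}, n ∈ 𝐂(V4 a t0) → f r * ψ n * f r = ψ (r * n * r) := fun hn => by
    rw [← fN _ (M.rN hn), hf _ (mul_mem m2 (mem_sup_left hn)) _ m2, hf _ m2 _ (mem_sup_left hn), fN _ hn]
  have ks : ∀ x, s * (s * x) = x := fun x => by rw [← mul_assoc, M.ss, one_mul]
  have kr : ∀ x, r * (r * x) = x := fun x => by rw [← mul_assoc, M.rr, one_mul]
  have br : ∀ x, r * (s * (r * x)) = s * (r * (s * x)) := fun x => by simpa only [mul_assoc] using congrArg (· * x) M.rsr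
  have sa := M.sas
  have ra := M.rar
  have rw0 := M.rwr
  have c1 : ∀ {g x n : E}, g * g = 1 → n ∈ 𝐂₁(x) → g * n * g ∈ 𝐂₁(g * x * g) := fun {g x n} e k => mem_c1.2 (by
    rw [show g * n * g * (g * x * g) = g * (n * (g * g) * x) * g by group, e, mul_one, mem_c1.1 k,
      show g * x * g * (g * n * g) = g * (x * (g * g) * n) * g by group, e, mul_one])
  have nr : ∀ n ∈ 𝐂(V4 a t0) ⊓ 𝐂₁(s * t0 * s), r * n * r ∈ 𝐂(V4 a t0) ⊓ 𝐂₁(s * t0 * s) := fun n k =>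
    ⟨M.rN k.1, rw0 ▸ c1 M.rr k.2⟩
  have ns : ∀ n ∈ 𝐂(V4 a t0) ⊓ 𝐂₁(s * t0 * s), s * n * s ∈ 𝐂(V4 a t0) ⊓ 𝐂₁(s * t0 * s) := fun n k =>
    ⟨cent_V4 a t0 ▸ ⟨sa ▸ c1 M.ss (N_le p k.1), by simpa [mul_assoc, ks, M.ss] using c1 M.ss k.2⟩, c1 M.ss (N_le' p k.1)⟩
  have k3 : ∀ n ∈ 𝐂(V4 a t0) ⊓ 𝐂₁(s * t0 * s), (ψ s * f r) ^ 3 * ψ n * ((ψ s * f r) ^ 3)⁻¹ = ψ n := fun n k => by
    have k1 := ns _ (nr _ k)
    have k2 := ns _ (nr _ k1)
    rw [show (ψ s * f r) ^ 3 * ψ n * ((ψ s * f r) ^ 3)⁻¹ = ψ s * (f r * (ψ s * (f r * (ψ s * (f r * ψ n * f r) * ψ s) *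
      f r) * ψ s) * f r) * ψ s by
        simp [pow_succ, mul_assoc, inv_eq_of_mul_eq_one_left AA, inv_eq_of_mul_eq_one_left BB],
      cB k.1, cA (N_le p (nr _ k).1), cB k1.1, cA (N_le p (nr _ k1).1), cB k2.1, cA (N_le p (nr _ k2).1)]
    congr 1
    simp only [mul_assoc, br, ks, kr, M.ss, mul_one]
  have aN : a ∈ 𝐂(V4 a t0) ⊓ 𝐂₁(s * t0 * s) := ⟨p.A_le ⟨M.l.mem, mem_c1.2 p.tz.symm⟩, sa ▸ c1 M.ss (mem_c1.2 p.tz.symm)⟩
  have tN : t0 ∈ 𝐂(V4 a t0) ⊓ 𝐂₁(s * t0 * s) := ra ▸ nr a aN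
  have dz : (ψ s * f r) ^ 3 ∈ 𝐂₁(z) := mem_c1.2 (conj_eq_iff.1 (h.pa ▸ k3 a aN))
  have sF : s * F * s ∈ 𝐂(V4 a t0) := cent_V4 a t0 ▸ ⟨mul_mem (mul_mem M.sa h.Fa) M.sa, M.sF⟩
  have b0 := N_le p (M.rN sF)
  have b1 := mul_mem (mul_mem M.sa b0) M.sa
  have e := braid_aux AA BB (F := ψ F) (by
    rw [← fF, ← hf _ m2 _ m1, ← hf _ m1 _ (mul_mem m2 m1), ← hf _ m2 _ (mul_mem m1 (mul_mem m2 m1)),
      ← hf _ m1 _ (mul_mem m2 (mul_mem m1 (mul_mem m2 m1)))]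
    nth_rw 3 [← M.br]
    rw [M.ri]
    simp only [mul_assoc])
  rw [cA h.Fa, cB sF, cA b0] at e
  have dH : (ψ s * f r) ^ 3 ∈ H := (mul_mem_cancel_left (h.co s M.sa).l).1 (e ▸ mul_mem (mul_mem (h.co _ b0).l
    (norm_mem (ix.norm h.HC dz) (h.co _ b1).l)) (h.co _ b0).l)
  obtain ⟨d, hd, ed⟩ := h.surj' dH
  have dc : d ∈ 𝐂(𝐂(V4 a t0) ⊓ 𝐂₁(s * t0 * s)) := fun n k => h.inj' (mul_mem (N_le p k.1) hd) (mul_mem hd (N_le p k.1)) (by
    rw [h.hm _ (N_le p k.1) _ hd, h.hm _ hd _ (N_le p k.1), ed, conj_eq_iff.1 (k3 n k)])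
  have dN : d ∈ 𝐂(V4 a t0) := (mem_N p).2 ⟨mem_c1.1 hd, (dc _ tN).symm⟩
  have inv : ∀ {x y : G}, x * x = 1 → y * y = 1 → x * (x * y) ^ 3 * x = ((x * y) ^ 3)⁻¹ ∧
      y * (x * y) ^ 3 * y = ((x * y) ^ 3)⁻¹ := fun {x y} a b => by
    simp [pow_succ, mul_assoc, inv_eq_of_mul_eq_one_left a, inv_eq_of_mul_eq_one_left b, b,
      show ∀ w, x * (x * w) = w from fun w => by rw [← mul_assoc, a, one_mul]]
  rw [← ed, M.g d dc (h.inj' (N_le p (M.rN dN)) (inv_mem hd) ?_) (h.inj' (mul_mem (mul_mem M.sa hd) M.sa) (inv_mem hd) ?_)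
    (h.inj' (mul_mem M.sa hd) (mul_mem (mul_mem b0 (mul_mem (mul_mem (inv_mem hd) b1) hd)) b0) ?_), h.hm.one]
  · rw [← cB dN, h.hm.inv hd, ed, (inv AA BB).2]
  · rw [← cA hd, h.hm.inv hd, ed, (inv AA BB).1]
  · rw [h.hm _ (mul_mem b0 (mul_mem (mul_mem (inv_mem hd) b1) hd)) _ b0, h.hm _ b0 _ (mul_mem (mul_mem (inv_mem hd) b1) hd),
      h.hm.conj' hd b1, h.hm _ M.sa _ hd, ed, e]

theorem exists_phi (ix : Ix H 𝐂₁(z)) : ∃ Φ : E →* G, (∀ m ∈ 𝐂₁(a), Φ m = ψ m) ∧ Φ (r * F * r⁻¹) = U := by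
  classical
  obtain ⟨f, hf, fN, fU, fF⟩ := h.exists_f2
  have b3 := h.braid M hf fN fF ix
  have p := M.p
  have m1 : F ∈ 𝐂(V4 a t0) ⊔ closure {r * F * r⁻¹, F} := mem_sup_right (subset_closure (.inr rfl))
  have m3 : r * F * r⁻¹ ∈ 𝐂(V4 a t0) ⊔ closure {r * F * r⁻¹, F} := mem_sup_right (subset_closure (.inl rfl))
  have m2 : r ∈ 𝐂(V4 a t0) ⊔ closure {r * F * r⁻¹, F} := by
    have := mul_mem (mul_mem m1 m3) m1
    rwa [M.br] at this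
  have BC : T.B ≤ 𝐂₁(a) := M.BN.trans (sup_le (N_le p) M.l.le_c1)
  have fB : ∀ b ∈ T.B, b ∈ 𝐂(V4 a t0) ⊔ closure {r * F * r⁻¹, F} ∧ f b = ψ b := fun b hb => by
    obtain ⟨n, hn, q, hq, rfl⟩ := (mem_sup_of_le_normalizer' p.C_norm_Q).1 (M.BN hb)
    rcases M.l.mem_or M.tQ M.Ft hq with e | e
    · have k := mul_mem hn (p.A_le ⟨hq, mem_c1.2 e⟩)
      exact ⟨mem_sup_left k, fN _ k⟩
    · have k := p.A_le ⟨Q0.mul_mem (inv_mem M.FQ) hq, mem_c1.2 e⟩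
      have k1 := mul_mem hn (M.FN k)
      rw [show n * q = n * (F * (F⁻¹ * q) * F⁻¹) * F by group]
      exact ⟨mul_mem (mem_sup_left k1) m1, by rw [hf _ (mem_sup_left k1) _ m1, h.hm _ (N_le p k1) _ h.Fa, fN _ k1, fF]⟩
  have pl : ∀ {X : Subgroup E} {i}, T.B ≤ X → ρ i ∈ X → (i : E) ∈ X := fun {X i} b k =>
    mem_of_wt_eq b ((wt_s i).trans (M.hw i).symm) k
  have pl' : ∀ {X : Subgroup E} {i : T.S}, T.B ≤ X → (i : E) ∈ X → ρ i ∈ X := fun {X i} b k =>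
    mem_of_wt_eq b ((M.hw i).trans (wt_s i).symm) k
  have rC : ∀ {i}, ρ i ≠ r → ρ i ∈ 𝐂₁(a) := fun {i} n => ((M.cs i).resolve_left n).elim (· ▸ M.sa) (N_le p ·)
  have o : ∀ i j, orderOf ((cox T).s i * (cox T).s j) = orderOf ((cox T).s j * (cox T).s i) := fun i j =>
    (SemiconjBy.orderOf_eq ((cox T).s j) (by simp [SemiconjBy, mul_assoc]))
  have sw : ∀ {x y : G} {n : ℕ}, (x * y) ^ n = 1 → (y * x) ^ n = 1 := fun {x y n} e => by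
    rw [show y * x = y * (x * y) * y⁻¹ by group, conj_pow, e]; group
  have key : ∀ i j, ρ i ≠ r → ρ j = r → (ψ (ρ i) * f (ρ j)) ^ orderOf ((cox T).s i * (cox T).s j) = 1 := fun i j n e => by
    rcases (M.cs i).resolve_left n with k | k
    · obtain ⟨c, hc⟩ := M.o3 i j k e
      rw [hc, pow_mul, k, e, b3, one_pow]
    · rw [← fN _ k, ← hf _ (mem_sup_left k) _ (e ▸ m2), ← hf.pow (mul_mem (mem_sup_left k) (e ▸ m2)), M.ho, hf.one]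
  obtain ⟨Φ, e1, e2⟩ := bn_ext T ρ M.hN M.hw ψ (fun i => if ρ i = r then f else ψ) (h.hm.mono BC) (fun i => by
    split_ifs with e
    · exact hf.mono (parW_le (fun b k => (fB b k).1) (by rintro _ rfl; exact pl (fun b k => (fB b k).1) (e ▸ m2)))
    · exact h.hm.mono (parW_le BC (by rintro _ rfl; exact pl BC (rC e))))
    (fun i b hb => by split_ifs; exacts [(fB b hb).2, rfl]) M.h1 fun i j => ⟨M.ho i j, by
      split_ifs with e e' e'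
      · rw [← hf _ (e ▸ m2) _ (e' ▸ m2), ← hf.pow (mul_mem (e ▸ m2) (e' ▸ m2)), M.ho, hf.one]
      · exact o i j ▸ sw (key j i e' e)
      · exact key i j e e'
      · rw [← h.hm _ (rC e) _ (rC e'), ← h.hm.pow (mul_mem (rC e) (rC e')), M.ho, h.hm.one]⟩
  have e3 : ∀ i, Φ (ρ i) = (if ρ i = r then f else ψ) (ρ i) := fun i => e2 i _ (mem_parW_singleton.2 (.inr (M.hw i)))
  have nr : r ∉ 𝐂₁(a) := fun k => M.ne (M.ra.symm.trans (conj_eq_iff.2 (mem_c1.1 k)))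
  have e4 : ∀ m ∈ 𝐂₁(a), Φ m = ψ m := fun m hm => by
    let W : Subgroup E :=
      { carrier := {x | x ∈ 𝐂₁(a) ∧ Φ x = ψ x}
        one_mem' := ⟨one_mem _, Φ.map_one.trans h.hm.one.symm⟩
        mul_mem' := fun a b => ⟨mul_mem a.1 b.1, by rw [map_mul, a.2, b.2, h.hm _ a.1 _ b.1]⟩
        inv_mem' := fun a => ⟨inv_mem a.1, by rw [map_inv, a.2, h.hm.inv a.1]⟩ }
    have b : T.B ≤ W := fun b k => ⟨BC k, e1 b k⟩
    refine ((parW_le b fun j k => pl b ?_ : _ ≤ W) ((eq_parW_of_le BC).le hm)).2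
    have k1 := pl' BC k
    exact ⟨k1, by rw [e3, if_neg fun e : ρ j = r => nr (e ▸ k1)]⟩
  refine ⟨Φ, e4, ?_⟩
  by_cases e : ∃ i, ρ i = r
  · obtain ⟨i, e⟩ := e
    have := e3 i
    rw [if_pos e, e] at this
    rw [map_mul, map_mul, map_inv, this, e4 _ h.Fa, ← fF, ← hf.conj m2 m1, fU]
  · exact absurd ((parW_le BC fun j _ => pl BC (rC fun k => e ⟨j, k⟩)) (parW_univ.ge (mem_top r))) nr

end Ps

end CF.E62
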