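import Cfsg.Agent.E62.G4
import Cfsg.Agent.XT.Top2
import Cfsg.Agent.Sig.FStar

/-! The image of the model is a normal subgroup. -/

set_option autoImplicit false
set_option linter.unusedSectionVars false

namespace CF.E62

section
open Cfsg Subgroup MulAction CF.ZD CF.BG CF.Bender CF.LX CF.XT

theorem cent_le' {G : Type*} [Group G] [Finite G] {K A : Subgroup G} {z u x : G} (h : ZC z K) (AH : A ≤ K)
    (sq : ∀ x ∈ A, x * x = 1) (hu : u ∈ A) (nA : ∀ g ∈ K, g * u = u * g → g ∈ normalizer (A : Set G)) (hx : x ∈ A)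
    (c1 : IsConj z x) (c2 : IsConj z (x * u)) (ar : ∀ E ≤ A, u ∈ E → (∀ e ∈ E, ¬ IsConj z e) →
      ¬ ∀ y ∈ A, IsConj z y → ∃ e ∈ E, IsConj z (y * e) ∧ IsConj z (y * e * u)) : centralizer {u} ≤ K := by
  intro g hg
  by_contra ng
  obtain ⟨E, ⟨EA, uE, q, nq, hq⟩, mE⟩ := Set.Finite.exists_maximal (Set.toFinite
    {E : Subgroup G | E ≤ A ∧ u ∈ E ∧ ∃ q ≠ pt K, E ≤ stabilizer G q}) ⟨zpowers u, zpowers_le.2 hu, mem_zpowers u,
      g • pt K, mt smul_pt.1 ng, zpowers_le.2 (comm_smul (mem_c1.1 hg) (smul_pt.2 (AH hu)))⟩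
  have mx : ∀ y ∈ A, y ∉ E → ∀ q, E ≤ stabilizer G q → y • q = q → q = pt K := fun y hy n q k l => by_contra fun c =>
    n (mE ⟨sup_le EA (zpowers_le.2 hy), mem_sup_left uE, q, c, sup_le k (zpowers_le.2 l)⟩ le_sup_left
      (mem_sup_right (mem_zpowers y)))
  obtain ⟨d, hd, dE⟩ := h.exists_cent (piGrp_of_isPGroup Nat.prime_two (fun x => ⟨1, Subtype.ext (by
    simpa [pow_two] using sq _ (EA x.2))⟩ : IsPGroup 2 E)) hq
  have zE : ∀ x ∈ E, ¬ IsConj z x := fun x k hx => nq (h.uniq hx (smul_pt.2 (AH (EA k))) q (hq k))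
  refine ar E EA uE zE fun y hy c => ?_
  obtain ⟨g, k, -, e⟩ := trans_cos sq EA (stab_pt.ge.trans' AH) (fun g hg e => nA g (smul_pt.1 e) (hg u uE).symm) mx dE
    (fun e => nq (h.uniq hd.mem e q hd.fix)) hx (fun k => zE _ k c1) hy fun k => zE _ k c
  refine ⟨_, inv_mem e, ?_⟩
  rw [mul_inv_rev, inv_inv, mul_inv_cancel_left]
  exact ⟨cl_conj c1 g, by rw [← conj_eq_iff.2 (k u uE).symm, conj_mul]; exact cl_conj c2 g⟩

theorem fstar_simple {G : Type*} [Group G] [Finite G] {L : Subgroup G} [L.Normal] [IsSimpleGroup L]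
    (hc : centralizer (L : Set G) = ⊥) (hp : ¬ IsMulCommutative L) : Cfsg.generalizedFittingSubgroup G = L := by
  have hL : Cfsg.IsComponent L := ⟨Normal.isSubnormal inferInstance, Sig.qs_of_isSimpleGroup hp⟩
  refine le_antisymm (sup_le (Sig.layer_le fun K hK => (Sig.comp_eq_of_not_le_centralizer hK hL fun e =>
    Sig.qs_ne_bot hK.2 (le_bot_iff.1 (hc ▸ e))).le) ?_) ((Sig.comp_le_layer hL).trans le_sup_left)
  exact (le_centralizer_iff.1 (Sig.comp_le_centralizer_fitting hL)).trans (hc ▸ bot_le)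

end

open Cfsg Subgroup CF.Loc CF.Even CF.LX CF.J4 CF.BN
open scoped commutatorElement

variable {G E : Type*} [Group G] [Group E] [Finite G] [Finite E]
variable {Q H P : Subgroup G} {z t U : G} {Q0 S A : Subgroup E} {a t0 F r s u : E} {Θ ψ : E → G}
variable {T : BNPair E} {ρ : T.S → E}

/-- the third list of properties of the model -/
structure MC (Q0 : Subgroup E) (a t0 F r s : E) (T : BNPair E) (ρ : T.S → E) (S A : Subgroup E) (u : E) : Prop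
    extends MB Q0 a t0 F r s T ρ where
  sy : IsSyl 2 S 𝐂₁(a)
  k1 : ∀ q ∈ Q0, (∀ x ∈ S, ⁅x, q⁆ ∈ zpowers a) → q ∈ V4 a t0
  k1' : ∀ x ∈ S, ⁅x, t0⁆ ∈ zpowers a
  k2 : ∀ q ∈ Q0, (∀ x ∈ S, ⁅x, q⁆ ∈ V4 a t0) → q ∈ V4 a t0 ∨ q * (s * t0 * s) ∈ V4 a t0
  k2' : ∀ x ∈ S, ⁅x, s * t0 * s⁆ ∈ V4 a t0
  wV : s * t0 * s ∉ V4 a t0
  f6 : ∀ x : E, x * x = 1 → ∃ g, g * x * g⁻¹ ∈ Q0
  f1 : ∀ e, IsConj a e → a * e = e * a → e ≠ a → IsConj a (a * e) ∨ ∃ y, y * a * y⁻¹ ∈ A ∧ y * (a * e) * y⁻¹ = u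
  f2 : ¬ IsConj a u
  u1 : u ≠ 1
  uA : u ∈ A
  sq : ∀ x ∈ A, x * x = 1
  f3 : 𝐂₁(u) ≤ 𝐍(A)
  f4 : A ≤ closure {d | IsConj a d ∧ IsConj a (d * u)}
  dx : ∃ d ∈ A, IsConj a d ∧ IsConj a (d * u)
  ar : ∀ X ≤ A, u ∈ X → (∀ e ∈ X, ¬ IsConj a e) →
    ¬ ∀ y ∈ A, IsConj a y → ∃ e ∈ X, IsConj a (y * e) ∧ IsConj a (y * e * u)

theorem isConj_cj {a x : E} (h : IsConj a x) (g : E) : IsConj a (g * x * g⁻¹) := h.trans (isConj_iff.2 ⟨g, rfl⟩)

theorem MB.eq_top (M : MB Q0 a t0 F r s T ρ) {X : Subgroup E} (h : 𝐂₁(a) ≤ X) (hr : r ∈ X) : X = ⊤ := by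
  have b := M.BN.trans ((sup_le (N_le M.p) M.l.le_c1).trans h)
  refine eq_top_iff.2 (parW_univ.ge.trans (parW_le b fun j _ => mem_of_wt_eq b ((wt_s j).trans (M.hw j).symm) ?_))
  rcases M.cs j with e | e | e
  exacts [e ▸ hr, e ▸ h M.sa, h (N_le M.p e)]

theorem MC.memA (M : MC Q0 a t0 F r s T ρ S A u) {d : E} (c1 : IsConj a d) (c2 : IsConj a (d * u)) : d ∈ A := by
  obtain ⟨k, rfl⟩ := isConj_iff.1 c1
  have sq : ∀ {x}, IsConj a x → x * x = 1 := fun c => by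
    obtain ⟨k, rfl⟩ := isConj_iff.1 c
    rw [← conj_mul_conj, M.l.zz]; group
  have e : a * (k⁻¹ * (k * a * k⁻¹ * u) * k⁻¹⁻¹) = k⁻¹ * u * k := by
    rw [show a * (k⁻¹ * (k * a * k⁻¹ * u) * k⁻¹⁻¹) = a * a * (k⁻¹ * u * k) by group, M.l.zz, one_mul]
  have c3 := isConj_cj c2 k⁻¹
  have uu : k⁻¹ * u * k * (k⁻¹ * u * k) = 1 := by
    rw [show k⁻¹ * u * k * (k⁻¹ * u * k) = k⁻¹ * (u * u) * k by group, M.sq u M.uA]; group
  generalize k⁻¹ * (k * a * k⁻¹ * u) * k⁻¹⁻¹ = x at *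
  rcases M.f1 _ c3 (by
    rw [← e] at uu
    rw [eq_inv_of_mul_eq_one_left uu, mul_inv_rev, M.l.zi, inv_eq_of_mul_eq_one_left (sq c3)]) (fun c => M.u1 (by
    rw [c, M.l.zz] at e
    rw [show u = k * (k⁻¹ * u * k) * k⁻¹ by group, ← e]; group)) with c | ⟨y, hy, c⟩
  · refine absurd ?_ M.f2
    have := isConj_cj (e ▸ c) k
    rwa [show k * (k⁻¹ * u * k) * k⁻¹ = u by group] at this
  · have := norm_mem (M.f3 (show y * k⁻¹ ∈ _ from mem_c1.2 (conj_eq_iff.1 (by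
      rw [e] at c; simpa only [mul_inv_rev, inv_inv, mul_assoc] using c)))) hy
    simpa [mul_assoc] using this

theorem MC.pure (M : MC Q0 a t0 F r s T ρ S A u) : (IsConj a t0 ∧ IsConj a (a * t0)) ∧
    (IsConj a (s * t0 * s) ∧ IsConj a (a * (s * t0 * s))) ∧
      IsConj a (t0 * (s * t0 * s)) ∧ IsConj a (a * (t0 * (s * t0 * s))) := by
  have c1 : IsConj a t0 := isConj_iff.2 ⟨r, M.ra⟩
  have c2 : IsConj a (a * t0) := M.Ft ▸ isConj_cj c1 F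
  have c4 : IsConj a (a * (s * t0 * s)) := by
    have := isConj_cj c2 s
    rwa [conj_mul_conj, M.si, M.sas] at this
  have c5 : IsConj a (t0 * (s * t0 * s)) := by
    have := isConj_cj c4 r
    rwa [conj_mul_conj, M.ra, M.ri, M.rwr] at this
  refine ⟨⟨c1, c2⟩, ⟨by simpa [M.si] using isConj_cj c1 s, c4⟩, c5, ?_⟩
  have := isConj_cj c5 F
  rwa [conj_mul_conj, M.Ft, conj_eq_iff.2 (show F * (s * t0 * s) = s * t0 * s * F by
    rw [← mul_right_inj s, ← mul_left_inj s, show s * (F * (s * t0 * s)) * s = s * F * s * t0 * (s * s) by group,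
      mem_c1.1 M.sF, show s * (s * t0 * s * F) * s = s * s * (t0 * (s * F * s)) by group, M.ss, mul_one, one_mul]),
    mul_assoc] at this

/-- the model is embedded -/
structure Ph (Q H : Subgroup G) (z : G) (Q0 : Subgroup E) (a : E) (Φ : E →* G) : Prop where
  l : LQ Q z
  HC : H ≤ 𝐂₁(z)
  ix : Ix H 𝐂₁(z)
  inj : Function.Injective Φ
  pa : Φ a = z
  mQ : Q0.map Φ = Q
  mC : (𝐂₁(a)).map Φ = H
  fus : ∀ y, IsConj z (Φ y) → IsConj a y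

theorem Ps.exists_ph (h : Ps Q H P z t U Q0 a t0 F r Θ ψ) (M : MC Q0 a t0 F r s T ρ S A u) (ix : Ix H 𝐂₁(z))
    (cQ : Nat.card Q = 2 ^ 21) : ∃ Φ, Ph Q H z Q0 a Φ := by
  obtain ⟨Φ, e1, -⟩ := h.exists_phi M.toMB ix
  have := M.sim
  have pa : Φ a = z := (e1 a (mem_c1.2 rfl)).trans h.pa
  have inj : Function.Injective Φ := (MonoidHom.ker_eq_bot_iff Φ).1 ((Φ.normal_ker.eq_bot_or_eq_top).resolve_right
    fun e => h.l.z_ne (pa.symm.trans (e.ge (mem_top a))))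
  have eQ : ∀ x ∈ Q0, Φ x = Θ x := fun x k => (e1 x (M.l.le_c1 k)).trans (h.eq x k)
  refine ⟨Φ, h.l, h.HC, ix, inj, pa, le_antisymm (map_le_iff_le_comap.2 fun x k => mem_comap.2 (eQ x k ▸ h.mem x k))
    fun y hy => ?_, le_antisymm (map_le_iff_le_comap.2 fun x k => mem_comap.2 (e1 x k ▸ (h.co x k).l)) fun y hy => ?_,
    fun y c => ?_⟩
  · obtain ⟨x, k, e⟩ := h.surj y hy
    exact ⟨x, k, (eQ x k).trans e⟩
  · obtain ⟨x, k, e⟩ := h.surj' hy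
    exact ⟨x, k, (e1 x k).trans e⟩
  · obtain ⟨k, hk⟩ := M.f6 y (inj (by
      obtain ⟨g, e⟩ := isConj_iff.1 c
      rw [map_mul, map_one, ← e, ← conj_mul_conj, h.l.zz]; group))
    refine IsConj.trans ?_ (isConj_iff.2 ⟨k, rfl⟩).symm
    obtain ⟨g, e⟩ := isConj_iff.1 (isConj_cj c (Φ k))
    rw [← map_inv, ← map_mul, ← map_mul, eQ _ hk] at e
    by_cases n : g * z * g⁻¹ = z
    · rw [h.inj _ hk _ M.l.mem (e.symm.trans (n.trans h.tz.symm))]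
    obtain ⟨m, hm, v⟩ := exists_sv h.toPre h.M (h.l.pair (by rw [cQ]; norm_num) n (e ▸ h.mem _ hk)) ix cQ
    exact h.inj _ (h.cm h.M.tQ hm) _ hk (v.tt.trans e) ▸ isConj_cj M.pure.1.1 m

namespace Ph
variable {Φ : E →* G} (h : Ph Q H z Q0 a Φ) (M : MC Q0 a t0 F r s T ρ S A u)
include h

theorem cjz {y : E} (c : IsConj a y) : IsConj z (Φ y) := h.pa ▸ Φ.map_isConj c

theorem inf : Φ.range ⊓ 𝐂₁(z) = H := le_antisymm (by
    rintro _ ⟨⟨x, rfl⟩, k⟩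
    exact h.mC.le ⟨x, mem_c1.2 (h.inj (by rw [map_mul, map_mul, h.pa, mem_c1.1 k])), rfl⟩)
  (le_inf (h.mC.ge.trans (map_le_range _ _)) h.HC)

theorem QY : Q ≤ Φ.range := h.mQ.ge.trans (map_le_range _ _)

include M

theorem norm : Φ.range ⊔ 𝐂₁(z) ≤ 𝐍(Φ.range) := by
  refine sup_le le_normalizer fun c hc => mem_normalizer_fintype ?_
  rintro _ ⟨x, rfl⟩
  have k : (cj[c⁻¹] Φ.range).comap Φ = ⊤ := M.eq_top (fun m hm => mem_comap.2 (mem_cj.2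
    (h.inf.ge.trans inf_le_left (norm_mem (inv_mem (h.ix.norm h.HC hc)) (h.mC.le ⟨m, hm, rfl⟩))))) (by
      have tQ : c * Φ t0 * c⁻¹ ∈ Q := norm_mem' (h.l.nor hc) (h.mQ.le ⟨_, M.tQ, rfl⟩)
      obtain ⟨y, -, e⟩ := h.mQ.ge tQ
      obtain ⟨d, rfl⟩ := isConj_iff.1 (h.fus y (e ▸ isConj_cj (h.cjz M.pure.1.1) c))
      have e1 := h.l.cj_eq (x := c * Φ r) (g := Φ d) (by
        rw [← h.pa, ← map_inv, ← map_mul, ← map_mul, e, ← M.ra]; simp [mul_assoc])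
      have FQ : Φ F ∈ Q := h.mQ.le ⟨_, M.FQ, rfl⟩
      have k1 : c * Φ F * c⁻¹ ∈ Φ.range := h.QY (norm_mem' (h.l.nor hc) FQ)
      obtain ⟨v, hv, k2⟩ := e1.le (conj_mem_cj (c * Φ r) FQ)
      have k3 : c * Φ r * Φ F * (c * Φ r)⁻¹ ∈ Φ.range :=
        k2 ▸ mul_mem (mul_mem ⟨d, rfl⟩ (h.QY hv)) (inv_mem ⟨d, rfl⟩)
      rw [mem_comap, mem_cj, ← M.br]
      simpa [mul_assoc] using mul_mem (mul_mem k1 k3) k1)
  simpa using mem_cj.1 (mem_comap.1 (k.ge (mem_top x)))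

theorem four {x : G} (hx : x ∈ 𝐂₁(z)) (xx : x * x = 1) (n : x ∈ 𝐍(S.map Φ)) :
    ∃ y, x * Φ y = Φ y * x ∧ IsConj a y ∧ IsConj a (a * y) := by
  have wQ : s * t0 * s ∈ Q0 := by simpa only [M.si] using norm_mem' (M.l.nor M.sa) M.tQ
  have key : ∀ (W : Subgroup E) (q : E), q ∈ Q0 → x ∈ 𝐍(W.map Φ) → (∀ y ∈ S, ⁅y, q⁆ ∈ W) →
      ∃ q' ∈ Q0, Φ q' = x * Φ q * x⁻¹ ∧ ∀ y ∈ S, ⁅y, q'⁆ ∈ W := fun W q hq nW k => by
    obtain ⟨q', hq', e⟩ := h.mQ.ge (norm_mem' (h.l.nor hx) (h.mQ.le ⟨q, hq, rfl⟩))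
    refine ⟨q', hq', e, fun y hy => ?_⟩
    obtain ⟨v, hv, e'⟩ := norm_mem n (mem_map_of_mem Φ hy)
    have := norm_mem' nW (mem_map_of_mem Φ (k v hv))
    rw [map_commutatorElement, e', show x * ⁅x⁻¹ * Φ y * x, Φ q⁆ * x⁻¹ = ⁅Φ y, x * Φ q * x⁻¹⁆ by
      simp only [commutatorElement_def]; group, ← e, ← map_commutatorElement] at this
    exact (mem_map_iff_mem h.inj).1 this
  have xz := conj_eq_iff.2 (mem_c1.1 hx)
  obtain ⟨q, hq, e, k⟩ := key (zpowers a) t0 M.tQ (by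
    rw [MonoidHom.map_zpowers, h.pa]; exact cj_eq_self_iff.1 (by rw [cj_zpowers, xz])) M.k1'
  have zt : ∀ v, Φ (a * v) = z * Φ v := fun v => by rw [map_mul, h.pa]
  have n1 : ∀ {v}, x * Φ v * x⁻¹ = 1 → v = 1 := fun k => h.inj (by simpa using k)
  rcases M.p.mem_V.1 (M.k1 q hq k) with rfl | rfl | rfl | rfl
  · exact absurd (n1 (e.symm.trans Φ.map_one)) M.p.r.z_ne
  · rw [h.pa, ← xz, mul_left_inj, mul_right_inj, ← h.pa] at e
    exact absurd (h.inj e).symm M.ne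
  · exact ⟨_, conj_eq_iff.1 e.symm, M.pure.1⟩
  have nV : x ∈ 𝐍((V4 a t0).map Φ) := mem_normalizer_fintype (by
    rintro _ ⟨v, hv, rfl⟩
    have t1 : x * Φ t0 * x⁻¹ ∈ (V4 a t0).map Φ := e ▸ mem_map_of_mem Φ (mul_mem M.p.zV M.p.tV)
    have z1 : x * Φ a * x⁻¹ ∈ (V4 a t0).map Φ := by rw [h.pa, xz, ← h.pa]; exact mem_map_of_mem Φ M.p.zV
    rcases M.p.mem_V.1 hv with rfl | rfl | rfl | rfl
    exacts [by rw [map_one, mul_one, mul_inv_cancel]; exact one_mem _, z1, t1, by rw [map_mul, conj_mul_conj]; exact mul_mem z1 t1])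
  obtain ⟨q, hq, e', k⟩ := key _ _ wQ nV M.k2'
  have ww : s * t0 * s * (s * t0 * s) = 1 := by
    rw [show s * t0 * s * (s * t0 * s) = s * (t0 * (s * s) * t0) * s by group, M.ss, mul_one, M.p.r.zz, mul_one, M.ss]
  have k2 := (M.k2 q hq k).resolve_left fun c => M.wV ((mem_map_iff_mem h.inj).1
    ((mem_normalizer_iff.1 nV _).2 (e' ▸ mem_map_of_mem Φ c)))
  have pu := M.pure.2
  generalize s * t0 * s = w at *
  obtain ⟨v, rfl⟩ : ∃ v, q = v * w := ⟨q * w, by rw [mul_assoc, ww, mul_one]⟩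
  rw [mul_assoc, ww, mul_one] at k2
  have e2 : x * Φ v * x⁻¹ * Φ v = 1 := by
    rw [← mul_left_inj (Φ w), mul_assoc, ← map_mul, e', ← conj_mul_conj, ← map_mul, e',
      show x * (x * Φ w * x⁻¹) * x⁻¹ = x * x * Φ w * (x * x)⁻¹ by group, xx]
    group
  rw [zt] at e
  rcases M.p.mem_V.1 k2 with rfl | rfl | rfl | rfl
  · exact ⟨_, conj_eq_iff.1 (by rw [← e', one_mul]), pu.1⟩
  · refine ⟨_, conj_eq_iff.1 ?_, pu.2⟩
    rw [map_mul, conj_mul_conj, ← e, ← e', ← zt, ← map_mul, ← map_mul, ← M.p.tz, mul_assoc, ← mul_assoc _ _ w, M.l.zz,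
      one_mul]
  · rw [← e, mul_assoc, ← map_mul, M.p.r.zz, map_one, mul_one] at e2
    exact absurd e2 h.l.z_ne
  · rw [zt, conj_mul_conj, xz, ← e, ← mul_assoc z, h.l.zz, one_mul, ← h.pa, ← map_mul, ← map_mul, ← mul_assoc, M.p.tz,
      mul_assoc, M.p.r.zz, mul_one, h.pa] at e2
    exact absurd e2 h.l.z_ne

theorem fusM {g : G} (hg : g * z * g⁻¹ ∈ Φ.range ⊔ 𝐂₁(z)) : g ∈ Φ.range ⊔ 𝐂₁(z) := by
  have : Fact (Nat.Prime 2) := ⟨Nat.prime_two⟩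
  have s1 : IsSyl 2 (S.map Φ) H := h.mC ▸ M.sy.map Φ
  obtain ⟨R, hR, SR⟩ := exists_isSyl_ge s1.isPGroup (s1.le.trans h.HC)
  have xx : ∀ g : G, g * z * g⁻¹ * (g * z * g⁻¹) = 1 := fun g => by rw [← conj_mul_conj, h.l.zz]; group
  obtain ⟨k, hk, e⟩ := ((h.l.isSyl_top hR).mono (hR.le.trans le_sup_right) le_top).exists_cj_le
    (isPGroup_iff_forall.2 fun y k => ⟨1, by
      obtain ⟨m, e⟩ := mem_zpowers_iff.1 k
      rw [← e, pow_one, ← zpow_natCast, ← zpow_mul, mul_comm, zpow_mul, zpow_natCast, sq, xx, one_zpow]⟩) (zpowers_le.2 hg)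
  refine (mul_mem_cancel_left hk).1 ?_
  have k1 : k * g * z * (k * g)⁻¹ ∈ R := by simpa [mul_assoc] using e (conj_mem_cj k (mem_zpowers _))
  generalize k * g = g at k1
  obtain ⟨y, c, c1, c2⟩ := h.four M (hR.le k1) (xx g) (by
    rw [← s1.eq_of_le (hR.isPGroup.to_inf_left (K := H)) (le_inf SR s1.le) inf_le_right]
    exact cj_eq_self_iff.1 (by rw [cj_inf, cj_eq_self_of_mem k1, cj_eq_self (h.ix.norm h.HC (hR.le k1))]))
  have m : ∀ {v}, g * z * g⁻¹ * v = v * (g * z * g⁻¹) → g⁻¹ * v * g ∈ 𝐂₁(z) := fun {v} e => mem_c1.2 (by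
    rw [show g⁻¹ * v * g * z = g⁻¹ * (v * (g * z * g⁻¹)) * g by group, ← e]; group)
  have fin : ∀ v, IsConj a v → g⁻¹ * Φ v * g ∈ H → g ∈ Φ.range ⊔ 𝐂₁(z) := fun v c k => by
    obtain ⟨w, -, e⟩ := h.mC.ge k
    obtain ⟨b, rfl⟩ := isConj_iff.1 (h.fus w (by simpa [e] using isConj_cj (h.cjz c) g⁻¹))
    obtain ⟨d, rfl⟩ := isConj_iff.1 c
    have y : ∀ d, Φ d ∈ Φ.range ⊔ 𝐂₁(z) := fun d => mem_sup_left ⟨d, rfl⟩
    refine (mul_mem_cancel_left (inv_mem (y d))).1 ((mul_mem_cancel_right (y b)).1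
      (mem_sup_right (mem_c1.2 (conj_eq_iff.1 ?_))))
    simp only [map_mul, map_inv, h.pa] at e
    rw [show (Φ d)⁻¹ * g * Φ b * z * ((Φ d)⁻¹ * g * Φ b)⁻¹ = (Φ d)⁻¹ * g * (Φ b * z * (Φ b)⁻¹) * g⁻¹ * Φ d by group, e]
    group
  by_cases a1 : g⁻¹ * Φ a * g ∈ H
  · exact fin a (IsConj.refl a) a1
  by_cases a2 : g⁻¹ * Φ y * g ∈ H
  · exact fin y c1 a2
  refine fin _ c2 ?_
  have := h.ix _ (m (h.pa.symm ▸ mem_c1.1 (hR.le k1))) _ (m c) a1 a2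
  simpa [mul_assoc] using this

theorem top : Φ.range ⊔ 𝐂₁(z) = ⊤ := by
  by_contra ne
  have := M.sim
  have zc := XT.zc_of h.l le_sup_right (fun x hx c => by
    obtain ⟨g, rfl⟩ := isConj_iff.1 c
    exact ⟨g, h.fusM M hx, rfl⟩) ne
  have cc : ∀ {x : G} (y : E), 𝐂₁(x) ≤ Φ.range ⊔ 𝐂₁(z) → 𝐂₁(Φ y * x * (Φ y)⁻¹) ≤ Φ.range ⊔ 𝐂₁(z) := fun y k => by
    rw [← cj_centralizer_singleton, ← cj_eq_self_of_mem (mem_sup_left ⟨y, rfl⟩ : Φ y ∈ Φ.range ⊔ 𝐂₁(z))]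
    exact cj_mono _ k
  have cu : 𝐂₁(Φ u) ≤ Φ.range ⊔ 𝐂₁(z) := by
    obtain ⟨d, hd, d1, d2⟩ := M.dx
    refine cent_le' (A := A.map Φ) zc ((map_le_range _ _).trans le_sup_left) (by
      rintro _ ⟨x, hx, rfl⟩; rw [← map_mul, M.sq x hx, map_one]) (mem_map_of_mem Φ M.uA) (fun g hg e => ?_)
      (mem_map_of_mem Φ hd) (h.cjz d1) (map_mul Φ d u ▸ h.cjz d2) fun X hX uX n k => ?_
    · refine mem_normalizer_fintype ?_
      rintro _ ⟨x, hx, rfl⟩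
      have : A ≤ (cj[g⁻¹] (A.map Φ)).comap Φ := M.f4.trans ((closure_le _).2 fun y hy => by
        obtain ⟨v, ev⟩ := norm_mem' (h.norm M hg) ⟨y, rfl⟩
        refine mem_comap.2 (mem_cj.2 ⟨v, M.memA (h.fus v (ev ▸ isConj_cj (h.cjz hy.1) g)) (h.fus _ ?_), by simp [ev]⟩)
        have := isConj_cj (h.cjz hy.2) g
        rwa [map_mul, conj_mul_conj, conj_eq_iff.2 e, ← ev, ← map_mul] at this)
      simpa using mem_cj.1 (mem_comap.1 (this hx))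
    · refine M.ar (X.comap Φ) (fun x hx => (mem_map_iff_mem h.inj).1 (hX hx)) uX (fun e he c => n _ he (h.cjz c))
        fun y hy c => ?_
      obtain ⟨e, he, c1, c2⟩ := k _ (mem_map_of_mem Φ hy) (h.cjz c)
      obtain ⟨e, -, rfl⟩ := hX he
      exact ⟨e, he, h.fus _ (by rwa [map_mul]), h.fus _ (by rwa [map_mul, map_mul])⟩
  refine M.f2 (h.fus u (zc.ai (fun e he n c => ?_) (fun v _ iv => by_contra fun k => ?_) ?_
    ⟨fun e => M.u1 (h.inj (e.trans Φ.map_one.symm)), by rw [← map_mul, M.sq u M.uA, map_one]⟩))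
  · obtain ⟨g, rfl⟩ := isConj_iff.1 he
    obtain ⟨e, ee⟩ := norm_mem' (h.norm M (h.fusM M (mem_sup_right (mem_c1.2 c.symm)))) ⟨a, h.pa⟩
    rw [← ee] at he n c ⊢
    rw [← h.pa, ← map_mul] at c ⊢
    rw [h.pa]
    rcases M.f1 e (h.fus e he) (h.inj (c.trans (map_mul _ _ _).symm)) (fun k => n (k ▸ h.pa)) with k | ⟨y, -, k⟩
    · obtain ⟨y, k⟩ := isConj_iff.1 k
      rw [← k, map_mul, map_mul, map_inv, h.pa]
      exact cc y le_sup_right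
    · have := cc y⁻¹ cu
      rwa [← k, ← map_inv, ← map_mul, ← map_mul, show y⁻¹ * (y * (a * e) * y⁻¹) * y⁻¹⁻¹ = a * e by group] at this
  · push Not at k
    rcases ((Φ.range ⊔ 𝐂₁(z)).normalCore_normal.comap Φ).eq_bot_or_eq_top with e | e
    · have vY : v ∈ 𝐍(Φ.range) := h.norm M (by simpa using k 1)
      have c : ∀ y ∈ Φ.range, y * v = v * y := by
        rintro _ ⟨y, rfl⟩
        have yY : Φ y ∈ Φ.range := ⟨y, rfl⟩
        obtain ⟨w, ew⟩ := mul_mem yY (norm_mem' vY (inv_mem yY))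
        have : w ∈ (Φ.range ⊔ 𝐂₁(z)).normalCore.comap Φ := by
          rw [mem_comap, ew, show Φ y * (v * (Φ y)⁻¹ * v⁻¹) = Φ y * v * (Φ y)⁻¹ * v⁻¹ by group]
          exact mul_mem ((normalCore_normal _).conj_mem v k _) (inv_mem k)
        rw [mem_bot.1 (e.le this), map_one] at ew
        rw [← mul_inv_eq_one, ew]; group
      obtain rfl := (h.l.cent_cases fun y hy => c y (h.QY hy)).resolve_left iv.ne
      exact iv.ne (h.pa.symm.trans (by rw [mem_bot.1 (e.le (show a ∈ _ from h.pa.symm ▸ k)), map_one]))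
    · exact ne (eq_top_iff.2 fun g _ => h.fusM M (h.pa ▸ mem_comap.1 (e.ge (mem_top a)) g))
  · rcases ((normalClosure_normal (s := {z})).comap Φ).eq_bot_or_eq_top with e | e
    · exact absurd (mem_bot.1 (e.le (show a ∈ _ from h.pa.symm ▸ subset_normalClosure rfl))) M.l.z_ne
    · exact e.ge (mem_top u)

theorem normal : Φ.range.Normal := normalizer_eq_top_iff.1 (eq_top_iff.2 (h.top M ▸ h.norm M))

theorem index : Φ.range.index = H.relIndex 𝐂₁(z) := by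
  have := h.normal M
  rw [← h.inf, inf_relIndex_right, ← relIndex_sup_left, h.top M, relIndex_top_right]

theorem fstar : generalizedFittingSubgroup G = Φ.range := by
  have := h.normal M
  have := M.sim
  have := (MonoidHom.ofInjective h.inj).symm.isSimpleGroup
  have n : ¬ Φ r * z = z * Φ r := fun e => M.ne (M.ra.symm.trans (conj_eq_iff.2 (h.inj (by simpa [h.pa] using e))))
  refine fstar_simple (eq_bot_iff.2 fun x hx => (h.l.cent_cases fun y hy => hx y (h.QY hy)).resolve_right fun e =>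
    n (e ▸ hx _ ⟨r, rfl⟩)) fun c => n (congrArg Subtype.val (c.1.1 ⟨_, r, rfl⟩ ⟨_, a, h.pa⟩))

end Ph

theorem Pre.exists_ph (h : Pre Q H z Q0 a Θ) (M : MC Q0 a t0 F r s T ρ S A u) (ix : Ix H 𝐂₁(z))
    (cQ : Nat.card Q = 2 ^ 21) (w : ∃ g : G, g * z * g⁻¹ ∈ Q ∧ g * z * g⁻¹ ≠ z) : ∃ Φ, Ph Q H z Q0 a Φ := by
  obtain ⟨g, a, b⟩ := w
  obtain ⟨m, -, k⟩ := exists_sv h M.toMA (h.l.pair (by rw [cQ]; norm_num) b a) ix cQ
  obtain ⟨U, k⟩ := k.exists_su M.toMA ix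
  obtain ⟨ψ, k⟩ := k.exists_ps
  exact k.exists_ph M ix cQ

end CF.E62
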