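import Cfsg.Agent.E62.G5
import Mathlib.GroupTheory.SpecificGroups.ZGroup

/-! The construction when the subgroup of the centraliser is normal of index dividing six. -/

set_option autoImplicit false
set_option linter.unusedSectionVars false

namespace CF.E62

open Cfsg Subgroup CF.Loc CF.Even CF.LX CF.J4 CF.BN
open scoped commutatorElement

variable {G E : Type*} [Group G] [Group E] [Finite G] [Finite E]
variable {Q H P : Subgroup G} {z t U : G} {Q0 : Subgroup E} {a t0 F r s : E} {Θ ψ : E → G}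
variable {T : BNPair E} {ρ : T.S → E}

/-- `X` is normalised by `A` and of index dividing six -/
structure I6 (X A : Subgroup G) : Prop where
  norm : A ≤ 𝐍(X)
  i6 : X.relIndex A ∣ 6

theorem I6.two {X A R : Subgroup G} (h : I6 X A) (p : IsPGroup 2 R) (l : R ≤ A) : Ix X R := fun x hx y hy a b => by
  haveI : Fact (Nat.Prime 2) := ⟨Nat.prime_two⟩
  haveI := normal_subgroupOf_of_le_normalizer' h.norm
  obtain ⟨k, hk⟩ := IsPGroup.iff_card.1 p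
  have d : X.relIndex R ∣ 2 * 3 := (relIndex_subgroupOf l ▸ relIndex_dvd_index_of_normal (X.subgroupOf A) (R.subgroupOf A)).trans h.i6
  have d2 := (Nat.Coprime.coprime_dvd_left (hk ▸ relIndex_dvd_card X R) (Nat.Coprime.pow_left k (by decide))).dvd_of_dvd_mul_right d
  exact (mul_mem_iff_of_index_two (H := X.subgroupOf R) (a := ⟨x, hx⟩) (b := ⟨y, hy⟩)
    (((Nat.dvd_prime Nat.prime_two).1 d2).resolve_left fun e => a (relIndex_eq_one.1 e hx))).2 (iff_of_false a b)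

theorem I6.inv {X A : Subgroup G} (h : I6 X A) {x y : G} (hx : x ∈ A) (hy : y ∈ A) (xx : x * x = 1) (yy : y * y = 1)
    (c : x * y = y * x) (a : x ∉ X) (b : y ∉ X) : x * y ∈ X :=
  h.two ((isPGroup_zpowers (k := 1) ((pow_two x).trans xx)).to_sup_of_normal_right' (isPGroup_zpowers (k := 1)
    ((pow_two y).trans yy)) (zpowers_le.2 (cj_eq_self_iff.1 (by rw [cj_zpowers, conj_eq_iff.2 c]))))
    (sup_le (zpowers_le.2 hx) (zpowers_le.2 hy)) x (mem_sup_left (mem_zpowers x)) y (mem_sup_right (mem_zpowers y)) a b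

theorem I6.dd {X A : Subgroup G} (h : I6 X A) : ⁅⁅A, A⁆, ⁅A, A⁆⁆ ≤ X := by
  haveI := normal_subgroupOf_of_le_normalizer' h.norm
  haveI : IsZGroup (A ⧸ X.subgroupOf A) := .of_squarefree (Squarefree.squarefree_of_dvd h.i6 (by decide +kernel))
  haveI := IsZGroup.isCyclic_commutator (A ⧸ X.subgroupOf A)
  have c : IsMulCommutative (commutator (A ⧸ X.subgroupOf A)) := inferInstance
  rw [← map_subtype_commutator A, ← map_commutator, map_le_iff_le_comap]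
  refine commutator_le.2 fun x hx y hy => (QuotientGroup.eq_one_iff (N := X.subgroupOf A) _).1 ?_
  have m : ∀ x ∈ commutator A, QuotientGroup.mk' (X.subgroupOf A) x ∈ commutator _ := fun x hx =>
    (map_commutator _ _ _).le.trans (commutator_mono le_top le_top) ⟨x, hx, rfl⟩
  rw [← QuotientGroup.mk'_apply, map_commutatorElement, commutatorElement_eq_one_iff_mul_comm]
  exact congrArg Subtype.val (c.is_comm.comm ⟨_, m x hx⟩ ⟨_, m y hy⟩)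

section
variable (h : Pre Q H z Q0 a Θ) (M : MA Q0 a t0 F r) (p : Pair Q P z t) (ix : I6 H 𝐂₁(z)) (cQ : Nat.card Q = 2 ^ 21)
include h M p ix cQ

omit M in
theorem card_X6 : 2 ^ 40 ≤ Nat.card (h.lift (P ⊓ 𝐂₁(z) ⊓ H ⊔ Q)) * Nat.card ↥(Q ⊓ P) := by
  have k1 := card_sup_mul_card_inf (H := P ⊓ 𝐂₁(z) ⊓ H) (inf_le_right.trans (h.HC.trans h.l.nor))
  have k2 := Ix.card (X := H) (A := P ⊓ 𝐂₁(z)) (ix.two (IsPGroup.of_card (cardP1 p cQ)) inf_le_right)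
  have k3 := h.card_lift (A := P ⊓ 𝐂₁(z) ⊓ H ⊔ Q) (sup_le inf_le_right h.QH)
  rw [inf_assoc _ H, inf_eq_right.2 h.QH, inf_Q p, cQ] at k1
  rw [cardP1 p cQ] at k2
  nlinarith

theorem sv_a6 : ∃ m ∈ 𝐂₁(a), ∀ g ∈ P ⊓ 𝐂₁(z) ⊓ H ⊔ Q, ∀ n, Cor H Θ Q0 a g (m * n * m⁻¹) → n ∈ cj[r] Q0 ⊓ 𝐂₁(a) ⊔ Q0 := by
  have k := card_X6 h p ix cQ
  have k1 := cardE p cQ
  obtain ⟨c, hc, e⟩ := M.j8 _ (Q_le_X (P := P) h) h.lift_le (fun x hx => by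
    obtain ⟨g, hg, c⟩ := h.mem_lift.1 hx
    refine (h.memQ (h.cmul c c)).1 ?_
    obtain ⟨b, hb, q, hq, rfl⟩ := (mem_A p).1 ((sup_le_sup_right inf_le_left Q : _ ≤ P ⊓ 𝐂₁(z) ⊔ Q) hg)
    rw [show b * q * (b * q) = b * b * (b⁻¹ * q * b * q) by group]
    exact mul_mem (zpowers_le.2 p.tQ (p.r.sq_mem hb.1)) (mul_mem (norm_mem (h.l.nor hb.2) hq) hq)) (by nlinarith)
  exact ⟨c⁻¹, inv_mem hc, fun g hg n k => e (mem_cj.2 (h.mem_lift.2 ⟨g, hg, by simpa using k⟩))⟩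

variable (S : ∀ g ∈ P ⊓ 𝐂₁(z) ⊓ H ⊔ Q, ∀ n, Cor H Θ Q0 a g n → n ∈ cj[r] Q0 ⊓ 𝐂₁(a) ⊔ Q0)
include S

theorem ix_X6 : Ix (h.lift (P ⊓ 𝐂₁(z) ⊓ H ⊔ Q)) (cj[r] Q0 ⊓ 𝐂₁(a) ⊔ Q0) := by
  have k := card_X6 h p ix cQ
  have k1 := cardE p cQ
  exact .of_card (fun x hx => (h.mem_lift.1 hx).elim fun g k => S g k.1 x k.2) (by rw [M.cA]; nlinarith)

theorem sv_b6 : Θ t0 = t ∨ Θ t0 = z * t := by
  obtain ⟨x, hx, y, hy, w, hw, e⟩ := M.v1 _ (Q_le_X (P := P) h) (ix_X6 h M p ix cQ S)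
  obtain ⟨g1, a1, c1⟩ := h.mem_lift.1 hx
  obtain ⟨g2, a2, c2⟩ := h.mem_lift.1 hy
  obtain ⟨g3, a3, c3⟩ := h.mem_lift.1 hw
  have l := sup_le_sup_right (inf_le_left : P ⊓ 𝐂₁(z) ⊓ H ≤ _) Q
  obtain ⟨b1, e1⟩ := h.cmm c1 M.FQ
  obtain ⟨b2, e2⟩ := h.cmm c2 b1
  have k := cmm3 p (cmm2 p (cmm1 p (h.mem _ M.FQ) (l a1)) (l a2)) (l a3)
  rw [← e1, ← e2, ← (h.cmm c3 b2).2] at k
  have k2 : Θ t0 ∈ V4 z t := by
    rcases e with e | e <;> rw [e] at k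
    · exact k
    · rw [h.hom _ h.e0.mem _ M.tQ, h.tz] at k
      exact (mul_mem_cancel_left p.zV).1 k
  rcases p.mem_V.1 k2 with e | e | e
  · exact absurd (h.inj _ M.tQ _ (one_mem _) (e.trans h.hom.one.symm)) M.p.r.z_ne
  · exact absurd (h.inj _ M.tQ _ h.e0.mem (e.trans h.tz.symm)) M.ne
  · exact e

theorem sv_c6 (tt : Θ t0 = t) : Sv Q H P z t Q0 a t0 r Θ := by
  have l := sup_le_sup_right (inf_le_left : P ⊓ 𝐂₁(z) ⊓ H ≤ _) Q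
  have hX : cj[r] Q0 ⊓ 𝐂₁(a) ≤ h.lift (P ⊓ 𝐂₁(z) ⊓ H ⊔ Q) := M.d'.trans (commutator_le.2 fun x hx n hn => by
    refine (ix_X6 h M p ix cQ S).comm (mem_sup_left hx) (mem_normalizer_fintype fun y hy => ?_) (N_norm_A M.p hn)
    obtain ⟨g, hg, c⟩ := h.mem_lift.1 hy
    obtain ⟨k, d⟩ := h.up n (mem_c1.2 ((mem_N M.p).1 hn).1)
    have kN : k ∈ 𝐂(V4 z t) := (mem_N p).2 ⟨mem_c1.1 (h.HC d.l), tt ▸ (h.ccomm d M.tQ).2 ((mem_N M.p).1 hn).2⟩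
    refine h.mem_lift.2 ⟨_, norm_mem' (cj_eq_self_iff.1 ?_) hg, h.cconj d c⟩
    rw [cj_sup, cj_inf _ _ H, cj_eq_self (p.C_norm_B kN), cj_eq_self (p.C_norm_Q kN), cj_eq_self_of_mem d.l])
  have hA : cj[r] Q0 ⊓ 𝐂₁(a) ⊔ Q0 ≤ h.lift (P ⊓ 𝐂₁(z) ⊓ H ⊔ Q) := sup_le hX (Q_le_X h)
  have e1 : Q0 ⊓ cj[r] Q0 ≤ h.hom.pre (Q ⊓ P) := M.v2.trans (commutator_le.2 fun x hx n hn => by
    obtain ⟨g, hg, c⟩ := h.mem_lift.1 (hX hn)
    obtain ⟨b, e⟩ := h.cmm c hx.1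
    exact h.hom.mem_pre.2 ⟨b, e ▸ cmm2 p ⟨h.mem _ hx.1, mem_c1.2 (tt ▸ (h.comm hx.1 M.tQ).2 (mem_c1.1 hx.2))⟩ (l hg)⟩)
  have f : Function.Injective fun x : ↥(Q0 ⊓ cj[r] Q0) => (⟨Θ x, (h.hom.mem_pre.1 (e1 x.2)).2⟩ : ↥(Q ⊓ P)) :=
    fun x y e => Subtype.ext (h.inj _ x.2.1 _ y.2.1 (congrArg Subtype.val e))
  have c1 : Nat.card ↥(Q ⊓ P) = 2 ^ 11 := le_antisymm (cardE p cQ) (M.cE ▸ Nat.card_le_card_of_injective _ f)
  have e2 : ∀ y ∈ Q ⊓ P, ∃ x ∈ Q0 ⊓ cj[r] Q0, Θ x = y := fun y hy => by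
    obtain ⟨x, e⟩ := ((Nat.bijective_iff_injective_and_card _).2 ⟨f, M.cE.trans c1.symm⟩).2 ⟨y, hy⟩
    exact ⟨x, x.2, congrArg Subtype.val e⟩
  have PH : P ⊓ 𝐂₁(z) ≤ H := by
    have k1 := card_sup_mul_card_inf (H := P ⊓ 𝐂₁(z) ⊓ H) (inf_le_right.trans (h.HC.trans h.l.nor))
    have k2 := (card_le_of_le hA).trans (h.card_lift_le (mem_sup_right h.l.mem))
    rw [inf_assoc _ H, inf_eq_right.2 h.QH, inf_Q p, cQ, c1] at k1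
    rw [M.cA] at k2
    exact (eq_of_le_of_card_ge (inf_le_left : P ⊓ 𝐂₁(z) ⊓ H ≤ _) (by rw [cardP1 p cQ]; omega)).ge.trans inf_le_right
  refine ⟨h, p, tt, PH, centE p cQ c1, fun {g m} c => ⟨fun k => ?_, fun k => ?_⟩⟩
  · refine mem_P1 M.p (centE M.p M.cQ M.cE) (S g (mem_sup_left ⟨⟨k, h.HC c.l⟩, c.l⟩) m c) fun e he => ?_
    have b := h.cm he.1 c.r
    rw [← h.mem_zp (mul_mem b (inv_mem he.1)) M.tQ, h.hom _ b _ (inv_mem he.1), h.hom.inv he.1, ← c.e _ he.1, tt]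
    exact p.r.comm_mem k (h.hom.mem_pre.1 (e1 he)).2.2
  · obtain ⟨g', hg, d⟩ := h.mem_lift.1 (hX ⟨k, c.r⟩)
    refine mem_P1 p (centE p cQ c1) ?_ fun e he => ?_
    · rcases h.left' c d with rfl | rfl
      exacts [l hg, mul_mem (mem_sup_right h.l.mem) (l hg)]
    · obtain ⟨x, hx, rfl⟩ := e2 e he
      have b := h.cm hx.1 c.r
      rw [c.e _ hx.1, ← h.hom.inv hx.1, ← h.hom _ b _ (inv_mem hx.1), ← tt, h.mem_zp (mul_mem b (inv_mem hx.1)) M.tQ]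
      exact M.p.r.comm_mem k hx.2

omit S in
theorem exists_sv6 : ∃ m ∈ 𝐂₁(a), Sv Q H P z t Q0 a t0 r fun x => Θ (m * x * m⁻¹) := by
  have tw : ∀ {m n g}, m ∈ 𝐂₁(a) → Cor H (fun x => Θ (m * x * m⁻¹)) Q0 a g n → Cor H Θ Q0 a g (m * n * m⁻¹) :=
    fun {m n g} hm c => ⟨c.l, mul_mem (mul_mem hm c.r) (inv_mem hm), fun x hx => by
      have := c.e _ (h.cm hx (inv_mem hm))
      simpa [mul_assoc] using this⟩
  obtain ⟨m, hm, k⟩ := sv_a6 h M p ix cQ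
  have S := fun g hg n c => k g hg n (tw hm c)
  rcases sv_b6 (h.twist hm) M p ix cQ S with e | e
  · exact ⟨m, hm, sv_c6 (h.twist hm) M p ix cQ S e⟩
  have m2 := mul_mem hm (M.l.le_c1 M.FQ)
  refine ⟨m * F, m2, sv_c6 (h.twist m2) M p ix cQ (fun g hg n c => ?_) ?_⟩
  · have := k g hg (F * n * F⁻¹) (by simpa [mul_assoc] using tw m2 c)
    simpa [mul_assoc] using mul_mem (mul_mem (inv_mem (mem_sup_right M.FQ)) this) (mem_sup_right M.FQ)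
  · have := (h.twist hm).hom _ M.l.mem _ M.tQ
    rw [← M.Ft, (h.twist hm).tz, e, ← mul_assoc z, h.l.zz, one_mul] at this
    simpa [mul_assoc] using this

end

namespace Sv
variable (h : Sv Q H P z t Q0 a t0 r Θ) (M : MA Q0 a t0 F r)
include h M

theorem N_eq6 (ix : I6 H 𝐂₁(z)) :
    𝐂(V4 z t) ⊓ H = ⁅⁅𝐂(V4 z t), 𝐂(V4 z t)⁆, ⁅𝐂(V4 z t), 𝐂(V4 z t)⁆⁆ := by
  have l : 𝐂(V4 z t) ≤ 𝐂₁(z) := fun _ k => mem_c1.2 ((mem_N h.p).1 k).1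
  have l0 : 𝐂(V4 a t0) ≤ 𝐂₁(a) := fun _ k => mem_c1.2 ((mem_N M.p).1 k).1
  suffices k : 𝐂(V4 z t) ⊓ H ≤ ⁅𝐂(V4 z t) ⊓ H, 𝐂(V4 z t) ⊓ H⁆ from
    have k' := k.trans (commutator_mono inf_le_left inf_le_left)
    le_antisymm (k.trans (commutator_mono k' k')) (le_inf ((commutator_le_left_of_le_normalizer le_normalizer).trans
      (commutator_le_left_of_le_normalizer le_normalizer)) ((commutator_mono (commutator_mono l l) (commutator_mono l l)).trans ix.dd))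
  intro g hg
  have k1 : Q0 ⊓ 𝐂₁(t0) ≤ h.hom.pre ⁅𝐂(V4 z t) ⊓ H, 𝐂(V4 z t) ⊓ H⁆ := M.d.trans (commutator_le.2 fun x hx n hn => by
    obtain ⟨k, c⟩ := h.up n (l0 hn)
    obtain ⟨b, e⟩ := h.cmm c hx.1
    exact h.hom.mem_pre.2 ⟨b, e ▸ commutator_mem_commutator ⟨(h.corN M (h.cself hx.1)).2 (M.p.A_le hx), (h.cself hx.1).l⟩
      ⟨(h.corN M c).2 hn, c.l⟩⟩)
  have k2 : 𝐂(V4 a t0) ≤ h.lift ⁅𝐂(V4 z t) ⊓ H, 𝐂(V4 z t) ⊓ H⁆ := M.pf.trans (commutator_le.2 fun x hx n hn => by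
    obtain ⟨k, c⟩ := h.up n (l0 hn)
    obtain ⟨y, d⟩ := h.up x (l0 hx)
    exact h.mem_lift.2 ⟨_, commutator_mem_commutator ⟨(h.corN M d).2 hx, d.l⟩ ⟨(h.corN M c).2 hn, c.l⟩,
      h.cmul (h.cconj d c) (h.cinv c)⟩)
  obtain ⟨m, c⟩ := h.down g hg.2
  obtain ⟨k, hk, d⟩ := h.mem_lift.1 (k2 ((h.corN M c).1 hg.1))
  rcases h.left' c d with rfl | rfl
  exacts [hk, mul_mem (h.tz ▸ (h.hom.mem_pre.1 (k1 ⟨M.l.mem, mem_c1.2 M.p.tz.symm⟩)).2) hk]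

theorem exists_su6 (ix : I6 H 𝐂₁(z)) : ∃ U, Su Q H P z t U Q0 a t0 F r Θ := by
  have p := h.p
  have nN : 𝐍(V4 z t) ≤ 𝐍(𝐂(V4 z t) ⊓ H) := fun g hg => cj_eq_self_iff.1 (by
    rw [h.N_eq6 M ix, cj_commutator, cj_commutator, cj_centralizer, cj_eq_self hg])
  have mE : ∀ x ∈ Q0 ⊓ cj[r] Q0, Θ x ∈ Q ⊓ P := fun x hx => ⟨h.mem x hx.1, (h.pp (h.cself hx.1)).2 hx.2⟩
  have Ft : Θ F * t * (Θ F)⁻¹ = z * t := by
    rw [← h.tt, ← h.hom.conj M.FQ M.tQ, M.Ft, h.hom _ M.l.mem _ M.tQ, h.tz]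
  have key : ∀ s ∈ Q ⊔ P, s * z * s⁻¹ = t → s * t * s⁻¹ = z → s * Θ F * s⁻¹ ∈ P ∧
      s * Θ F * s⁻¹ * z * (s * Θ F * s⁻¹)⁻¹ = t * z := fun s _ a b => ⟨p.cjl s a ▸ conj_mem_cj s (h.mem _ M.FQ), by
    nth_rw 1 [← b]
    rw [show s * Θ F * s⁻¹ * (s * t * s⁻¹) * (s * Θ F * s⁻¹)⁻¹ = s * (Θ F * t * (Θ F)⁻¹) * s⁻¹ by group, Ft,
      conj_mul_conj, a, b]⟩
  obtain ⟨s, hs, sz, st⟩ := p.exists_swap
  obtain ⟨u1, u2⟩ := key s hs sz st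
  have nz : ∀ {X : Type _} [Group X] {u z t : X}, t ≠ 1 → u * z * u⁻¹ = t * z → ¬ z * u = u * z := fun n e k =>
    n (mul_eq_right.1 (e.symm.trans (conj_eq_iff.2 k.symm)))
  have nz0 : ¬ a * (r * F * r⁻¹) = r * F * r⁻¹ * a := fun k =>
    M.p.r.z_ne (mul_eq_right.1 (M.Ua.symm.trans (conj_eq_iff.2 k.symm)))
  generalize hu : s * Θ F * s⁻¹ = u at u1 u2
  let W : Subgroup G :=
    { carrier := {y | ∃ x ∈ Q0 ⊓ cj[r] Q0, Θ x = y ∧ (y * u = u * y ↔ x * (r * F * r⁻¹) = r * F * r⁻¹ * x)}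
      one_mem' := ⟨1, one_mem _, h.hom.one, by simp⟩
      mul_mem' := by
        rintro _ _ ⟨x, hx, rfl, e⟩ ⟨y, hy, rfl, e'⟩
        exact ⟨_, mul_mem hx hy, h.hom _ hx.1 _ hy.1, by
          rw [comm_mul p.r.toEX u1 (mE x hx).2 (mE y hy).2, comm_mul M.p.r.toEX M.UP hx.2 hy.2, e, e']⟩
      inv_mem' := by
        rintro _ ⟨x, hx, rfl, e⟩
        rw [inv_eq_of_mul_eq_one_left (p.E_sq (mE x hx))]
        exact ⟨x, hx, rfl, e⟩ }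
  have sE : ∀ y ∈ Q ⊓ P, ∃ x ∈ Q0 ⊓ cj[r] Q0, Θ x = y := fun y hy => by
    obtain ⟨x, hx, rfl⟩ := h.surj y hy.1
    exact ⟨x, ⟨hx, (h.pp (h.cself hx)).1 hy.2⟩, rfl⟩
  obtain ⟨q, hq, c, k⟩ := BabU.move_char p.l.toEX (W := W) (U := Q ⊓ P)
    ⟨a, M.p.V_le M.p.zV, h.tz, iff_of_false (nz p.r.z_ne u2) nz0⟩ (by rintro _ ⟨x, hx, rfl, -⟩; exact mE x hx)
    inf_le_left fun y hy y' hy' n n' => by
      obtain ⟨x, hx, rfl⟩ := sE y hy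
      obtain ⟨x', hx', rfl⟩ := sE y' hy'
      refine ⟨_, mul_mem hx hx', h.hom _ hx.1 _ hx'.1, ?_⟩
      rw [comm_mul p.r.toEX u1 hy.2 hy'.2, comm_mul M.p.r.toEX M.UP hx.2 hx'.2]
      have := fun e => n ⟨x, hx, rfl, e⟩
      have := fun e => n' ⟨x', hx', rfl, e⟩
      tauto
  have qt : q * t = t * q := (c t ⟨t0, M.p.V_le M.p.tV, h.tt, iff_of_true (p.r.zc u1).symm (M.p.r.zc M.UP).symm⟩).symm
  have sz' : q⁻¹ * s * z * (q⁻¹ * s)⁻¹ = t := by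
    rw [← conj_eq_iff.2 (Commute.inv_left qt).eq, ← sz]; group
  have st' : q⁻¹ * s * t * (q⁻¹ * s)⁻¹ = z := by
    rw [← conj_eq_iff.2 (p.l.zc (inv_mem hq)), ← st]; group
  have hs' := mul_mem (inv_mem (mem_sup_left hq)) hs
  obtain ⟨v1, v2⟩ := key _ hs' sz' st'
  refine ⟨_, h, M, v1, by rw [← conj_mul_conj, ← h.hom _ M.FQ _ M.FQ, M.FF, h.hom.one]; group, v2, fun x hx => ?_,
    nN (p.X_norm_V (mem_sup_right v1)), fun n hn => ?_⟩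
  · rw [show q⁻¹ * s * Θ F * (q⁻¹ * s)⁻¹ = q⁻¹ * u * q by rw [← hu]; group,
      show Θ x * (q⁻¹ * u * q) = q⁻¹ * (q * Θ x * q⁻¹ * u) * q by group,
      show q⁻¹ * u * q * Θ x = q⁻¹ * (u * (q * Θ x * q⁻¹)) * q by group, mul_left_inj, mul_right_inj]
    by_cases w : Θ x ∈ W
    · rw [conj_eq_of_mem_centralizer c w]
      obtain ⟨y, hy, e, k⟩ := w
      exact h.inj _ hy.1 _ hx.1 e ▸ k
    · rw [k _ (mE x hx) w, comm_mul p.r.toEX u1 p.zP (mE x hx).2]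
      have := fun e => w ⟨x, hx, rfl, e⟩
      have := nz p.r.z_ne u2
      tauto
  · generalize q⁻¹ * s = s at *
    obtain ⟨n, hk, rfl⟩ := (cj_eq_self (nN (p.X_norm_V hs'))).ge hn
    obtain ⟨m, d⟩ := h.down n hk.2
    obtain ⟨b0, hb, e⟩ := M.fb m ((h.corN M d).1 hk.1)
    obtain ⟨b, d'⟩ := h.up b0 hb.2
    have d2 := h.cmul (h.cinv d') d
    refine ⟨s * b * s⁻¹, ⟨p.symm.cjl s st' ▸ conj_mem_cj s ((h.pp d').2 hb.1), by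
      rw [← sz', ← cj_centralizer_singleton]; exact conj_mem_cj s (h.HC d'.l)⟩, ?_⟩
    rw [← sz', ← cj_Fx, mem_cj]
    have : b⁻¹ * n ∈ Fx (Θ F) z := mem_Fx.2 ⟨h.HC d2.l, by
      have b := h.cm M.FQ d2.r
      rwa [d2.e _ M.FQ, ← h.hom.inv M.FQ, ← h.hom _ b _ (inv_mem M.FQ), ← h.tz,
        h.mem_zp (mul_mem b (inv_mem M.FQ)) M.l.mem]⟩
    simpa [mul_assoc] using this

end Sv

namespace Ps
variable (h : Ps Q H P z t U Q0 a t0 F r Θ ψ) (M : MB Q0 a t0 F r s T ρ)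
include h M

theorem braid6 {f : E → G} (hf : HomOn (𝐂(V4 a t0) ⊔ closure {r * F * r⁻¹, F}) f) (fN : ∀ n ∈ 𝐂(V4 a t0), f n = ψ n)
    (fF : f F = ψ F) (ix : I6 H 𝐂₁(z)) : (ψ s * f r) ^ 3 = 1 := by
  have p := M.p
  have m1 : F ∈ 𝐂(V4 a t0) ⊔ closure {r * F * r⁻¹, F} := mem_sup_right (subset_closure (.inr rfl))
  have m2 : r ∈ 𝐂(V4 a t0) ⊔ closure {r * F * r⁻¹, F} := by
    have := mul_mem (mul_mem m1 (mem_sup_right (subset_closure (.inl rfl)))) m1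
    rwa [M.br] at this
  have AA : ψ s * ψ s = 1 := by rw [← h.hm _ M.sa _ M.sa, M.ss, h.hm.one]
  have BB : f r * f r = 1 := by rw [← hf _ m2 _ m2, M.rr, hf.one]
  have cA : ∀ {n}, n ∈ 𝐂₁(a) → ψ s * ψ n * ψ s = ψ (s * n * s) := fun hn => by
    rw [h.hm _ (mul_mem M.sa hn) _ M.sa, h.hm _ M.sa _ hn]
  have cB : ∀ {n}, n ∈ 𝐂(V4 a t0) → f r * ψ n * f r = ψ (r * n * r) := fun hn => by
    rw [← fN _ (M.rN hn), hf _ (mul_mem m2 (mem_sup_left hn)) _ m2, hf _ m2 _ (mem_sup_left hn), fN _ hn]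
  have ks : ∀ x, s * (s * x) = x := fun x => by rw [← mul_assoc, M.ss, one_mul]
  have kr : ∀ x, r * (r * x) = x := fun x => by rw [← mul_assoc, M.rr, one_mul]
  have br : ∀ x, r * (s * (r * x)) = s * (r * (s * x)) := fun x => by simpa only [mul_assoc] using congrArg (· * x) M.rsr
  have sa := M.sas
  have ra := M.rar
  have rw0 := M.rwr
  have c1 : ∀ {g x n : E}, g * g = 1 → n ∈ 𝐂₁(x) → g * n * g ∈ 𝐂₁(g * x * g) := fun {g x n} e k => mem_c1.2 (by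
    rw [show g * n * g * (g * x * g) = g * (n * (g * g) * x) * g by group, e, mul_one, mem_c1.1 k,
      show g * x * g * (g * n * g) = g * (x * (g * g) * n) * g by group, e, mul_one])
  have nr : ∀ n ∈ 𝐂(V4 a t0) ⊓ 𝐂₁(s * t0 * s), r * n * r ∈ 𝐂(V4 a t0) ⊓ 𝐂₁(s * t0 * s) := fun n k =>
    ⟨M.rN k.1, rw0 ▸ c1 M.rr k.2⟩
  have ns : ∀ n ∈ 𝐂(V4 a t0) ⊓ 𝐂₁(s * t0 * s), s * n * s ∈ 𝐂(V4 a t0) ⊓ 𝐂₁(s * t0 * s) := fun n k =>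
    ⟨cent_V4 a t0 ▸ ⟨sa ▸ c1 M.ss (N_le p k.1), by simpa [mul_assoc, ks, M.ss] using c1 M.ss k.2⟩, c1 M.ss (N_le' p k.1)⟩
  have k3 : ∀ n ∈ 𝐂(V4 a t0) ⊓ 𝐂₁(s * t0 * s), (ψ s * f r) ^ 3 * ψ n * ((ψ s * f r) ^ 3)⁻¹ = ψ n := fun n k => by
    have k1 := ns _ (nr _ k)
    have k2 := ns _ (nr _ k1)
    rw [show (ψ s * f r) ^ 3 * ψ n * ((ψ s * f r) ^ 3)⁻¹ = ψ s * (f r * (ψ s * (f r * (ψ s * (f r * ψ n * f r) * ψ s) *
      f r) * ψ s) * f r) * ψ s by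
        simp [pow_succ, mul_assoc, inv_eq_of_mul_eq_one_left AA, inv_eq_of_mul_eq_one_left BB],
      cB k.1, cA (N_le p (nr _ k).1), cB k1.1, cA (N_le p (nr _ k1).1), cB k2.1, cA (N_le p (nr _ k2).1)]
    congr 1
    simp only [mul_assoc, br, ks, kr, M.ss, mul_one]
  have aN : a ∈ 𝐂(V4 a t0) ⊓ 𝐂₁(s * t0 * s) := ⟨p.A_le ⟨M.l.mem, mem_c1.2 p.tz.symm⟩, sa ▸ c1 M.ss (mem_c1.2 p.tz.symm)⟩
  have tN : t0 ∈ 𝐂(V4 a t0) ⊓ 𝐂₁(s * t0 * s) := ra ▸ nr a aN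
  have dz : (ψ s * f r) ^ 3 ∈ 𝐂₁(z) := mem_c1.2 (conj_eq_iff.1 (h.pa ▸ k3 a aN))
  have sF : s * F * s ∈ 𝐂(V4 a t0) := cent_V4 a t0 ▸ ⟨mul_mem (mul_mem M.sa h.Fa) M.sa, M.sF⟩
  have b0 := N_le p (M.rN sF)
  have b1 := mul_mem (mul_mem M.sa b0) M.sa
  have e := braid_aux AA BB (F := ψ F) (by
    rw [← fF, ← hf _ m2 _ m1, ← hf _ m1 _ (mul_mem m2 m1), ← hf _ m2 _ (mul_mem m1 (mul_mem m2 m1)),
      ← hf _ m1 _ (mul_mem m2 (mul_mem m1 (mul_mem m2 m1)))]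
    nth_rw 3 [← M.br]
    rw [M.ri]
    simp only [mul_assoc])
  rw [cA h.Fa, cB sF, cA b0] at e
  have dH : (ψ s * f r) ^ 3 ∈ H := (mul_mem_cancel_left (h.co s M.sa).l).1 (e ▸ mul_mem (mul_mem (h.co _ b0).l
    (norm_mem (ix.norm dz) (h.co _ b1).l)) (h.co _ b0).l)
  obtain ⟨d, hd, ed⟩ := h.surj' dH
  have dc : d ∈ 𝐂(𝐂(V4 a t0) ⊓ 𝐂₁(s * t0 * s)) := fun n k => h.inj' (mul_mem (N_le p k.1) hd) (mul_mem hd (N_le p k.1)) (by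
    rw [h.hm _ (N_le p k.1) _ hd, h.hm _ hd _ (N_le p k.1), ed, conj_eq_iff.1 (k3 n k)])
  have dN : d ∈ 𝐂(V4 a t0) := (mem_N p).2 ⟨mem_c1.1 hd, (dc _ tN).symm⟩
  have inv : ∀ {x y : G}, x * x = 1 → y * y = 1 → x * (x * y) ^ 3 * x = ((x * y) ^ 3)⁻¹ ∧
      y * (x * y) ^ 3 * y = ((x * y) ^ 3)⁻¹ := fun {x y} a b => by
    simp [pow_succ, mul_assoc, inv_eq_of_mul_eq_one_left a, inv_eq_of_mul_eq_one_left b, b,
      show ∀ w, x * (x * w) = w from fun w => by rw [← mul_assoc, a, one_mul]]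
  rw [← ed, M.g d dc (h.inj' (N_le p (M.rN dN)) (inv_mem hd) ?_) (h.inj' (mul_mem (mul_mem M.sa hd) M.sa) (inv_mem hd) ?_)
    (h.inj' (mul_mem M.sa hd) (mul_mem (mul_mem b0 (mul_mem (mul_mem (inv_mem hd) b1) hd)) b0) ?_), h.hm.one]
  · rw [← cB dN, h.hm.inv hd, ed, (inv AA BB).2]
  · rw [← cA hd, h.hm.inv hd, ed, (inv AA BB).1]
  · rw [h.hm _ (mul_mem b0 (mul_mem (mul_mem (inv_mem hd) b1) hd)) _ b0, h.hm _ b0 _ (mul_mem (mul_mem (inv_mem hd) b1) hd),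
      h.hm.conj' hd b1, h.hm _ M.sa _ hd, ed, e]

theorem exists_phi6 (ix : I6 H 𝐂₁(z)) : ∃ Φ : E →* G, (∀ m ∈ 𝐂₁(a), Φ m = ψ m) ∧ Φ (r * F * r⁻¹) = U := by
  classical
  obtain ⟨f, hf, fN, fU, fF⟩ := h.exists_f2
  have b3 := h.braid6 M hf fN fF ix
  have p := M.p
  have m1 : F ∈ 𝐂(V4 a t0) ⊔ closure {r * F * r⁻¹, F} := mem_sup_right (subset_closure (.inr rfl))
  have m3 : r * F * r⁻¹ ∈ 𝐂(V4 a t0) ⊔ closure {r * F * r⁻¹, F} := mem_sup_right (subset_closure (.inl rfl))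
  have m2 : r ∈ 𝐂(V4 a t0) ⊔ closure {r * F * r⁻¹, F} := by
    have := mul_mem (mul_mem m1 m3) m1
    rwa [M.br] at this
  have BC : T.B ≤ 𝐂₁(a) := M.BN.trans (sup_le (N_le p) M.l.le_c1)
  have fB : ∀ b ∈ T.B, b ∈ 𝐂(V4 a t0) ⊔ closure {r * F * r⁻¹, F} ∧ f b = ψ b := fun b hb => by
    obtain ⟨n, hn, q, hq, rfl⟩ := (mem_sup_of_le_normalizer' p.C_norm_Q).1 (M.BN hb)
    rcases M.l.mem_or M.tQ M.Ft hq with e | e
    · have k := mul_mem hn (p.A_le ⟨hq, mem_c1.2 e⟩)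
      exact ⟨mem_sup_left k, fN _ k⟩
    · have k := p.A_le ⟨Q0.mul_mem (inv_mem M.FQ) hq, mem_c1.2 e⟩
      have k1 := mul_mem hn (M.FN k)
      rw [show n * q = n * (F * (F⁻¹ * q) * F⁻¹) * F by group]
      exact ⟨mul_mem (mem_sup_left k1) m1, by rw [hf _ (mem_sup_left k1) _ m1, h.hm _ (N_le p k1) _ h.Fa, fN _ k1, fF]⟩
  have pl : ∀ {X : Subgroup E} {i}, T.B ≤ X → ρ i ∈ X → (i : E) ∈ X := fun {X i} b k =>
    mem_of_wt_eq b ((wt_s i).trans (M.hw i).symm) k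
  have pl' : ∀ {X : Subgroup E} {i : T.S}, T.B ≤ X → (i : E) ∈ X → ρ i ∈ X := fun {X i} b k =>
    mem_of_wt_eq b ((M.hw i).trans (wt_s i).symm) k
  have rC : ∀ {i}, ρ i ≠ r → ρ i ∈ 𝐂₁(a) := fun {i} n => ((M.cs i).resolve_left n).elim (· ▸ M.sa) (N_le p ·)
  have o : ∀ i j, orderOf ((cox T).s i * (cox T).s j) = orderOf ((cox T).s j * (cox T).s i) := fun i j =>
    (SemiconjBy.orderOf_eq ((cox T).s j) (by simp [SemiconjBy, mul_assoc]))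
  have sw : ∀ {x y : G} {n : ℕ}, (x * y) ^ n = 1 → (y * x) ^ n = 1 := fun {x y n} e => by
    rw [show y * x = y * (x * y) * y⁻¹ by group, conj_pow, e]; group
  have key : ∀ i j, ρ i ≠ r → ρ j = r → (ψ (ρ i) * f (ρ j)) ^ orderOf ((cox T).s i * (cox T).s j) = 1 := fun i j n e => by
    rcases (M.cs i).resolve_left n with k | k
    · obtain ⟨c, hc⟩ := M.o3 i j k e
      rw [hc, pow_mul, k, e, b3, one_pow]
    · rw [← fN _ k, ← hf _ (mem_sup_left k) _ (e ▸ m2), ← hf.pow (mul_mem (mem_sup_left k) (e ▸ m2)), M.ho, hf.one]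
  obtain ⟨Φ, e1, e2⟩ := bn_ext T ρ M.hN M.hw ψ (fun i => if ρ i = r then f else ψ) (h.hm.mono BC) (fun i => by
    split_ifs with e
    · exact hf.mono (parW_le (fun b k => (fB b k).1) (by rintro _ rfl; exact pl (fun b k => (fB b k).1) (e ▸ m2)))
    · exact h.hm.mono (parW_le BC (by rintro _ rfl; exact pl BC (rC e))))
    (fun i b hb => by split_ifs; exacts [(fB b hb).2, rfl]) M.h1 fun i j => ⟨M.ho i j, by
      split_ifs with e e' e'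
      · rw [← hf _ (e ▸ m2) _ (e' ▸ m2), ← hf.pow (mul_mem (e ▸ m2) (e' ▸ m2)), M.ho, hf.one]
      · exact o i j ▸ sw (key j i e' e)
      · exact key i j e e'
      · rw [← h.hm _ (rC e) _ (rC e'), ← h.hm.pow (mul_mem (rC e) (rC e')), M.ho, h.hm.one]⟩
  have e3 : ∀ i, Φ (ρ i) = (if ρ i = r then f else ψ) (ρ i) := fun i => e2 i _ (mem_parW_singleton.2 (.inr (M.hw i)))
  have nr : r ∉ 𝐂₁(a) := fun k => M.ne (M.ra.symm.trans (conj_eq_iff.2 (mem_c1.1 k)))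
  have e4 : ∀ m ∈ 𝐂₁(a), Φ m = ψ m := fun m hm => by
    let W : Subgroup E :=
      { carrier := {x | x ∈ 𝐂₁(a) ∧ Φ x = ψ x}
        one_mem' := ⟨one_mem _, Φ.map_one.trans h.hm.one.symm⟩
        mul_mem' := fun a b => ⟨mul_mem a.1 b.1, by rw [map_mul, a.2, b.2, h.hm _ a.1 _ b.1]⟩
        inv_mem' := fun a => ⟨inv_mem a.1, by rw [map_inv, a.2, h.hm.inv a.1]⟩ }
    have b : T.B ≤ W := fun b k => ⟨BC k, e1 b k⟩
    refine ((parW_le b fun j k => pl b ?_ : _ ≤ W) ((eq_parW_of_le BC).le hm)).2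
    have k1 := pl' BC k
    exact ⟨k1, by rw [e3, if_neg fun e : ρ j = r => nr (e ▸ k1)]⟩
  refine ⟨Φ, e4, ?_⟩
  by_cases e : ∃ i, ρ i = r
  · obtain ⟨i, e⟩ := e
    have := e3 i
    rw [if_pos e, e] at this
    rw [map_mul, map_mul, map_inv, this, e4 _ h.Fa, ← fF, ← hf.conj m2 m1, fU]
  · exact absurd ((parW_le BC fun j _ => pl BC (rC fun k => e ⟨j, k⟩)) (parW_univ.ge (mem_top r))) nr

end Ps

end CF.E62
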