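import Cfsg.Agent.E62.M3

/-! The third list of properties of the model. -/

set_option autoImplicit false
set_option linter.unusedSectionVars false
set_option maxRecDepth 100000
set_option exponentiation.threshold 400

namespace CF.E62

open Cfsg Subgroup CF.Loc CF.Even CF.LX CF.J4 CF.Comp CF.Dce CF.BN
open scoped commutatorElement

theorem ck9 : KR.foldr (fun p r => mm 20 (mo 20 ^^^ nth (mo 20) T20 (2 * p.1 + 1)) p.2 ^^^ r) KN = mo 20 ∧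
    (∀ p ∈ KR, p.1 ∈ [0, 2, 4, 5, 10, 11] ∧ ∀ c < 2, vm 20 c p.2 = 0) ∧ (∀ i < 20, fld 20 KN i < 2 ^ 2) ∧
    (∀ c < 4, c ^^^ vm 20 c (nth (mo 20) T20 (2 * 2 + 1)) = 0 → c < 2) ∧
    (∀ i ∈ [0, 2, 4, 5, 10, 11], mC.testBit i = true ∧ ∀ k ∈ [1, 2], ∀ j < k,
      fld 20 (nth (mo 20) T20 (2 * i + 1)) j < 2 ^ k) ∧
    ∀ k < 4, ∀ j < 24, nth 0 (nth [] SIG k) j < 24 ∧
      eqv [16 + k, nth 0 XL j, 16 + k] [nth 0 XL (nth 0 (nth [] SIG k) j)] = true := by decide +kernel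

theorem ck10 : (∀ j < 24, let X := 2 * nth 0 XL j + 1; let y := nth ([], 0) WIT j
      eqw [43, X] [X, 43] = false ∨ eqw [X] [43] = true ∨ eqw (lapp y.1 [43]) (43 :: X :: y.1) = true ∨ y.2 < 256 ∧
        eqw (lapp y.1 [43]) (lapp (chW (nth 0 L8) 8 y.2) y.1) = true ∧ eqw (lapp y.1 [43, X]) (49 :: y.1) = true) ∧
    (∀ i < 8, eqv [nth 0 L8 i, nth 0 L8 i] [] = true ∧ ∀ j < 8, eqv [nth 0 L8 i, nth 0 L8 j] [nth 0 L8 j, nth 0 L8 i] = true) ∧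
    (∀ c < 256, eqw (chW (nth 0 L8) 8 c) [] = true → c = 0) ∧ (∀ k < 8, ∀ j < 8,
      eqw [2 * nth 0 K8 k + 2, 2 * nth 0 L8 j + 1, 2 * nth 0 K8 k + 1] (chW (nth 0 L8) 8 (fld 8 (nth 0 T8 k) j)) = true) ∧
    ∀ i ∈ [0, 2, 4, 10, 20, 16, 17, 19], ∃ k < 8, nth 0 K8 k = i := by decide +kernel

set_option synthInstance.maxSize 1000 in
theorem ck11 : (∀ c < 256, c = 0 ∨ c = 1 ∨ c = 8 ∨ fld 4 DEP (fld 8 PAR c) < fld 4 DEP c ∧
      vm 8 (fld 8 PAR c) (nth 0 T8 (fld 3 LET c)) = c ∧ tb SM (fld 8 PAR c) = tb SM c) ∧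
    (∀ i < 8, let t := nth (0, 0, 0) F4 i; t.1 ^^^ t.2.1 ^^^ t.2.2 = 2 ^ i ∧ ∀ c ∈ [t.1, t.2.1, t.2.2],
      c < 256 ∧ (c = 0 ∨ tb SM c = true ∧ tb SM (c ^^^ 8) = true)) ∧
    ∀ e < 256, e ≠ 0 → e ≠ 8 → tb SM e = false → tb SM (e ^^^ 8) = false → tb SM (fld 8 AR e) = true ∧
      allFrom (fun d => tb SM d || tb SM (d ^^^ 8) || tb SM (d ^^^ e) || tb SM (d ^^^ e ^^^ 8) ||
        !tb SM (fld 8 AR e ^^^ d) || !tb SM (fld 8 AR e ^^^ d ^^^ 8)) 0 256 = true := by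
  refine ⟨?_, ?_, ?_⟩ <;> decide +kernel

variable {E : Type*} [Group E] [Finite E] {f : ℕ → E} {T : BNPair E} {U Q A S : Subgroup E} {ν μ κ : E → ℕ}

namespace Mo
variable (M : Mo f T U Q A ν μ)
include M

theorem kc {q : E} (hq : q ∈ Q) {i : ℕ} (hi : i ∈ [0, 2, 4, 5, 10, 11]) {K : Subgroup E} (h : ∀ x ∈ U, ⁅x, q⁆ ∈ K) :
    ∃ y ∈ K, ν y = ν q ^^^ vm 20 (ν q) (nth (mo 20) T20 (2 * i + 1)) :=
  ⟨⁅q, (f i)⁻¹⁆, commutatorElement_inv (f i)⁻¹ q ▸ inv_mem (h _ (inv_mem (M.uU i hi))),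
    (cm_nu M.cq (M.ac i (ck9.2.2.2.2.1 i hi).1) hq).2⟩

theorem k0 {q : E} (hq : q ∈ Q) (h : ∀ x ∈ U, ⁅x, q⁆ ∈ V4 (f 21) (f 22)) : ν q < 2 ^ 2 := by
  have l := M.cq.lt q hq
  have : ∀ L : List (ℕ × ℕ), (∀ p ∈ L, p ∈ KR) → vm 20 (ν q) (L.foldr (fun p r =>
      mm 20 (mo 20 ^^^ nth (mo 20) T20 (2 * p.1 + 1)) p.2 ^^^ r) KN) = vm 20 (ν q) KN := fun L hL => by
    induction L with
    | nil => rfl
    | cons p L ih =>
      obtain ⟨a, b⟩ := ck9.2.1 p (hL p (.head _))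
      obtain ⟨y, hy, e⟩ := M.kc hq a h
      rw [List.foldr_cons, vm_xor', ih fun r hr => hL r (.tail _ hr), vm_mm (by decide), vm_xor', vm_mo (by decide) l,
        ← e, b _ (M.V.le hy).2, Nat.zero_xor]
  rw [← vm_mo (by decide) l, ← ck9.1, this KR fun _ h => h]
  exact vm_rows le_rfl ck9.2.2.1 l

theorem k2' {x : E} (hx : x ∈ U) : ⁅x, f 23⁆ ∈ V4 (f 21) (f 22) := by
  have n : ∀ k ∈ [1, 2], x ∈ 𝐍(low M.cq k) := fun k hk => M.U_le' (fun i a b => M.gl (fun j hj =>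
    norm_low M.cq (M.ac j (ck9.2.2.2.2.1 j hj).1) (by revert k; decide) ((ck9.2.2.2.2.1 j hj).2 k hk)) i
      (ck3.2.2.2.2.2 i a b).1) hx
  rw [M.V, ← inv_mem_iff, commutatorElement_inv]
  refine Ix.comm (A := low M.cq 2) (fun a ha b hb c d => (mem_low _).2 ⟨mul_mem ha.1 hb.1, ?_⟩) ⟨M.q1.1, by rw [M.q1.2]; decide⟩
    (n 1 (by simp)) (n 2 (by simp))
  rw [M.cq.mul _ ha.1 _ hb.1]
  exact (by decide : ∀ a < 4, ∀ b < 4, ¬ a < 2 → ¬ b < 2 → a ^^^ b < 2) _ ha.2 _ hb.2 (fun k => c ⟨ha.1, k⟩)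
    fun k => d ⟨hb.1, k⟩

theorem f6 {x : E} (h : x * x = 1) : ∃ g, g * x * g⁻¹ ∈ Q := by
  obtain ⟨g, k⟩ := M.inv x h
  have z : f 21 ∈ cj[f 16] Q := M.rt ▸ conj_mem_cj _ M.q0.1
  have : g * x * g⁻¹ ∈ cj[f 16] Q := by
    rcases k with k | k | k | k <;> rw [k]
    exacts [one_mem _, z, mul_mem z (M.aP (i := 0) (by decide)).1,
      mul_mem z (mul_mem (M.aP (i := 0) (by decide)).1 (M.aP (i := 3) (by decide)).1)]
  exact ⟨(f 16)⁻¹ * g, by simpa [mul_assoc] using mem_cj.1 this⟩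

theorem bru (g : E) : ∃ b ∈ 𝐂₁(f 21), ∃ j < 24, g * f 21 * g⁻¹ = b * f (nth 0 XL j) * b⁻¹ := by
  have : ∀ w, ∃ n ∈ T.N, wt T n = w ∧ ∃ j < 24, n * f 21 * n⁻¹ = f (nth 0 XL j) := fun w => by
    induction w using (cox T).induction_left with
    | one => exact ⟨1, one_mem _, wt_one, 0, by decide, by rw [one_mul, inv_one, mul_one]; rfl⟩
    | step i w ih =>
      obtain ⟨n, hn, e, j, hj, k⟩ := ih
      obtain ⟨l, hl, a, b⟩ := M.cs i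
      obtain ⟨c, d⟩ := ck9.2.2.2.2.2 l hl j hj
      exact ⟨_, mul_mem a hn, by rw [wt_mul_of_mem_N a hn, b, e], _, c, by
        rw [← M.cj3 d (by omega) (by omega), ← k]; group⟩
  obtain ⟨n, -, e, j, hj, k⟩ := this (wt T g)
  obtain ⟨b, hb, c, hc, rfl⟩ := wt_eq_wt_iff.1 e.symm
  exact ⟨b, M.BC hb, j, hj, by rw [← k, ← conj_eq_iff.2 (mem_c1.1 (M.BC hc))]; nth_rw 1 [conj_eq_iff.2 (mem_c1.1 (M.BC hc))]; group⟩

variable (C : Co 8 S ⊥ κ) (u : ∀ c < 2 ^ 8, chi (fun i => f (nth 0 L8 i)) 8 c ∈ S ∧ κ (chi (fun i => f (nth 0 L8 i)) 8 c) = c)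
include C u

theorem f1 {e : E} (h : IsConj (f 21) e) (c : f 21 * e = e * f 21) (n : e ≠ f 21) :
    IsConj (f 21) (f 21 * e) ∨ ∃ y, y * f 21 * y⁻¹ ∈ S ∧ y * (f 21 * e) * y⁻¹ = f 24 := by
  obtain ⟨g, rfl⟩ := isConj_iff.1 h
  obtain ⟨b, hb, j, hj, k⟩ := M.bru g
  have z := conj_eq_iff.2 (mem_c1.1 hb)
  rw [k] at c n ⊢
  have := ck10.1 j hj
  simp only [← Bool.not_eq_true, ← M.eq, ev_lapp, ev_chW, ev_cons, ev_nil, evL_odd, evL_odd f 21, evL_odd f 24, mul_one] at this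
  generalize f (nth 0 XL j) = X at *
  generalize ev f (nth ([], 0) WIT j).1 = y at *
  rcases this with t | rfl | t | ⟨t, v, w⟩
  · refine (t ?_).elim
    rw [← z, ← conj_mul_conj, ← conj_mul_conj] at c
    simpa using c
  · exact (n z).elim
  · exact .inl (isConj_iff.2 ⟨b * y, by rw [mul_assoc b, t]; nth_rw 2 [← z]; group⟩)
  · refine .inr ⟨y * b⁻¹, ?_, ?_⟩ <;> rw [← z]
    · rw [show y * b⁻¹ * (b * f 21 * b⁻¹) * (y * b⁻¹)⁻¹ = y * f 21 * y⁻¹ by group, v, mul_inv_cancel_right]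
      exact (u _ t).1
    · rw [show y * b⁻¹ * (b * f 21 * b⁻¹ * (b * X * b⁻¹)) * (y * b⁻¹)⁻¹ = y * (f 21 * X) * y⁻¹ by group, w,
        mul_inv_cancel_right]

theorem ac8 {k : ℕ} (hk : k < 8) : Ac 8 S κ (f (nth 0 K8 k)) (nth 0 T8 k) :=
  ac_of' C u (by simp) fun j hj => ⟨1, one_mem _, by
    simpa [ev_chW, evL_odd, evL_even, mul_assoc] using (M.eq _ _).2 (ck10.2.2.2.1 k hk j hj)⟩

theorem n8 {i : ℕ} (hi : i ∈ [0, 2, 4, 10, 20, 16, 17, 19]) : f i ∈ 𝐍(S) := by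
  obtain ⟨k, hk, rfl⟩ := ck10.2.2.2.2 i hi
  exact (M.ac8 C u hk).1

theorem f3 : 𝐂₁(f 24) ≤ 𝐍(S) := by
  obtain ⟨X, a, b, c⟩ := M.x2
  refine c.trans (M.par_le a (M.B_le fun i hi => M.n8 C u (by revert i; decide)) fun k hk h => M.n8 C u ?_)
  interval_cases k
  exacts [by decide, by decide, absurd h b, by decide]

theorem u8 : f 24 ∈ S ∧ κ (f 24) = 8 := gen_nu C u (i := 3) (by decide)

theorem cls {x : E} (hx : x ∈ S) : IsConj (f 21) x ↔ tb SM (κ x) = true := by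
  have inj : ∀ {x y}, x ∈ S → y ∈ S → κ x = κ y → x = y := fun a b e => inv_mul_eq_one.1 ((C.eq_iff a b).1 e)
  induction h : fld 4 DEP (κ x) using Nat.strong_induction_on generalizing x with
  | _ n ih =>
    rcases ck11.1 _ (C.lt x hx) with e | e | e | ⟨a, b, c⟩
    · rw [e, inj hx (one_mem _) (e.trans C.one.symm), isConj_one_left]
      exact iff_of_false (fun k => by simpa [k] using M.oz) (by decide +kernel)
    · have z : f 21 ∈ S ∧ κ (f 21) = 1 := gen_nu C u (i := 0) (by decide)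
      rw [e, inj hx z.1 (e.trans z.2.symm)]
      exact iff_of_true (IsConj.refl _) (by decide +kernel)
    · rw [e, inj hx (M.u8 C u).1 (e.trans (M.u8 C u).2.symm)]
      exact iff_of_false M.f2 (by decide +kernel)
    · obtain ⟨y, hy, e⟩ := C.surj _ (fld_lt 8 PAR (κ x))
      have k := M.ac8 C u (fld_lt 3 LET (κ x))
      refine Iff.trans ?_ ((ih _ (e ▸ h ▸ a) hy rfl).trans (by rw [e, c]))
      have : IsConj x y := isConj_iff.2 ⟨_, mul_inv_eq_iff_eq_mul.2 (inv_mul_eq_iff_eq_mul.1 ((mul_assoc _ _ _).symm.trans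
        (inj (norm_mem k.1 hy) hx (by rw [k.2 y hy, e, b])))).symm⟩
      exact ⟨fun k => k.trans this, fun k => k.trans this.symm⟩

theorem cls' {x y : E} (hx : x ∈ S) (hy : y ∈ S) : IsConj (f 21) (x * y) ↔ tb SM (κ x ^^^ κ y) = true := by
  rw [M.cls C u (mul_mem hx hy), C.mul _ hx _ hy]

theorem f4 : S ≤ closure {d | IsConj (f 21) d ∧ IsConj (f 21) (d * f 24)} := top_le C u bot_le fun i hi => by
  obtain ⟨a, b⟩ := ck11.2.1 i hi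
  have k : ∀ c ∈ _, ∃ x ∈ S, κ x = c ∧ x ∈ closure {d | IsConj (f 21) d ∧ IsConj (f 21) (d * f 24)} := fun c hc => by
    obtain ⟨l, rfl | ⟨m, n⟩⟩ := b c hc
    · exact ⟨1, one_mem _, C.one, one_mem _⟩
    · obtain ⟨x, hx, rfl⟩ := C.surj c l
      exact ⟨x, hx, rfl, subset_closure ⟨(M.cls C u hx).2 m, (M.cls' C u hx (M.u8 C u).1).2 ((M.u8 C u).2.symm ▸ n)⟩⟩
  obtain ⟨x, x1, x2, x3⟩ := k _ (.head _)
  obtain ⟨y, y1, y2, y3⟩ := k _ (.tail _ (.head _))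
  obtain ⟨w, w1, w2, w3⟩ := k _ (.tail _ (.tail _ (.head _)))
  exact mem_of_nu C bot_le (mul_mem (mul_mem x1 y1) w1) (gen_nu C u hi).1 (by
    rw [C.mul _ (mul_mem x1 y1) _ w1, C.mul _ x1 _ y1, x2, y2, w2, a, (gen_nu C u hi).2]) (mul_mem (mul_mem x3 y3) w3)

theorem ar {X : Subgroup E} (h : X ≤ S) (hu : f 24 ∈ X) (n : ∀ e ∈ X, ¬ IsConj (f 21) e)
    (k : ∀ y ∈ S, IsConj (f 21) y → ∃ e ∈ X, IsConj (f 21) (y * e) ∧ IsConj (f 21) (y * e * f 24)) : False := by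
  have v := M.u8 C u
  have n' : ∀ e ∈ X, tb SM (κ e) = false ∧ tb SM (κ e ^^^ 8) = false := fun e he => by
    simpa only [← Bool.not_eq_true, ← M.cls C u (h he), ← v.2, ← M.cls' C u (h he) v.1] using
      And.intro (n e he) (n _ (mul_mem he hu))
  have k' : ∀ y < 256, tb SM y = true → ∃ e ∈ X, tb SM (y ^^^ κ e) = true ∧ tb SM (y ^^^ κ e ^^^ 8) = true :=
    fun c hc l => by
      obtain ⟨y, hy, rfl⟩ := C.surj c hc
      obtain ⟨e, he, a, b⟩ := k y hy ((M.cls C u hy).2 l)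
      rw [M.cls' C u (mul_mem hy (h he)) v.1, C.mul _ hy _ (h he), v.2] at b
      exact ⟨e, he, (M.cls' C u hy (h he)).1 a, b⟩
  by_cases c : ∀ e ∈ X, κ e = 0 ∨ κ e = 8
  · obtain ⟨e, he, a, b⟩ := k' 1 (by decide) (by decide +kernel)
    rcases c e he with d | d <;> rw [d] at a b <;> revert a b <;> decide +kernel
  · push Not at c
    obtain ⟨e, he, a, b⟩ := c
    obtain ⟨c, d⟩ := ck11.2.2 _ (C.lt e (h he)) a b (n' e he).1 (n' e he).2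
    obtain ⟨x, hx, l, m⟩ := k' _ (fld_lt 8 AR _) c
    have := allFrom_zero.1 d _ (C.lt x (h hx))
    have r := n' _ (mul_mem hx he)
    rw [C.mul _ (h hx) _ (h he)] at r
    rw [(n' x hx).1, (n' x hx).2, r.1, r.2, l, m] at this
    cases this

omit C u

theorem mc (l : LQ Q (f 21)) : ∃ ρ S, MC Q (f 21) (f 22) (f 0) (f 16) (f 17) T ρ U S (f 24) := by
  obtain ⟨ρ, B⟩ := M.mb l
  obtain ⟨S, κ, C, u⟩ := exists_co (g := fun i => f (nth 0 L8 i)) (n := 8) (by decide)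
    (fun i hi => by simpa using M.pv.2 (ck10.2.1 i hi).1) (fun i hi j hj => M.com.2 ((ck10.2.1 i hi).2 j hj))
    fun c hc h => ck10.2.2.1 c hc ((M.eq _ _).1 ((ev_chW f _ 8 c).trans h))
  have v := M.u8 C u
  refine ⟨ρ, S, B, M.syl M.UC, fun q hq h => ?_, fun x hx => (mem_Fx.1 (M.MF (M.BM (M.UB hx)))).2, fun q hq h => ?_,
    fun x hx => M.sts ▸ M.k2' hx, fun c => ?_, fun _ => M.f6, fun _ => M.f1 C u, M.f2,
    fun e => by simpa [e, C.one] using v.2, v.1, fun x hx => sq_mem C hx, M.f3 C u, M.f4 C u, ?_,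
    fun X a b c => M.ar C u a b c⟩
  · obtain ⟨y, hy, e⟩ := M.kc hq (i := 2) (by decide) h
    exact M.V.ge ⟨hq, ck9.2.2.2.1 _ (M.k0 hq fun x hx => M.V.ge (le_low _ _ (h x hx)))
      (e ▸ (M.cq.ker y (M.cq.le hy)).2 hy)⟩
  · rw [M.V, M.sts]
    refine ((by decide : ∀ c < 4, c < 2 ∨ c ^^^ 2 < 2) _ (M.k0 hq h)).imp (fun c => ⟨hq, c⟩) fun c =>
      ⟨mul_mem hq M.q1.1, by rwa [M.cq.mul _ hq _ M.q1.1, M.q1.2]⟩
  · rw [M.V, M.sts] at c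
    simpa [M.q1.2] using c.2
  · obtain ⟨d, hd, e⟩ := C.surj 52 (by decide)
    exact ⟨d, hd, (M.cls C u hd).2 (by rw [e]; decide +kernel), (M.cls' C u hd v.1).2 (by rw [e, v.2]; decide +kernel)⟩

end Mo

end CF.E62
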