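import Cfsg.Agent.E62.M0
import Cfsg.Agent.Mon.E6
import Cfsg.Agent.BN.TwInvE6

/-! The model is the twisted group. -/

set_option autoImplicit false
set_option linter.unusedSectionVars false
set_option maxRecDepth 100000

namespace CF.E62

open Cfsg Subgroup CF.Loc CF.LX CF.J4 CF.Comp CF.Dce CF.BN CF.Dce.E6 CF.Chev CF.Chev.StRep Cfsg.Lie

theorem mm_eq (x y : ℕ) : mm 78 x y = mu x y := by
  unfold mm mr mu
  simp only [Comp.force_eq]
  exact congrFun (congrFun (congrArg₂ (mul2 78) (by decide +kernel : repl 78 78 = _)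
    (by decide +kernel : full 78 = _)) x) y

/-- bounded codes -/
noncomputable def ok78 (y : ℕ) : Bool := Nat.blt y (2 ^ (78 * 78))

theorem tbOK : tabOK (mm 78) (mo 78) ok78 TB 67 = true ∧ mo 78 = e78 ∧ growM SW 65535 = 2 ^ 67 - 1 ∧
    ∀ i < 16, nth (mo 78) TB (2 * i + 1) = nth 0 LT (2 * (10 + i) + 1) := by decide +kernel

theorem toM_inj {x y : ℕ} (h : toM 2 1 78 x = toM 2 1 78 y) (h1 : x < 2 ^ (78 * 78)) (h2 : y < 2 ^ (78 * 78)) :
    x = y := eq_of_fld (n := 1) (m := 78 * 78) one_pos (by rwa [one_mul]) (by rwa [one_mul]) fun k hk => by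
  have := congrFun (congrFun h ⟨k / 78, by omega⟩) ⟨k % 78, by omega⟩
  simp only [toM, Matrix.of_apply, Nat.div_add_mod] at this
  exact cast_inj (fld_lt 1 x k) (fld_lt 1 y k) this

theorem exists_letters {G : Type*} [Group G] {j : G →* GL (Fin 78) (ZMod 2)} (hj : Function.Injective j)
    (h : ∀ i < 16, γ (10 + i) ∈ j.range) :
    ∃ f : ℕ → G, (∀ u w, ev f u = ev f w ↔ eqw u w = true) ∧ ∀ i < 16, j (f i) = γ (10 + i) := by
  classical
  let r : G → ℕ → Prop := fun g x => toM 2 1 78 x = j g ∧ x < 2 ^ (78 * 78)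
  have m : ∀ x y, toM 2 1 78 (mm 78 x y) = toM 2 1 78 x * toM 2 1 78 y := fun x y =>
    mm_eq x y ▸ M78.toM_mul (M78.good_ok rfl) (M78.good_ok rfl)
  have o : toM 2 1 78 (mo 78) = 1 := tbOK.2.1 ▸ M78.toM_one
  have C : Cd (mm 78) (mo 78) ok78 r :=
    ⟨⟨by rw [o, map_one]; rfl, mo_lt (by decide)⟩, fun a b => ⟨by rw [m, a.1, b.1, map_mul]; rfl, mm_lt (by decide) _ _⟩,
      fun a l e => ⟨by rw [map_inv]; exact (Units.inv_eq_of_mul_eq_one_right (by rw [← a.1, ← m, e, o])).symm,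
        Nat.blt_eq.mp l⟩⟩
  let R : ℕ → Prop := fun i => i < 67 ∧ ∃ g, r g (nth (mo 78) TB (2 * i + 1))
  let f : ℕ → G := fun i => if h : R i then h.2.choose else 1
  have hf : ∀ i, R i → r (f i) (nth (mo 78) TB (2 * i + 1)) := fun i hi => by
    simp only [f, dif_pos hi]; exact hi.2.choose_spec
  have l := let_of_tab tbOK.1
  have b : ∀ i < 16, toM 2 1 78 (nth (mo 78) TB (2 * i + 1)) = γ (10 + i) := fun i hi => by
    rw [tbOK.2.2.2 i hi, (M78.isM_evL letT (x := 2 * (10 + i) + 1) (by omega)).2, evL_odd]; rfl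
  have hR := growM_ind (R := R) (P := SW) (m := 65535) (fun p hp k => ⟨(swOK p hp).1, ev f p.2,
    (show nth (mo 78) TB (2 * p.1 + 1) = ew p.2 from beq_iff.1 (swOK p hp).2) ▸ C.evM l fun x hx => ⟨(k x hx).1, hf _ (k x hx)⟩⟩) fun i hi => by
      have : i < 16 := by simpa using (Nat.testBit_two_pow_sub_one 16 i).symm.trans hi
      obtain ⟨g, e⟩ := h i this
      exact ⟨by omega, g, by rw [e, b i this], Nat.blt_eq.mp ((letOK_iff.1 l).2 i (by omega)).1⟩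
  have hr : ∀ i < 67, r (f i) (nth (mo 78) TB (2 * i + 1)) := fun i hi =>
    hf i (hR i (by rw [tbOK.2.2.1, Nat.testBit_two_pow_sub_one]; simpa))
  have T := C.tb tbOK.1 hr fun i hi => dif_neg fun k => absurd k.1 (by omega)
  refine ⟨f, fun u w => ?_, fun i hi => Units.ext ((hr i (by omega)).1.symm.trans (b i hi))⟩
  have a := C.ev T u
  have c := C.ev T w
  exact ⟨fun e => beq_iff.2 (toM_inj (a.1.trans (e ▸ c.1.symm)) a.2 c.2),
    fun e => hj (Units.ext (a.1.symm.trans ((congrArg _ (beq_iff.1 e)).trans c.1)))⟩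

section
variable {K : Type*} [Field K] [CharP K 2] {G : Type*} [Group G] (ρ : StRep cE6 K G)

theorem nw_conj (l : List (Fin 6)) (r : Fin 72) (t : K) : ρ.nw l * ρ.x r t * (ρ.nw l)⁻¹ = ρ.x (cE6.wp l r) t := by
  induction l with
  | nil => simp
  | cons i l ih =>
    rw [nw_cons, mul_inv_rev, ← mul_assoc, mul_assoc (ρ.ns i), mul_assoc (ρ.ns i), ih, ρ.n_conj, RootSys.wp_cons, cE6.refl_simple]
    rcases cE6.eta_eq (cE6.simple i) (cE6.wp l r) with e | e <;> simp [e, CharTwo.neg_eq]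

theorem nn {r s : Fin 72} (h : SO cE6 r s) (t u : Kˣ) :
    ρ.x r t * ρ.x s u * (ρ.x (cE6.neg r) (t⁻¹ : Kˣ) * ρ.x (cE6.neg s) (u⁻¹ : Kˣ) * (ρ.x r t * ρ.x s u)) =
      ρ.n r t * ρ.n s u := by
  have a := fun a b => (h.commute ρ.toPreSt a b).eq
  have b := fun a b => (h.neg_left.commute ρ.toPreSt a b).eq
  have c := fun a b => (h.symm.neg_left.commute ρ.toPreSt a b).eq
  simp only [PreSt.n, CharTwo.neg_eq, mul_assoc]
  rw [← mul_assoc (ρ.x (cE6.neg s) _), c, ← mul_assoc (ρ.x s _), ← b, mul_assoc, mul_assoc, ← mul_assoc (ρ.x s _),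
    ← a, mul_assoc]

end

theorem wpE {l : List (Fin 6)} {r : Fin 72} (s : Fin 72)
    (h : l.foldr (fun (i : Fin 6) (s : ℕ) => chevE6.reflectRoot i s) r = s) : cE6.wp l r = s := wp_apply_eq linkE6 h

/-- the words of the generators of the Weyl group -/
noncomputable def rl (k : ℕ) : List (Fin 6) := nth [] [[1], [3], [0, 5], [2, 4]] k

/-- conjugation by a word in these generators -/
noncomputable def cw (l : List ℕ) (s : ℕ) : List ℕ :=
  lapp (lapp (l.map fun k => 2 * (16 + k) + 1) [2 * s + 1]) (winv (l.map fun k => 2 * (16 + k) + 1))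

theorem cwOK : eqw [2 * 21 + 1] (cw [0, 1, 3, 2, 1, 3, 1] 0) = true ∧ eqw [2 * 24 + 1] (cw [2, 3, 2, 1, 3, 0, 1, 3] 4) = true ∧
    eqw [2 * 42 + 1] (cw [2, 3] 2) = true ∧ eqw [2 * 45 + 1] (cw [3] 2) = true := by decide +kernel

theorem invE6 {K : Type*} [Field K] [Fintype K] [CharP K 2] {q : ℕ} {φ : K →+* K} (hK : Fintype.card K = q ^ 2)
    (hφ : ∀ t, φ t = t ^ q) (h2 : ∀ t, φ (φ t) = t) {g} (hg : g ∈ gE6 (repE6 K) q) (h7 : g ^ 2 = 1) :
    ∃ m ∈ gE6 (repE6 K) q, ∃ L ∈ [[], [71], [71, 60], [71, 60, 44]], m * g * m⁻¹ = (repE6 K).prodL L 1 := by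
  have M := ltE6 (p := 2) hφ h2
  have h := isGr_twE6 φ
  have F := M.form
  have D := dataE6 h.p_eq
  set ρ := repE6 K
  obtain ⟨f, hf⟩ := (twE6 φ).faith
  have hπ : ∀ r ∈ [71, 60, 44, 39, 20, 8, 25, 47], (twE6 φ).π r = r := fun r hr =>
    π_grow D tabOfE6 8 (L := [39]) (by
      simpa using (h.spec (r := 39) (s := 39) (by decide +kernel)).1) (by revert r; decide +kernel)
  have hc : ∀ r, (twE6 φ).c r = 1 := c_ofEmb _
  have h1 := fun r hr => (F.x_mem (hπ r hr) (hc r)).2 (map_one _)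
  have hd := certE6.sound_S ρ sameLenE6
  have hN : cE6.N3 := sameLenE6.n3
  have hl : ∀ r, cE6.len r = 1 := by decide +kernel
  have hp : (twE6 φ).S.p = pE6 := h.p_eq
  have h3 := rep2_cons M hN hf hl (J := [3]) (hπ 39 (by simp)) (hc _) (by rw [hp]; decide +kernel)
    (fun S h1 h2 a ha => stb_grow F hf (fun i => by rw [hp]; revert i; decide) h1 D tabOfE6 [3]
      (by simp) 1 (L := [39]) (by simpa using h2) (by revert a; decide +kernel)) (rep2_nil M)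
  have h4 := rep2_cons M hN hf hl (J := [2, 3, 4]) (hπ 44 (by simp)) (hc _)
    (by rw [hp]; decide +kernel) (spanE6 h hφ h2 hK hf (by decide +kernel)) h3
  have h5 := rep2_cons M hN hf hl (J := [0, 2, 3, 4, 5]) (hπ 60 (by simp)) (hc _)
    (by rw [hp]; decide +kernel) (spanE6 h hφ h2 hK hf (by decide +kernel)) h4
  have h6 := rep2_cons M hN hf hl (J := [0, 1, 2, 3, 4, 5]) (hπ 71 (by simp)) (hc _)
    (by rw [hp]; decide +kernel) (spanE6 h hφ h2 hK hf (by decide +kernel)) h5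
  obtain ⟨L', h9, m, hm, e⟩ := h6 g ⟨LJ_mono (fun j _ => show j ∈ _ by revert j; decide)
    ((twE6 φ).mem_LJ_univ g), hg⟩ h7
  simp only [List.map, List.mem_cons, List.not_mem_nil, or_false] at h9
  rcases h9 with rfl | rfl | rfl | rfl | rfl
  iterate 4 exact ⟨m, hm.2, _, by simp, e⟩
  obtain ⟨a, ha, e'⟩ := run_letters hd (Z' := gE6 ρ q) (s := [20, 8, 25, 47]) (fun k hk => by
    obtain ⟨r, hr, rfl⟩ := List.mem_map.1 (show k ∈ [20, 8, 25, 47].map (Fin.val : Fin 72 → ℕ) from hk)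
    exact certE6.xx_val ρ r ▸ h1 r (by revert r; decide)) ([71, 60, 44, 39].map (Fin.val : Fin 72 → ℕ))
  rw [show List.foldl _ _ _ = (tabE6.f2 tabE6.cmS).col ([71, 60, 44].map (Fin.val : Fin 72 → ℕ)) by decide +kernel,
    hd.col_eq] at e'
  replace e' : a * ρ.prodL [71, 60, 44, 39] 1 * a⁻¹ = ρ.prodL [71, 60, 44] 1 :=
    (certE6.prod_xx ρ _ ▸ e' :).trans (certE6.prod_xx ρ ([71, 60, 44] : List (Fin 72)))
  exact ⟨a * m, mul_mem ha hm.2, [71, 60, 44], by simp, by rw [← e', ← e]; group⟩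

theorem poinJ {S : BN.Sym cE6.toRootSys} (hp : S.p = pE6) :
    S.poin {j | j ∈ [0, 2, 3, 4, 5]} 1 2 = 93555 := by
  rw [(dataE6 hp).poin_eq carE6' (by simp) 2 (by rw [hp]; decide) [2, 3, 4]
    [1, 0, 0, 0, 0, 1] [([1, 0, 0, 0, 0, 1], 0), ([-1, 0, 1, 0, 1, -1], 2), ([0, 0, -1, 2, -1, 0], 4),
      ([0, 2, 1, -2, 1, 0], 5), ([1, 2, -1, 0, -1, 1], 7), ([-1, 2, 0, 0, 0, -1], 9)]
    (by decide +kernel),
    (dataE6 hp).poin_eq carE6' (by simp) 2 (by rw [hp]; decide) [3]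
    [0, 0, 1, 0, 1, 0] [([0, 0, 1, 0, 1, 0], 0), ([1, 0, -1, 2, -1, 1], 2), ([1, 2, 1, -2, 1, 1], 3),
      ([2, 2, -1, 0, -1, 2], 5)] (by decide +kernel),
    (dataE6 hp).poin_eq carE6' (by simp) 2 (by rw [hp]; decide) [] [0, 0, 0, 1, 0, 0]
    [([0, 0, 0, 1, 0, 0], 0), ([0, 1, 1, -1, 1, 0], 1)] (by decide +kernel), poin_nil]
  rfl

/-- the letters are the standard generators -/
structure Lt {K : Type*} [Field K] {G : Type*} [Group G] (ρ : StRep cE6 K G) {G1 : Subgroup G} (f : ℕ → G1) (ω : K) :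
    Prop where
  eq : ∀ u w, ev f u = ev f w ↔ eqw u w = true
  a0 : f 0 = ρ.x 46 1
  a1 : f 1 = ρ.x 25 1
  a2 : f 2 = ρ.x 39 1
  a3 : f 3 = ρ.x 32 1
  a4 : f 4 = ρ.x 56 1 * ρ.x 36 1
  a5 : f 5 = ρ.x 56 ω * ρ.x 36 (ω + 1)
  a7 : f 7 = ρ.x 15 1 * ρ.x 35 1
  a9 : f 9 = ρ.x 15 (ω + 1) * ρ.x 35 ω
  a10 : f 10 = ρ.x 42 1 * ρ.x 37 1
  a11 : f 11 = ρ.x 42 ω * ρ.x 37 (ω + 1)
  a13 : f 13 = ρ.x 29 1 * ρ.x 34 1

theorem exists_lt {K : Type*} [Field K] [CharP K 2] {ω : K} (hω : ω ^ 2 = ω + 1)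
    (h4 : ∀ t : K, t = 0 ∨ ∃ c ∈ [1, 2, 3], t = el4 ω c) : ∃ f : ℕ → gE6 (repE6 K) 2, Lt (repE6 K) f ω := by
  let inc : gE6 (repE6 K) 2 →* GL chevE6.Idx K := (chevE6.group K).subtype.comp (gE6 (repE6 K) 2).subtype
  have rg : inc.range = (clo γ HA).map (ι hω) := by
    rw [← twisted_eq hω h4, MonoidHom.range_comp, range_subtype]; exact map_closure_wN linkE6 _
  obtain ⟨j, hj⟩ : ∃ j : gE6 (repE6 K) 2 →* GL (Fin 78) (ZMod 2), ∀ g, ι hω (j g) = inc g :=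
    ⟨(MonoidHom.ofInjective (ι_inj hω)).symm.toMonoidHom.comp (inc.codRestrict _ fun g =>
      map_le_range _ _ (rg.le ⟨g, rfl⟩)), fun g => MonoidHom.apply_ofInjective_symm (ι_inj hω) _⟩
  obtain ⟨f, eq, hf⟩ := exists_letters (j := j)
    (fun a b e => ((subtype_injective _).comp (subtype_injective _) : Function.Injective inc)
      (show inc a = inc b by rw [← hj, e, hj])) fun i hi => by
      obtain ⟨g, e⟩ := rg.ge (mem_map_of_mem _ (show γ (10 + i) ∈ _ by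
        rw [← ev_single γ]; exact ev_mem_clo γ (List.mem_map.2 ⟨i, List.mem_range.2 hi, rfl⟩)))
      exact ⟨g, ι_inj hω ((hj g).trans e)⟩
  have wd : ∀ i < 16, ∀ w : List (Fin 72 × K), (ι hω (γ (10 + i)) : Matrix _ _ K) =
      chevE6.wordMat K (w.map (Prod.map Fin.val id)) → (f i : chevE6.group K) = (repE6 K).word w := fun i hi w e =>
    Subtype.ext (Units.ext (by
      rw [← wN_map]
      exact (congrArg Units.val ((hj (f i)).symm.trans (congrArg _ (hf i hi)))).trans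
        (e.trans (val_wN linkE6 _).symm)))
  have x2 : ∀ p ∈ [((56 : Fin 72), (36 : Fin 72), 3), (15, 35, 6), (42, 37, 9), (29, 34, 12)], ∀ t ∈ [1, 2, 3],
      (f (p.2.2 + t) : chevE6.group K) = (repE6 K).x p.1 (el4 ω t) * (repE6 K).x p.2.1 (el4 ω t ^ 2) := fun p hp t ht =>
    (wd _ (by clear * - hp ht; revert p t; decide) [(p.1, el4 ω t), (p.2.1, el4 ω t ^ 2)] (by
      rw [← add_assoc]
      exact word2 hω (p.1, p.2.1, 10 + p.2.2) (by clear * - hp; revert p; decide) t ht)).trans (by simp)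
  have := word1 hω
  simp only [List.forall_mem_cons, el4] at this x2
  norm_num [hω, show (ω + 1) ^ 2 = ω by grind] at x2
  obtain ⟨⟨a4, a5, -⟩, ⟨a7, -, a9⟩, ⟨a10, a11, -⟩, a13, -⟩ := x2
  exact ⟨f, eq, (wd 0 (by decide) [(46, 1)] this.1).trans (by simp), (wd 1 (by decide) [(25, 1)] this.2.1).trans (by simp),
    (wd 2 (by decide) [(39, 1)] this.2.2.1).trans (by simp), (wd 3 (by decide) [(32, 1)] this.2.2.2.1).trans (by simp),
    a4, a5, a7, a9, a10, a11, a13⟩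

namespace Lt
variable {K : Type*} [Field K] [CharP K 2] {G : Type*} [Group G] {ρ : StRep cE6 K G} {G1 : Subgroup G} {f : ℕ → G1}
  {ω : K} (L : Lt ρ f ω)
include L

theorem sw : ∀ p ∈ SW, (f p.1 : G) = ev (fun i => (f i : G)) p.2 := fun p hp => by
  rw [← ev_single f, (L.eq _ _).2 (swOK p hp).2]; exact map_ev G1.subtype f _

theorem rk {k : ℕ} (hk : k < 4) : (f (16 + k) : G) = ρ.nw (rl k) := by
  have s : cE6.simple 0 = 56 ∧ cE6.simple 1 = 46 ∧ cE6.simple 2 = 42 ∧ cE6.simple 3 = 39 ∧ cE6.simple 4 = 37 ∧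
    cE6.simple 5 = 36 ∧ cE6.neg 56 = 15 ∧ cE6.neg 46 = 25 ∧ cE6.neg 42 = 29 ∧ cE6.neg 39 = 32 ∧ cE6.neg 37 = 34 ∧
    cE6.neg 36 = 35 := by decide +kernel
  interval_cases k
  · simpa [Comp.ev, evL, L.a0, L.a1, rl, PreSt.n, s, CharTwo.neg_eq, mul_assoc] using L.sw (16, [1, 3, 1]) (by decide +kernel)
  · simpa [Comp.ev, evL, L.a2, L.a3, rl, PreSt.n, s, CharTwo.neg_eq, mul_assoc] using L.sw (17, [5, 7, 5]) (by decide +kernel)
  · have := nn ρ (r := 56) (s := 36) (by decide +kernel) 1 1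
    exact (L.sw (18, [9, 15, 9]) (by decide +kernel)).trans (by simpa [Comp.ev, evL, L.a4, L.a7, rl, ns, s] using this)
  · have := nn ρ (r := 42) (s := 37) (by decide +kernel) 1 1
    exact (L.sw (19, [21, 27, 21]) (by decide +kernel)).trans (by simpa [Comp.ev, evL, L.a10, L.a13, rl, ns, s] using this)

theorem cj {i s : ℕ} {l : List ℕ} (e : eqw [2 * i + 1] (cw l s) = true) (hl : ∀ k ∈ l, k < 4) :
    (f i : G) = ρ.nw (l.flatMap rl) * f s * (ρ.nw (l.flatMap rl))⁻¹ := by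
  have : ((ev f (l.map fun k => 2 * (16 + k) + 1) : G1) : G) = ρ.nw (l.flatMap rl) := by
    clear e
    induction l with
    | nil => rfl
    | cons k l ih =>
      rw [List.map_cons, ev_cons, evL_odd, coe_mul, L.rk (hl k (.head _)), ih fun k h => hl k (.tail _ h),
        List.flatMap_cons, nw_append]
  rw [← ev_single f i, (L.eq _ _).2 e, cw, ev_lapp, ev_lapp, ev_winv, ev_single, coe_mul, coe_mul, coe_inv, this]

theorem z : (f 21 : G) = ρ.x 71 1 := by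
  rw [L.cj cwOK.1 (by decide), L.a0, nw_conj, wpE 71 (by decide +kernel)]

theorem u : (f 24 : G) = ρ.prodL [66, 68] 1 := by
  rw [L.cj cwOK.2.1 (by decide), L.a4, conj_mul_conj, nw_conj, nw_conj, wpE 66
    (by decide +kernel), wpE 68 (by decide +kernel)]
  simp

theorem b0 : (f 42 : G) = ρ.x 60 1 := by
  rw [L.cj cwOK.2.2.1 (by decide), L.a2, nw_conj, wpE 60 (by decide +kernel)]

theorem b3 : (f 45 : G) = ρ.x 44 1 := by
  rw [L.cj cwOK.2.2.2 (by decide), L.a2, nw_conj, wpE 44 (by decide +kernel)]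

theorem nw {k : ℕ} (hk : k < 4) : ρ.NW (f (16 + k)) (cE6.wp (rl k)) := L.rk hk ▸ nW_nw _

theorem uU : ∀ i ∈ [0, 2, 4, 5, 10, 11], (f i : G) ∈ ρ.Up := by
  have px : ∀ r : Fin 72, 36 ≤ r.1 → ∀ t, ρ.x r t ∈ ρ.Up := fun r hr t =>
    ρ.x_mem_U (show cE6.Pos r by revert r; decide +kernel) t
  simp only [List.forall_mem_cons, L.a0, L.a2, L.a4, L.a5, L.a10, L.a11]
  refine ⟨?_, ?_, mul_mem ?_ ?_, mul_mem ?_ ?_, mul_mem ?_ ?_, mul_mem ?_ ?_, by simp⟩ <;> exact px _ (by decide) _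

theorem hH (hω : ω ^ 2 = ω + 1) : (f 20 : G) ∈ ρ.H := by
  have o : ω * (ω + 1) = 1 := by grind
  have := nn ρ (r := cE6.simple 0) (s := cE6.simple 5) (by decide +kernel) ⟨ω, ω + 1, o, mul_comm ω _ ▸ o⟩
    ⟨ω + 1, ω, mul_comm ω _ ▸ o, o⟩
  have e := L.sw (20, [11, 19, 11, 38]) (by decide +kernel)
  have s : cE6.simple 0 = 56 ∧ cE6.simple 5 = 36 ∧ cE6.neg 56 = 15 ∧ cE6.neg 36 = 35 := by decide +kernel
  have n := ((nW_n_simple (ρ := ρ) 0 ⟨ω, ω + 1, o, mul_comm ω _ ▸ o⟩).mul (nW_n_simple 5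
    ⟨ω + 1, ω, mul_comm ω _ ▸ o, o⟩)).mul_inv_mem_H (g' := (f 18 : G)) (by simpa [rl] using L.nw (k := 2) (by decide))
  rw [← this] at n
  simpa [e, Comp.ev, evL, L.a5, L.a9, s, mul_assoc] using n

theorem x2 (hρ : ρ.Faithful) (t : ρ.Gp = ⊤) : ∃ J, (f 18 : G) ∉ ρ.PJ J ∧ ∀ g : G, g * f 24 * g⁻¹ = f 24 → g ∈ ρ.PJ J := by
  refine ⟨{i | cE6.sp i (([66, 68] : List (Fin 72)).map fun a => ((1 : ℕ) : ℤ) • cE6.vec a).sum = 0},
    fun c => ?_, fun g hg => ?_⟩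
  · have n := L.nw (k := 2) (by decide)
    have a := RootSys.lin_eq_of_mem_WJ (fun _ k => k) ((n.mem_PJ_iff hρ).1 c)
    simp only [List.map_cons, List.map_nil, List.sum_cons, List.sum_nil, Nat.cast_one, one_smul, add_zero, map_add,
      ← cE6.vec_aut n.mem_Aut] at a
    rw [wpE 55 (by decide +kernel), wpE 67
      (by decide +kernel)] at a
    exact absurd a (by decide +kernel)
  · have p : ∀ b ∈ ([66, 68] : List (Fin 72)), cE6.Pos b := by decide +kernel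
    refine mem_PJ_of_conj hρ (bst_up p) (by decide) (fun b hb => ⟨b, hb, le_rfl⟩) (t := 1) (by simp)
      (fun a ha => bst_up_diff p (by simp only [Pi.le_def]; revert a; decide +kernel)) (fun _ => 1) rfl (by decide +kernel)
      (fun a ha b hb _ => ?_) (t ▸ mem_top _) ?_
    · simp only [RootSys.form_apply]
      revert a b
      simp only [RootSys.up, Set.mem_ofPred_eq, Pi.le_def]
      decide +kernel
    · rw [← L.u, hg, L.u]
      exact ρ.prodL_mem_U (S := cE6.up [66, 68]) (fun b hb => ⟨b, hb, le_rfl⟩) _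

theorem f2 (hρ : ρ.Faithful) (t : ρ.Gp = ⊤) : ¬ IsConj (f 21) (f 24) := fun c => by
  obtain ⟨g, e⟩ := isConj_iff.1 c
  have := certE6.eq_of_conj (ρ := ρ) hρ (by decide +kernel) (reps := List.ofFn antiE6) (by decide +kernel)
    (List.mem_ofFn.2 ⟨0, rfl⟩) (List.mem_ofFn.2 ⟨1, rfl⟩) (g := g.1) (t ▸ mem_top _)
    (show _ * ρ.prodL ([71] : List (Fin 72)) 1 * _ = ρ.prodL ([66, 68] : List (Fin 72)) 1 by
      rw [← L.u, ← e]; simp [L.z])
  exact absurd this (by decide)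

end Lt

theorem exists_bn {K : Type*} [Field K] [Fintype K] (hK : Fintype.card K = 4) :
    ∃ (E : Subgroup (chevE6.group K)) (f : ℕ → E) (T : BNPair E) (U : Subgroup E),
      Nonempty (twistedE6 K 2 ≃* E) ∧ Bn f T U := by
  obtain ⟨_, ω, hω, h4⟩ := exists_omega hK
  have hK' : Fintype.card K = 2 ^ 2 := hK
  have pp : IsPrimePow 2 := Nat.prime_two.isPrimePow
  obtain ⟨φ, hφ, h2⟩ := exists_frobE6 pp hK'
  have h := isGr_twE6 φ
  have F := formE6 h hφ h2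
  have D := dataE6 h.p_eq
  have hρ := (twE6 φ).faith
  obtain ⟨f, L⟩ := exists_lt hω h4
  have e : twistedE6 K 2 ≃* gE6 (repE6 K) 2 := (packE6 hφ h2).e
  have cU : Nat.card ↥((repE6 K).Up ⊓ gE6 (repE6 K) 2) = 2 ^ 36 := (packE6 hφ h2).card_U.symm.trans (E6_card_U pp hK')
  have cH : Nat.card ↥((repE6 K).H ⊓ gE6 (repE6 K) 2) = 3 :=
    Nat.eq_of_mul_eq_mul_left three_pos ((packE6 hφ h2).card_H ▸ E6_card_H pp hK' :)
  have iv := fun g => invE6 (g := g) hK' hφ h2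
  obtain ⟨J, j1, j2⟩ := L.x2 hρ (twE6 φ).top
  have cP := F.card_PJ (d := 1) (by simp) (cU_E6 h hφ h2 one_lt_two hK') {j | j ∈ [0, 2, 3, 4, 5]}
  have b := E6_card pp hK'
  have := (E6_simple pp hK').1
  rw [F.card_Bo, cU, cH, poinJ h.p_eq] at cP
  rw [Nat.card_congr e.toEquiv] at b
  generalize gE6 (repE6 K) 2 = G1 at *
  generalize twE6 φ = T at *
  generalize repE6 K = ρ at *
  have cs : ∀ A : Subgroup (chevE6.group K), Nat.card (A.subgroupOf G1) = Nat.card ↥(A ⊓ G1) := fun A => by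
    rw [← inf_subgroupOf_right]; exact Nat.card_congr (subgroupOfEquivOfLe inf_le_right).toEquiv
  refine ⟨G1, f, F.bn, ρ.Up.subgroupOf G1, ⟨e⟩, L.eq, e.symm.isSimpleGroup, ?_, comap_mono le_sup_left,
    (cs _).trans cU, (cs _).trans (by rw [F.card_Bo, cU, cH]), fun c => ?_, L.uU, mem_sup_right (L.hH hω),
    ⟨(ρ.PJ {j | j ∈ [0, 2, 3, 4, 5]}).subgroupOf G1, comap_mono le_sup_left, fun i hi => ?_, (cs _).trans cP⟩,
    ⟨(ρ.PJ J).subgroupOf G1, comap_mono le_sup_left, j1, fun g hg =>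
      j2 g (congrArg Subtype.val (conj_eq_iff.2 (mem_c1.1 hg)))⟩, fun x hx => ?_, L.f2 hρ T.top⟩
  · rintro ⟨_, i, rfl⟩
    obtain ⟨k, hk, e⟩ : ∃ k < 4, rl k = swE6 i := by revert i; decide +kernel
    have n := L.nw hk
    rw [e, ← D.s_eq] at n
    exact ⟨k, hk, n.mem_N, ((wt_eq_wt_iff_of_mem_N (P := F.bn) n.mem_N (F.nW_nJ i).mem_N).2
      (mem_sup_right (n.inv_mul_mem_H (F.nW_nJ i)))).trans (wt_s (P := F.bn) ⟨_, i, rfl⟩)⟩
  · rw [← (ρ.Up.subgroupOf G1).card_mul_index, cs, cU] at b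
    norm_num at b
    omega
  · obtain ⟨k, rfl, hk, e⟩ : ∃ k, i = 16 + k ∧ k < 4 ∧ ∀ j ∈ rl k, j ∈ [0, 2, 3, 4, 5] :=
      ⟨i - 16, by revert i; decide +kernel⟩
    exact (L.nw hk).mem_PJ (cE6.mem_WJ_iff.2 ⟨_, e, rfl⟩)
  · obtain ⟨m, hm, l, hL, e⟩ := iv x x.2 (by rw [pow_two]; exact congrArg Subtype.val hx)
    refine ⟨⟨m, hm⟩, ?_⟩
    simp only [List.mem_cons, List.not_mem_nil, or_false] at hL
    simp only [← G1.subtype_injective.eq_iff, map_mul, map_inv, map_one, coe_subtype, L.z, L.b0, L.b3, e]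
    rcases hL with rfl | rfl | rfl | rfl <;> simp

end CF.E62
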