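import Cfsg.Agent.E62.W3
import Cfsg.Agent.E62.M4
import Cfsg.Agent.E62.MB

/-! The recognition of the twisted group of type `E6` over the field with four elements. -/

set_option autoImplicit false
set_option linter.unusedSectionVars false
set_option maxRecDepth 100000

namespace CF.E62

open Cfsg Cfsg.Lie Subgroup CF.Loc CF.Even CF.LX CF.J4 CF.Comp CF.Dce CF.BN Function

theorem cw5 : mm 20 PM PI = mo 20 ∧ mm 20 PI PM = mo 20 ∧ llen MW = 13 ∧ ∀ i < 13, inM mC (nth [] MW i) = true ∧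
    mm 20 PI (mm 20 (e20 (nth [] MW i)) PM) = nth (mo 20) TW (2 * i + 1) := by decide +kernel

theorem cw6 : Tor (· ∈ lmap eS TL) := by
  simp only [Tor]
  decide +kernel

theorem recog {G K : Type*} [Group G] [Finite G] [Field K] [Fintype K] (hK : Fintype.card K = 4) {Q H : Subgroup G} {z : G}
    (l : LQ Q z) (cQ : Nat.card Q = 2 ^ 21) (QH : Q ≤ H) (HC : H ≤ 𝐂₁(z)) (ix : Ix H 𝐂₁(z)) {φ : H →* PSU 6 K 2}
    (hs : Surjective φ) (hk : ∀ c : H, φ c = 1 ↔ c.1 ∈ Q) (w : ∃ g : G, g * z * g⁻¹ ∈ Q ∧ g * z * g⁻¹ ≠ z) :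
    (generalizedFittingSubgroup G).index = H.relIndex 𝐂₁(z) ∧
      Nonempty (generalizedFittingSubgroup G ≃* twistedE6 K 2) := by
  obtain ⟨g, h⟩ := exists_su hK
  obtain ⟨ν, C, t⟩ := exists_tb l cQ HC hs hk h
  obtain ⟨E, f, T, U, ⟨e⟩, B⟩ := exists_bn hK
  have : Finite E := Nat.finite_of_card_ne_zero fun c => B.ix (by
    have := U.card_mul_index
    rw [c, B.cU] at this
    omega)
  obtain ⟨Q0, κ, M⟩ := B.exists_mq
  obtain ⟨A, μ, M⟩ := M.exists_mo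
  have D := M.cq.change cw5.1 cw5.2.1
  have u := D.cd.ev (D.cd.tb (f := evs f MW) cw3.1 (fun i hi => (cw5.2.2.2 i hi).2 ▸
    M.cq.ac_change cw5.1 (M.acw (cw5.2.2.2 i hi).1)) fun i hi => evs_ge f (cw5.2.2.1.trans_le hi))
  obtain ⟨Θ, P⟩ := pr0_of l C M.ex D M.n0 QH HC cw6 (fun X hX => by
      obtain ⟨v, -, rfl⟩ := List.mem_map.1 (lmap_eq eS TL ▸ hX)
      obtain ⟨c, hc⟩ := hs (ev g v)
      exact ⟨⟨_, t v c hc⟩, _, u v⟩) fun c hc => by
    obtain ⟨v, hv⟩ := h.gen (φ ⟨c, hc⟩)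
    exact ⟨_, _, t v ⟨c, hc⟩ hv.symm, u v⟩
  have P := P.pre (M.cC.trans_eq (by
    rw [← φ.ker.card_mul_index, index_ker, MonoidHom.range_eq_top.2 hs, card_top, card_U6 hK,
      show φ.ker = Q.subgroupOf H from Subgroup.ext hk, Nat.card_congr (subgroupOfEquivOfLe QH).toEquiv, cQ]))
  obtain ⟨ρ, S, N⟩ := M.mc P.l0
  obtain ⟨Φ, k⟩ := P.exists_ph N ix cQ w
  rw [k.fstar N]
  exact ⟨k.index N, ⟨((MonoidHom.ofInjective k.inj).symm.trans e.symm)⟩⟩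

end CF.E62
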