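import Cfsg.Agent.E62.H1
import Cfsg.Agent.E62.W4

/-! The construction when the subgroup of the centraliser is normal of index dividing six. -/

set_option autoImplicit false
set_option linter.unusedSectionVars false
set_option maxRecDepth 100000

namespace CF.E62

open Cfsg Subgroup CF.Loc CF.Even CF.LX CF.J4 CF.BN
open scoped commutatorElement

variable {G E : Type*} [Group G] [Group E] [Finite G] [Finite E]
variable {Q H P : Subgroup G} {z t U : G} {Q0 S A : Subgroup E} {a t0 F r s u : E} {Θ ψ : E → G}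
variable {T : BNPair E} {ρ : T.S → E}

section
/-- the model is embedded -/
structure Ph6 (Q H : Subgroup G) (z : G) (Q0 : Subgroup E) (a : E) (Φ : E →* G) : Prop where
  l : LQ Q z
  HC : H ≤ 𝐂₁(z)
  ix : I6 H 𝐂₁(z)
  inj : Function.Injective Φ
  pa : Φ a = z
  mQ : Q0.map Φ = Q
  mC : (𝐂₁(a)).map Φ = H
  fus : ∀ y, IsConj z (Φ y) → IsConj a y

theorem Ps.exists_ph6 (h : Ps Q H P z t U Q0 a t0 F r Θ ψ) (M : MC Q0 a t0 F r s T ρ S A u) (ix : I6 H 𝐂₁(z))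
    (cQ : Nat.card Q = 2 ^ 21) : ∃ Φ, Ph6 Q H z Q0 a Φ := by
  obtain ⟨Φ, e1, -⟩ := h.exists_phi6 M.toMB ix
  have := M.sim
  have pa : Φ a = z := (e1 a (mem_c1.2 rfl)).trans h.pa
  have inj : Function.Injective Φ := (MonoidHom.ker_eq_bot_iff Φ).1 ((Φ.normal_ker.eq_bot_or_eq_top).resolve_right
    fun e => h.l.z_ne (pa.symm.trans (e.ge (mem_top a))))
  have eQ : ∀ x ∈ Q0, Φ x = Θ x := fun x k => (e1 x (M.l.le_c1 k)).trans (h.eq x k)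
  refine ⟨Φ, h.l, h.HC, ix, inj, pa, le_antisymm (map_le_iff_le_comap.2 fun x k => mem_comap.2 (eQ x k ▸ h.mem x k))
    fun y hy => ?_, le_antisymm (map_le_iff_le_comap.2 fun x k => mem_comap.2 (e1 x k ▸ (h.co x k).l)) fun y hy => ?_,
    fun y c => ?_⟩
  · obtain ⟨x, k, e⟩ := h.surj y hy
    exact ⟨x, k, (eQ x k).trans e⟩
  · obtain ⟨x, k, e⟩ := h.surj' hy
    exact ⟨x, k, (e1 x k).trans e⟩
  · obtain ⟨k, hk⟩ := M.f6 y (inj (by
      obtain ⟨g, e⟩ := isConj_iff.1 c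
      rw [map_mul, map_one, ← e, ← conj_mul_conj, h.l.zz]; group))
    refine IsConj.trans ?_ (isConj_iff.2 ⟨k, rfl⟩).symm
    obtain ⟨g, e⟩ := isConj_iff.1 (isConj_cj c (Φ k))
    rw [← map_inv, ← map_mul, ← map_mul, eQ _ hk] at e
    by_cases n : g * z * g⁻¹ = z
    · rw [h.inj _ hk _ M.l.mem (e.symm.trans (n.trans h.tz.symm))]
    obtain ⟨m, hm, v⟩ := exists_sv6 h.toPre h.M (h.l.pair (by rw [cQ]; norm_num) n (e ▸ h.mem _ hk)) ix cQ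
    exact h.inj _ (h.cm h.M.tQ hm) _ hk (v.tt.trans e) ▸ isConj_cj M.pure.1.1 m

namespace Ph6
variable {Φ : E →* G} (h : Ph6 Q H z Q0 a Φ) (M : MC Q0 a t0 F r s T ρ S A u)
include h

theorem cjz {y : E} (c : IsConj a y) : IsConj z (Φ y) := h.pa ▸ Φ.map_isConj c

theorem inf : Φ.range ⊓ 𝐂₁(z) = H := le_antisymm (by
    rintro _ ⟨⟨x, rfl⟩, k⟩
    exact h.mC.le ⟨x, mem_c1.2 (h.inj (by rw [map_mul, map_mul, h.pa, mem_c1.1 k])), rfl⟩)
  (le_inf (h.mC.ge.trans (map_le_range _ _)) h.HC)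

theorem QY : Q ≤ Φ.range := h.mQ.ge.trans (map_le_range _ _)

include M

theorem norm : Φ.range ⊔ 𝐂₁(z) ≤ 𝐍(Φ.range) := by
  refine sup_le le_normalizer fun c hc => mem_normalizer_fintype ?_
  rintro _ ⟨x, rfl⟩
  have k : (cj[c⁻¹] Φ.range).comap Φ = ⊤ := M.eq_top (fun m hm => mem_comap.2 (mem_cj.2
    (h.inf.ge.trans inf_le_left (norm_mem (inv_mem (h.ix.norm hc)) (h.mC.le ⟨m, hm, rfl⟩))))) (by
      have tQ : c * Φ t0 * c⁻¹ ∈ Q := norm_mem' (h.l.nor hc) (h.mQ.le ⟨_, M.tQ, rfl⟩)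
      obtain ⟨y, -, e⟩ := h.mQ.ge tQ
      obtain ⟨d, rfl⟩ := isConj_iff.1 (h.fus y (e ▸ isConj_cj (h.cjz M.pure.1.1) c))
      have e1 := h.l.cj_eq (x := c * Φ r) (g := Φ d) (by
        rw [← h.pa, ← map_inv, ← map_mul, ← map_mul, e, ← M.ra]; simp [mul_assoc])
      have FQ : Φ F ∈ Q := h.mQ.le ⟨_, M.FQ, rfl⟩
      have k1 : c * Φ F * c⁻¹ ∈ Φ.range := h.QY (norm_mem' (h.l.nor hc) FQ)
      obtain ⟨v, hv, k2⟩ := e1.le (conj_mem_cj (c * Φ r) FQ)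
      have k3 : c * Φ r * Φ F * (c * Φ r)⁻¹ ∈ Φ.range :=
        k2 ▸ mul_mem (mul_mem ⟨d, rfl⟩ (h.QY hv)) (inv_mem ⟨d, rfl⟩)
      rw [mem_comap, mem_cj, ← M.br]
      simpa [mul_assoc] using mul_mem (mul_mem k1 k3) k1)
  simpa using mem_cj.1 (mem_comap.1 (k.ge (mem_top x)))

theorem four {x : G} (hx : x ∈ 𝐂₁(z)) (xx : x * x = 1) (n : x ∈ 𝐍(S.map Φ)) :
    ∃ y, x * Φ y = Φ y * x ∧ IsConj a y ∧ IsConj a (a * y) := by
  have wQ : s * t0 * s ∈ Q0 := by simpa only [M.si] using norm_mem' (M.l.nor M.sa) M.tQ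
  have key : ∀ (W : Subgroup E) (q : E), q ∈ Q0 → x ∈ 𝐍(W.map Φ) → (∀ y ∈ S, ⁅y, q⁆ ∈ W) →
      ∃ q' ∈ Q0, Φ q' = x * Φ q * x⁻¹ ∧ ∀ y ∈ S, ⁅y, q'⁆ ∈ W := fun W q hq nW k => by
    obtain ⟨q', hq', e⟩ := h.mQ.ge (norm_mem' (h.l.nor hx) (h.mQ.le ⟨q, hq, rfl⟩))
    refine ⟨q', hq', e, fun y hy => ?_⟩
    obtain ⟨v, hv, e'⟩ := norm_mem n (mem_map_of_mem Φ hy)
    have := norm_mem' nW (mem_map_of_mem Φ (k v hv))
    rw [map_commutatorElement, e', show x * ⁅x⁻¹ * Φ y * x, Φ q⁆ * x⁻¹ = ⁅Φ y, x * Φ q * x⁻¹⁆ by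
      simp only [commutatorElement_def]; group, ← e, ← map_commutatorElement] at this
    exact (mem_map_iff_mem h.inj).1 this
  have xz := conj_eq_iff.2 (mem_c1.1 hx)
  obtain ⟨q, hq, e, k⟩ := key (zpowers a) t0 M.tQ (by
    rw [MonoidHom.map_zpowers, h.pa]; exact cj_eq_self_iff.1 (by rw [cj_zpowers, xz])) M.k1'
  have zt : ∀ v, Φ (a * v) = z * Φ v := fun v => by rw [map_mul, h.pa]
  have n1 : ∀ {v}, x * Φ v * x⁻¹ = 1 → v = 1 := fun k => h.inj (by simpa using k)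
  rcases M.p.mem_V.1 (M.k1 q hq k) with rfl | rfl | rfl | rfl
  · exact absurd (n1 (e.symm.trans Φ.map_one)) M.p.r.z_ne
  · rw [h.pa, ← xz, mul_left_inj, mul_right_inj, ← h.pa] at e
    exact absurd (h.inj e).symm M.ne
  · exact ⟨_, conj_eq_iff.1 e.symm, M.pure.1⟩
  have nV : x ∈ 𝐍((V4 a t0).map Φ) := mem_normalizer_fintype (by
    rintro _ ⟨v, hv, rfl⟩
    have t1 : x * Φ t0 * x⁻¹ ∈ (V4 a t0).map Φ := e ▸ mem_map_of_mem Φ (mul_mem M.p.zV M.p.tV)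
    have z1 : x * Φ a * x⁻¹ ∈ (V4 a t0).map Φ := by rw [h.pa, xz, ← h.pa]; exact mem_map_of_mem Φ M.p.zV
    rcases M.p.mem_V.1 hv with rfl | rfl | rfl | rfl
    exacts [by rw [map_one, mul_one, mul_inv_cancel]; exact one_mem _, z1, t1, by rw [map_mul, conj_mul_conj]; exact mul_mem z1 t1])
  obtain ⟨q, hq, e', k⟩ := key _ _ wQ nV M.k2'
  have ww : s * t0 * s * (s * t0 * s) = 1 := by
    rw [show s * t0 * s * (s * t0 * s) = s * (t0 * (s * s) * t0) * s by group, M.ss, mul_one, M.p.r.zz, mul_one, M.ss]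
  have k2 := (M.k2 q hq k).resolve_left fun c => M.wV ((mem_map_iff_mem h.inj).1
    ((mem_normalizer_iff.1 nV _).2 (e' ▸ mem_map_of_mem Φ c)))
  have pu := M.pure.2
  generalize s * t0 * s = w at *
  obtain ⟨v, rfl⟩ : ∃ v, q = v * w := ⟨q * w, by rw [mul_assoc, ww, mul_one]⟩
  rw [mul_assoc, ww, mul_one] at k2
  have e2 : x * Φ v * x⁻¹ * Φ v = 1 := by
    rw [← mul_left_inj (Φ w), mul_assoc, ← map_mul, e', ← conj_mul_conj, ← map_mul, e',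
      show x * (x * Φ w * x⁻¹) * x⁻¹ = x * x * Φ w * (x * x)⁻¹ by group, xx]
    group
  rw [zt] at e
  rcases M.p.mem_V.1 k2 with rfl | rfl | rfl | rfl
  · exact ⟨_, conj_eq_iff.1 (by rw [← e', one_mul]), pu.1⟩
  · refine ⟨_, conj_eq_iff.1 ?_, pu.2⟩
    rw [map_mul, conj_mul_conj, ← e, ← e', ← zt, ← map_mul, ← map_mul, ← M.p.tz, mul_assoc, ← mul_assoc _ _ w, M.l.zz,
      one_mul]
  · rw [← e, mul_assoc, ← map_mul, M.p.r.zz, map_one, mul_one] at e2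
    exact absurd e2 h.l.z_ne
  · rw [zt, conj_mul_conj, xz, ← e, ← mul_assoc z, h.l.zz, one_mul, ← h.pa, ← map_mul, ← map_mul, ← mul_assoc, M.p.tz,
      mul_assoc, M.p.r.zz, mul_one, h.pa] at e2
    exact absurd e2 h.l.z_ne

theorem fusM {g : G} (hg : g * z * g⁻¹ ∈ Φ.range ⊔ 𝐂₁(z)) : g ∈ Φ.range ⊔ 𝐂₁(z) := by
  have : Fact (Nat.Prime 2) := ⟨Nat.prime_two⟩
  have s1 : IsSyl 2 (S.map Φ) H := h.mC ▸ M.sy.map Φ
  obtain ⟨R, hR, SR⟩ := exists_isSyl_ge s1.isPGroup (s1.le.trans h.HC)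
  have xx : ∀ g : G, g * z * g⁻¹ * (g * z * g⁻¹) = 1 := fun g => by rw [← conj_mul_conj, h.l.zz]; group
  obtain ⟨k, hk, e⟩ := ((h.l.isSyl_top hR).mono (hR.le.trans le_sup_right) le_top).exists_cj_le
    (isPGroup_iff_forall.2 fun y k => ⟨1, by
      obtain ⟨m, e⟩ := mem_zpowers_iff.1 k
      rw [← e, pow_one, ← zpow_natCast, ← zpow_mul, mul_comm, zpow_mul, zpow_natCast, sq, xx, one_zpow]⟩) (zpowers_le.2 hg)
  refine (mul_mem_cancel_left hk).1 ?_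
  have k1 : k * g * z * (k * g)⁻¹ ∈ R := by simpa [mul_assoc] using e (conj_mem_cj k (mem_zpowers _))
  generalize k * g = g at k1
  obtain ⟨y, c, c1, c2⟩ := h.four M (hR.le k1) (xx g) (by
    rw [← s1.eq_of_le (hR.isPGroup.to_inf_left (K := H)) (le_inf SR s1.le) inf_le_right]
    exact cj_eq_self_iff.1 (by rw [cj_inf, cj_eq_self_of_mem k1, cj_eq_self (h.ix.norm (hR.le k1))]))
  have m : ∀ {v}, g * z * g⁻¹ * v = v * (g * z * g⁻¹) → g⁻¹ * v * g ∈ 𝐂₁(z) := fun {v} e => mem_c1.2 (by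
    rw [show g⁻¹ * v * g * z = g⁻¹ * (v * (g * z * g⁻¹)) * g by group, ← e]; group)
  have fin : ∀ v, IsConj a v → g⁻¹ * Φ v * g ∈ H → g ∈ Φ.range ⊔ 𝐂₁(z) := fun v c k => by
    obtain ⟨w, -, e⟩ := h.mC.ge k
    obtain ⟨b, rfl⟩ := isConj_iff.1 (h.fus w (by simpa [e] using isConj_cj (h.cjz c) g⁻¹))
    obtain ⟨d, rfl⟩ := isConj_iff.1 c
    have y : ∀ d, Φ d ∈ Φ.range ⊔ 𝐂₁(z) := fun d => mem_sup_left ⟨d, rfl⟩
    refine (mul_mem_cancel_left (inv_mem (y d))).1 ((mul_mem_cancel_right (y b)).1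
      (mem_sup_right (mem_c1.2 (conj_eq_iff.1 ?_))))
    simp only [map_mul, map_inv, h.pa] at e
    rw [show (Φ d)⁻¹ * g * Φ b * z * ((Φ d)⁻¹ * g * Φ b)⁻¹ = (Φ d)⁻¹ * g * (Φ b * z * (Φ b)⁻¹) * g⁻¹ * Φ d by group, e]
    group
  by_cases a1 : g⁻¹ * Φ a * g ∈ H
  · exact fin a (IsConj.refl a) a1
  by_cases a2 : g⁻¹ * Φ y * g ∈ H
  · exact fin y c1 a2
  refine fin _ c2 ?_
  have sq : ∀ {x}, IsConj a x → x * x = 1 := fun c => by
    obtain ⟨k, rfl⟩ := isConj_iff.1 c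
    rw [← conj_mul_conj, M.l.zz]; group
  have cj : ∀ x y, g⁻¹ * Φ x * g * (g⁻¹ * Φ y * g) = g⁻¹ * Φ (x * y) * g := fun x y => by rw [map_mul]; group
  have := h.ix.inv (m (h.pa.symm ▸ mem_c1.1 (hR.le k1))) (m c) (by rw [cj, M.l.zz, map_one]; group)
    (by rw [cj, sq c1, map_one]; group) (by
      rw [cj, cj, eq_inv_of_mul_eq_one_left (sq c2), mul_inv_rev, M.l.zi, inv_eq_of_mul_eq_one_left (sq c1)]) a1 a2
  simpa [mul_assoc] using this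

theorem top : Φ.range ⊔ 𝐂₁(z) = ⊤ := by
  by_contra ne
  have := M.sim
  have zc := XT.zc_of h.l le_sup_right (fun x hx c => by
    obtain ⟨g, rfl⟩ := isConj_iff.1 c
    exact ⟨g, h.fusM M hx, rfl⟩) ne
  have cc : ∀ {x : G} (y : E), 𝐂₁(x) ≤ Φ.range ⊔ 𝐂₁(z) → 𝐂₁(Φ y * x * (Φ y)⁻¹) ≤ Φ.range ⊔ 𝐂₁(z) := fun y k => by
    rw [← cj_centralizer_singleton, ← cj_eq_self_of_mem (mem_sup_left ⟨y, rfl⟩ : Φ y ∈ Φ.range ⊔ 𝐂₁(z))]
    exact cj_mono _ k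
  have cu : 𝐂₁(Φ u) ≤ Φ.range ⊔ 𝐂₁(z) := by
    obtain ⟨d, hd, d1, d2⟩ := M.dx
    refine cent_le' (A := A.map Φ) zc ((map_le_range _ _).trans le_sup_left) (by
      rintro _ ⟨x, hx, rfl⟩; rw [← map_mul, M.sq x hx, map_one]) (mem_map_of_mem Φ M.uA) (fun g hg e => ?_)
      (mem_map_of_mem Φ hd) (h.cjz d1) (map_mul Φ d u ▸ h.cjz d2) fun X hX uX n k => ?_
    · refine mem_normalizer_fintype ?_
      rintro _ ⟨x, hx, rfl⟩
      have : A ≤ (cj[g⁻¹] (A.map Φ)).comap Φ := M.f4.trans ((closure_le _).2 fun y hy => by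
        obtain ⟨v, ev⟩ := norm_mem' (h.norm M hg) ⟨y, rfl⟩
        refine mem_comap.2 (mem_cj.2 ⟨v, M.memA (h.fus v (ev ▸ isConj_cj (h.cjz hy.1) g)) (h.fus _ ?_), by simp [ev]⟩)
        have := isConj_cj (h.cjz hy.2) g
        rwa [map_mul, conj_mul_conj, conj_eq_iff.2 e, ← ev, ← map_mul] at this)
      simpa using mem_cj.1 (mem_comap.1 (this hx))
    · refine M.ar (X.comap Φ) (fun x hx => (mem_map_iff_mem h.inj).1 (hX hx)) uX (fun e he c => n _ he (h.cjz c))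
        fun y hy c => ?_
      obtain ⟨e, he, c1, c2⟩ := k _ (mem_map_of_mem Φ hy) (h.cjz c)
      obtain ⟨e, -, rfl⟩ := hX he
      exact ⟨e, he, h.fus _ (by rwa [map_mul]), h.fus _ (by rwa [map_mul, map_mul])⟩
  refine M.f2 (h.fus u (zc.ai (fun e he n c => ?_) (fun v _ iv => by_contra fun k => ?_) ?_
    ⟨fun e => M.u1 (h.inj (e.trans Φ.map_one.symm)), by rw [← map_mul, M.sq u M.uA, map_one]⟩))
  · obtain ⟨g, rfl⟩ := isConj_iff.1 he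
    obtain ⟨e, ee⟩ := norm_mem' (h.norm M (h.fusM M (mem_sup_right (mem_c1.2 c.symm)))) ⟨a, h.pa⟩
    rw [← ee] at he n c ⊢
    rw [← h.pa, ← map_mul] at c ⊢
    rw [h.pa]
    rcases M.f1 e (h.fus e he) (h.inj (c.trans (map_mul _ _ _).symm)) (fun k => n (k ▸ h.pa)) with k | ⟨y, -, k⟩
    · obtain ⟨y, k⟩ := isConj_iff.1 k
      rw [← k, map_mul, map_mul, map_inv, h.pa]
      exact cc y le_sup_right
    · have := cc y⁻¹ cu
      rwa [← k, ← map_inv, ← map_mul, ← map_mul, show y⁻¹ * (y * (a * e) * y⁻¹) * y⁻¹⁻¹ = a * e by group] at this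
  · push Not at k
    rcases ((Φ.range ⊔ 𝐂₁(z)).normalCore_normal.comap Φ).eq_bot_or_eq_top with e | e
    · have vY : v ∈ 𝐍(Φ.range) := h.norm M (by simpa using k 1)
      have c : ∀ y ∈ Φ.range, y * v = v * y := by
        rintro _ ⟨y, rfl⟩
        have yY : Φ y ∈ Φ.range := ⟨y, rfl⟩
        obtain ⟨w, ew⟩ := mul_mem yY (norm_mem' vY (inv_mem yY))
        have : w ∈ (Φ.range ⊔ 𝐂₁(z)).normalCore.comap Φ := by
          rw [mem_comap, ew, show Φ y * (v * (Φ y)⁻¹ * v⁻¹) = Φ y * v * (Φ y)⁻¹ * v⁻¹ by group]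
          exact mul_mem ((normalCore_normal _).conj_mem v k _) (inv_mem k)
        rw [mem_bot.1 (e.le this), map_one] at ew
        rw [← mul_inv_eq_one, ew]; group
      obtain rfl := (h.l.cent_cases fun y hy => c y (h.QY hy)).resolve_left iv.ne
      exact iv.ne (h.pa.symm.trans (by rw [mem_bot.1 (e.le (show a ∈ _ from h.pa.symm ▸ k)), map_one]))
    · exact ne (eq_top_iff.2 fun g _ => h.fusM M (h.pa ▸ mem_comap.1 (e.ge (mem_top a)) g))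
  · rcases ((normalClosure_normal (s := {z})).comap Φ).eq_bot_or_eq_top with e | e
    · exact absurd (mem_bot.1 (e.le (show a ∈ _ from h.pa.symm ▸ subset_normalClosure rfl))) M.l.z_ne
    · exact e.ge (mem_top u)

theorem normal : Φ.range.Normal := normalizer_eq_top_iff.1 (eq_top_iff.2 (h.top M ▸ h.norm M))

theorem index : Φ.range.index = H.relIndex 𝐂₁(z) := by
  have := h.normal M
  rw [← h.inf, inf_relIndex_right, ← relIndex_sup_left, h.top M, relIndex_top_right]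

theorem fstar : generalizedFittingSubgroup G = Φ.range := by
  have := h.normal M
  have := M.sim
  have := (MonoidHom.ofInjective h.inj).symm.isSimpleGroup
  have n : ¬ Φ r * z = z * Φ r := fun e => M.ne (M.ra.symm.trans (conj_eq_iff.2 (h.inj (by simpa [h.pa] using e))))
  refine fstar_simple (eq_bot_iff.2 fun x hx => (h.l.cent_cases fun y hy => hx y (h.QY hy)).resolve_right fun e =>
    n (e ▸ hx _ ⟨r, rfl⟩)) fun c => n (congrArg Subtype.val (c.1.1 ⟨_, r, rfl⟩ ⟨_, a, h.pa⟩))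

end Ph6

theorem Pre.exists_ph6 (h : Pre Q H z Q0 a Θ) (M : MC Q0 a t0 F r s T ρ S A u) (ix : I6 H 𝐂₁(z))
    (cQ : Nat.card Q = 2 ^ 21) (w : ∃ g : G, g * z * g⁻¹ ∈ Q ∧ g * z * g⁻¹ ≠ z) : ∃ Φ, Ph6 Q H z Q0 a Φ := by
  obtain ⟨g, a, b⟩ := w
  obtain ⟨m, -, k⟩ := exists_sv6 h M.toMA (h.l.pair (by rw [cQ]; norm_num) b a) ix cQ
  obtain ⟨U, k⟩ := k.exists_su6 M.toMA ix
  obtain ⟨ψ, k⟩ := k.exists_ps
  exact k.exists_ph6 M ix cQ


open Cfsg.Lie CF.Comp CF.Dce Function in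
theorem recog6 {G K : Type*} [Group G] [Finite G] [Field K] [Fintype K] (hK : Fintype.card K = 4) {Q H : Subgroup G} {z : G}
    (l : LQ Q z) (cQ : Nat.card Q = 2 ^ 21) (QH : Q ≤ H) (HC : H ≤ 𝐂₁(z)) (nm : 𝐂₁(z) ≤ 𝐍(H))
    (i6 : H.relIndex 𝐂₁(z) ∣ 6) {φ : H →* PSU 6 K 2}
    (hs : Surjective φ) (hk : ∀ c : H, φ c = 1 ↔ c.1 ∈ Q) (w : ∃ g : G, g * z * g⁻¹ ∈ Q ∧ g * z * g⁻¹ ≠ z) :
    (generalizedFittingSubgroup G).index = H.relIndex 𝐂₁(z) ∧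
      Nonempty (generalizedFittingSubgroup G ≃* twistedE6 K 2) := by
  obtain ⟨g, h⟩ := exists_su hK
  obtain ⟨ν, C, t⟩ := exists_tb l cQ HC hs hk h
  obtain ⟨E, f, T, U, ⟨e⟩, B⟩ := exists_bn hK
  have : Finite E := Nat.finite_of_card_ne_zero fun c => B.ix (by
    have := U.card_mul_index
    rw [c, B.cU] at this
    omega)
  obtain ⟨Q0, κ, M⟩ := B.exists_mq
  obtain ⟨A, μ, M⟩ := M.exists_mo
  have D := M.cq.change cw5.1 cw5.2.1
  have u := D.cd.ev (D.cd.tb (f := evs f MW) cw3.1 (fun i hi => (cw5.2.2.2 i hi).2 ▸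
    M.cq.ac_change cw5.1 (M.acw (cw5.2.2.2 i hi).1)) fun i hi => evs_ge f (cw5.2.2.1.trans_le hi))
  obtain ⟨Θ, P⟩ := pr0_of l C M.ex D M.n0 QH HC cw6 (fun X hX => by
      obtain ⟨v, -, rfl⟩ := List.mem_map.1 (lmap_eq eS TL ▸ hX)
      obtain ⟨c, hc⟩ := hs (ev g v)
      exact ⟨⟨_, t v c hc⟩, _, u v⟩) fun c hc => by
    obtain ⟨v, hv⟩ := h.gen (φ ⟨c, hc⟩)
    exact ⟨_, _, t v ⟨c, hc⟩ hv.symm, u v⟩
  have P := P.pre (M.cC.trans_eq (by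
    rw [← φ.ker.card_mul_index, index_ker, MonoidHom.range_eq_top.2 hs, card_top, card_U6 hK,
      show φ.ker = Q.subgroupOf H from Subgroup.ext hk, Nat.card_congr (subgroupOfEquivOfLe QH).toEquiv, cQ]))
  obtain ⟨ρ, S, N⟩ := M.mc P.l0
  obtain ⟨Φ, k⟩ := P.exists_ph6 N ⟨nm, i6⟩ cQ w
  rw [k.fstar N]
  exact ⟨k.index N, ⟨((MonoidHom.ofInjective k.inj).symm.trans e.symm)⟩⟩

end

end CF.E62
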