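import Cfsg.Agent.E62.T
import Cfsg.Agent.E62.MD

/-! The interface of the model. -/

set_option autoImplicit false
set_option linter.unusedSectionVars false
set_option maxRecDepth 100000

namespace CF.E62

open Cfsg Subgroup CF.Loc CF.Even CF.LX CF.J4 CF.Comp CF.Dce CF.BN

/-- the code of a word -/
noncomputable def ew (w : List ℕ) : ℕ := evW (mm 78) (mo 78) (nth (mo 78) TB) w

/-- words with the same code -/
noncomputable def eqw (u w : List ℕ) : Bool := Nat.beq (ew u) (ew w)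

theorem swOK : ∀ p ∈ SW, p.1 < 67 ∧ eqw [2 * p.1 + 1] p.2 = true := by decide +kernel

/-- the word of a product over bits -/
noncomputable def chW (L : ℕ → ℕ) (n c : ℕ) : List ℕ :=
  Nat.rec (motive := fun _ => List ℕ) [] (fun k w => Bool.rec w (lapp w [2 * L k + 1]) (tb c k)) n

theorem ev_chW {G : Type*} [Group G] (f : ℕ → G) (L : ℕ → ℕ) (n c : ℕ) :
    ev f (chW L n c) = chi (fun i => f (L i)) n c := by
  induction n with
  | zero => rfl
  | succ n ih =>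
    have e : chW L (n + 1) c = Bool.rec (chW L n c) (lapp (chW L n c) [2 * L n + 1]) (tb c n) := rfl
    rw [e, chi_succ, tb_eq, ← ih]
    cases c.testBit n
    · rfl
    · exact (ev_lapp _ _ _).trans (by rw [ev_single]; rfl)

variable {E : Type*} [Group E] [Finite E]

/-- what is used from the theory of groups of Lie type -/
structure Bn (f : ℕ → E) (T : BNPair E) (U : Subgroup E) : Prop where
  eq : ∀ u w, ev f u = ev f w ↔ eqw u w = true
  sim : IsSimpleGroup E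
  cs : ∀ i : T.S, ∃ k < 4, f (16 + k) ∈ T.N ∧ wt T (f (16 + k)) = (cox T).s i
  UB : U ≤ T.B
  cU : Nat.card U = 2 ^ 36
  cB : Nat.card T.B = 2 ^ 36 * 3
  ix : ¬ 2 ∣ U.index
  uU : ∀ i ∈ [0, 2, 4, 5, 10, 11], f i ∈ U
  hB : f 20 ∈ T.B
  x1 : ∃ X, T.B ≤ X ∧ (∀ i ∈ [17, 18, 19], f i ∈ X) ∧ Nat.card X = 2 ^ 21 * 9196830720
  x2 : ∃ X, T.B ≤ X ∧ f 18 ∉ X ∧ 𝐂₁(f 24) ≤ X
  inv : ∀ x : E, x * x = 1 → ∃ g, g * x * g⁻¹ = 1 ∨ g * x * g⁻¹ = f 21 ∨ g * x * g⁻¹ = f 21 * f 42 ∨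
    g * x * g⁻¹ = f 21 * (f 42 * f 45)
  f2 : ¬ IsConj (f 21) (f 24)

end CF.E62
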