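import Cfsg.Agent.E62.M0

/-! Coordinates in the model. -/

set_option autoImplicit false
set_option linter.unusedSectionVars false
set_option maxRecDepth 100000
set_option exponentiation.threshold 400

namespace CF.E62

open Cfsg Subgroup CF.Loc CF.Even CF.LX CF.J4 CF.Comp CF.Dce CF.BN

/-- products of letters with the same code -/
noncomputable def eqv (u w : List ℕ) : Bool := eqw (lmap (fun i => 2 * i + 1) u) (lmap (fun i => 2 * i + 1) w)

/-- the letters reached from a list of letters -/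
noncomputable def gr (l : List ℕ) : ℕ := growM SW (l.foldr (fun i m => 2 ^ i ||| m) 0)

/-- the letters in the centraliser -/
noncomputable def mC : ℕ := nat_lit 0xdfffffffffefffd

/-- the matrix of a word -/
noncomputable def e20 (w : List ℕ) : ℕ := evW (mm 20) (mo 20) (nth (mo 20) T20) w

/-- the matrix of a product of the `a i` -/
noncomputable def ma (c : ℕ) : ℕ := e20 (chW (fun i => 42 + i) 9 c)

/-- the matrix of a product of the `τ i` -/
noncomputable def mc (c : ℕ) : ℕ := fld 81 M9P c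

theorem gr_ind {R : ℕ → Prop} (hs : ∀ p ∈ SW, (∀ x ∈ p.2, R ((x - 1) / 2)) → R p.1) {l : List ℕ}
    (h : ∀ i ∈ l, R i) : ∀ i, (gr l).testBit i = true → R i := growM_ind hs fun i hi => h i (by
  clear h
  induction l with
  | nil => simp at hi
  | cons k l ih =>
    rw [List.foldr_cons, Nat.testBit_or, Bool.or_eq_true, Nat.testBit_two_pow, decide_eq_true_eq] at hi
    exact List.mem_cons.2 (hi.imp Eq.symm ih))

theorem ck1 : (∀ i < 67, i ≠ 20 → eqv [i, i] [] = true) ∧ eqv [21] [] = false ∧ gr [0, 2, 3, 4, 5, 7, 9, 10, 13] = mC ∧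
    (∀ i ∈ [0, 2, 3, 4, 5, 7, 9, 10, 13], eqv [i, 21] [21, i] = true) ∧ eqv [16, 21] [21, 16] = false ∧
    eqv [20, 20, 20] [] = true ∧ eqv [20] [] = false ∧ ∀ i < 20, ∀ j < 20,
      eqv [22 + i, 22 + j] (if i = 19 - j then [22 + j, 22 + i, 21] else [22 + j, 22 + i]) = true := by decide +kernel

theorem ck2 : tabOK (mm 20) (mo 20) (fun _ => true) T20 67 = true ∧ mC < 2 ^ 67 ∧
    (∀ p ∈ SW, inM mC p.2 = true → mC.testBit p.1 = true ∧ e20 p.2 = nth (mo 20) T20 (2 * p.1 + 1)) ∧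
    ∀ i ∈ [0, 2, 3, 4, 5, 7, 9, 10, 13], ∀ j < 20, ∃ y ∈ [[], [43]], eqw [2 * i + 2, 2 * (22 + j) + 1, 2 * i + 1]
      (lapp (chW (fun i => 22 + i) 20 (fld 20 (nth (mo 20) T20 (2 * i + 1)) j)) y) = true := by decide +kernel

theorem ck3 : (∀ i < 9, ∀ j < 9, ∃ y ∈ [[], [22]], eqv [42 + j, 42 + i] (lapp [42 + i, 42 + j] y) = true) ∧
    allFrom (fun c => Nat.beq c 0 || !Nat.beq (ma c % 2 ^ 360) (mo 20 % 2 ^ 360)) 0 512 = true ∧
    (∀ i < 6, ∀ j < 9, eqw [2 * (51 + i) + 2, 2 * (42 + j) + 1, 2 * (51 + i) + 1]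
      (chW (fun i => 42 + i) 9 (fld 9 (nth 0 T9 i) j)) = true) ∧
    (∀ c < 64, chiC (mm 9) (mo 9) (nth 0 T9) 6 c = mc c) ∧ (∀ c < 64, ∀ d < 64, mc c = mc d → c = d) ∧
    ∀ i < 57, 21 ≤ i → (gr [0, 2, 4, 5, 10, 11]).testBit i = true ∧ (gr [0, 2, 4, 10, 20]).testBit i = true ∧
      mC.testBit i = true := by decide +kernel

variable {E : Type*} [Group E] [Finite E] {f : ℕ → E} {T : BNPair E} {U Q A : Subgroup E} {ν μ : E → ℕ}

namespace Bn
variable (B : Bn f T U)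
include B

theorem sw : ∀ p ∈ SW, f p.1 = ev f p.2 := fun p hp => by rw [← ev_single f, (B.eq _ _).2 (swOK p hp).2]

theorem gl {K : Subgroup E} {l : List ℕ} (h : ∀ i ∈ l, f i ∈ K) : ∀ i, (gr l).testBit i = true → f i ∈ K :=
  gr_ind (R := fun i => f i ∈ K) (fun p hp k => B.sw p hp ▸ ev_mem' k) h

theorem pv {u w : List ℕ} : (u.map f).prod = (w.map f).prod ↔ eqv u w = true := by
  have : ∀ u : List ℕ, ev f (lmap (fun i => 2 * i + 1) u) = (u.map f).prod := fun u => by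
    simp [lmap_eq, Comp.ev, Function.comp_def, evL_odd]
  rw [← this, ← this]; exact B.eq _ _

theorem com {i j : ℕ} : f i * f j = f j * f i ↔ eqv [i, j] [j, i] = true := by simp [← B.pv]

theorem sq {i : ℕ} (h : i < 67) (k : i ≠ 20) : f i * f i = 1 := by simpa using B.pv.2 (ck1.1 i h k)

theorem inv' {i : ℕ} (h : i < 67) (k : i ≠ 20) : (f i)⁻¹ = f i := inv_eq_of_mul_eq_one_left (B.sq h k)

theorem oz : orderOf (f 21) = 2 :=
  orderOf_eq_two' (B.sq (by decide) (by decide)) (by simpa [ck1.2.1] using B.pv (u := [21]) (w := []))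

theorem mz {x : E} : x ∈ zpowers (f 21) ↔ x = 1 ∨ x = f 21 := mem_zpowers_invol B.oz

theorem cz {i : ℕ} (h : mC.testBit i = true) : f i ∈ 𝐂₁(f 21) :=
  B.gl (fun i hi => mem_c1.2 (B.com.2 (ck1.2.2.2.1 i hi))) i (ck1.2.2.1 ▸ h)

theorem cz' {i : ℕ} (h : i < 57) (k : 21 ≤ i) : f i ∈ 𝐂₁(f 21) := B.cz (ck3.2.2.2.2.2 i h k).2.2

theorem nz {x : E} (h : x ∈ 𝐂₁(f 21)) : x ∈ 𝐍(zpowers (f 21)) :=
  centralizer_le_normalizer _ (centralizer_zpowers (f 21) ▸ h)

theorem qc {j : ℕ} (hj : j < 20) (c : ℕ) : chi (fun i => f (22 + i)) 20 c * f (22 + j) = f (22 + j) *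
    chi (fun i => f (22 + i)) 20 c * if 19 - j < 20 ∧ c.testBit (19 - j) = true then f 21 else 1 :=
  chi_comm (fun i hi => mem_c1.1 (B.cz' (by omega) (by omega))) (fun i hi => by
    have := B.pv.2 (ck1.2.2.2.2.2.2.2 i hi j hj)
    split_ifs at this ⊢ <;> simpa [mul_assoc] using this) c

theorem qc' {j : ℕ} (hj : j < 20) (c : ℕ) : chi (fun i => f (22 + i)) 20 c * f (22 + j) = f (22 + j) *
    chi (fun i => f (22 + i)) 20 c ↔ c.testBit (19 - j) = false := by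
  have : f 21 ≠ 1 := fun e => by simpa [e] using B.oz
  rw [B.qc hj]; cases c.testBit (19 - j) <;> simp [this, show 19 - j < 20 by omega]

theorem par_le {X Y : Subgroup E} (hX : T.B ≤ X) (hY : T.B ≤ Y) (h : ∀ k < 4, f (16 + k) ∈ X → f (16 + k) ∈ Y) :
    X ≤ Y := (eq_parW_of_le hX).le.trans (parW_le hY fun i hi => by
  obtain ⟨k, hk, -, e⟩ := B.cs i
  exact mem_of_wt_eq hY ((wt_s i).trans e.symm) (h k hk (mem_of_wt_eq hX (e.trans (wt_s i).symm) hi)))

end Bn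

theorem eq_zero_of_bits {c : ℕ} (hc : c < 2 ^ 20) {k : ℕ} (h : ∀ j < 20 - k, c.testBit (19 - j) = false) : c < 2 ^ k :=
  Nat.lt_pow_two_of_testBit c fun i hi => by
    by_cases l : i < 20
    · simpa [show 19 - (19 - i) = i by omega] using h (19 - i) (by omega)
    · exact Nat.testBit_lt_two_pow (hc.trans_le (Nat.pow_le_pow_right two_pos (by omega)))

/-- coordinates on the extraspecial group -/
structure Mq (f : ℕ → E) (T : BNPair E) (U Q : Subgroup E) (ν : E → ℕ) : Prop extends Bn f T U where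
  cq : Co 20 Q (zpowers (f 21)) ν
  uq : ∀ c < 2 ^ 20, chi (fun i => f (22 + i)) 20 c ∈ Q ∧ ν (chi (fun i => f (22 + i)) 20 c) = c

theorem Bn.exists_mq (B : Bn f T U) : ∃ Q ν, Mq f T U Q ν := by
  obtain ⟨Q, ν, a, b⟩ := exists_coZ (Z := zpowers (f 21)) (g := fun i => f (22 + i)) (n := 20) (by decide)
    (fun i hi => B.nz (B.cz' (by omega) (by omega))) (fun i hi => by rw [B.sq (by omega) (by omega)]; exact one_mem _)
    (fun i hi j hj => by
      have := B.qc hi (2 ^ j)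
      rw [chi_pow _ hj] at this
      rw [this, inv_mul_cancel_left]
      split_ifs
      exacts [mem_zpowers _, one_mem _]) fun c hc h => Nat.lt_one_iff.1 (eq_zero_of_bits (k := 0) hc fun j hj =>
        (B.qc' hj c).1 (mem_c1.1 (zpowers_le.2 (mem_c1.2 (mem_c1.1 (B.cz' (by omega) (by omega))).symm) h)))
  exact ⟨Q, ν, B, a, b⟩

namespace Mq
variable (M : Mq f T U Q ν)
include M

theorem q {i : ℕ} (hi : i < 20) : f (22 + i) ∈ Q ∧ ν (f (22 + i)) = 2 ^ i := gen_nu M.cq M.uq hi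

theorem zQ : f 21 ∈ Q := M.cq.le (mem_zpowers _)

theorem QC : Q ≤ 𝐂₁(f 21) :=
  top_le M.cq M.uq (zpowers_le.2 (mem_c1.2 rfl)) fun _ hi => M.cz' (by omega) (by omega)

theorem comm {x : E} (hx : x ∈ Q) {j : ℕ} (hj : j < 20) :
    x * f (22 + j) = f (22 + j) * x ↔ (ν x).testBit (19 - j) = false := by
  have a := M.uq _ (M.cq.lt x hx)
  have z : zpowers (f 21) ≤ 𝐂₁(f (22 + j)) := zpowers_le.2 (mem_c1.2 (mem_c1.1 (M.QC (M.q hj).1)).symm)
  rw [← M.qc' hj, ← mem_c1, ← mem_c1]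
  exact ⟨mem_of_nu M.cq z hx a.1 a.2.symm, mem_of_nu M.cq z a.1 hx a.2⟩

theorem lt_of_comm {x : E} (hx : x ∈ Q) {k : ℕ} (h : ∀ j < 20 - k, x * f (22 + j) = f (22 + j) * x) : ν x < 2 ^ k :=
  eq_zero_of_bits (M.cq.lt x hx) fun j hj => (M.comm hx (by omega)).1 (h j hj)

theorem ex : EX Q (f 21) :=
  have c : ∀ x ∈ Q, x ∈ 𝐂(Q) → x = 1 ∨ x = f 21 := fun x hx c => M.mz.1 ((M.cq.ker x hx).1 (Nat.lt_one_iff.1
    (M.lt_of_comm (k := 0) hx fun _ hj => (c _ (M.q hj).1).symm)))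
  ⟨⟨M.zQ, M.oz, fun _ hx => mem_c1.1 (M.QC hx), fun _ hx => M.mz.1 (sq_mem M.cq hx), fun x a b _ => c x a b⟩, c,
    fun e => absurd ((M.cq.ker _ (M.q (i := 0) (by decide)).1).2 (e (M.q (i := 0) (by decide)).1))
      (by rw [(M.q (i := 0) (by decide)).2]; decide)⟩

theorem cQ : Nat.card Q = 2 ^ 21 := by rw [M.cq.card, Nat.card_zpowers, M.oz]; rfl

theorem acw' {w : List ℕ} (h : ∀ x ∈ w, mC.testBit ((x - 1) / 2) = true ∧
    Ac 20 Q ν (f ((x - 1) / 2)) (nth (mo 20) T20 (2 * ((x - 1) / 2) + 1))) : Ac 20 Q ν (ev f w) (e20 w) :=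
  M.cq.cd.evM (let_of_tab ck2.1) fun x hx => ⟨lt_of_not_ge fun l => by
    simpa [Nat.testBit_lt_two_pow (ck2.2.1.trans_le (Nat.pow_le_pow_right two_pos l))] using (h x hx).1, (h x hx).2⟩

theorem ac (i : ℕ) (h : mC.testBit i = true) : Ac 20 Q ν (f i) (nth (mo 20) T20 (2 * i + 1)) :=
  (gr_ind (R := fun i => mC.testBit i = true ∧ Ac 20 Q ν (f i) (nth (mo 20) T20 (2 * i + 1))) (fun p hp k =>
    have := ck2.2.2.1 p hp (inM_iff.2 fun x hx => (k x hx).1)
    ⟨this.1, by rw [M.sw p hp, ← this.2]; exact M.acw' k⟩) (fun i hi => ⟨by revert i; decide +kernel,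
      ac_of' M.cq M.uq (M.nz (mem_c1.2 (M.com.2 (ck1.2.2.2.1 i hi)))) fun j hj => by
      obtain ⟨y, h1, h2⟩ := ck2.2.2.2 i hi j hj
      refine ⟨ev f y, ?_, by simpa [ev_lapp, ev_chW, evL_odd, evL_even, mul_assoc] using (M.eq _ _).2 h2⟩
      simp only [List.mem_cons, List.not_mem_nil, or_false] at h1
      rcases h1 with rfl | rfl
      exacts [one_mem _, (ev_single f 21).symm ▸ mem_zpowers _]⟩) i (ck1.2.2.1 ▸ h)).2

theorem acw {w : List ℕ} (h : inM mC w = true) : Ac 20 Q ν (ev f w) (e20 w) :=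
  M.acw' fun x hx => ⟨inM_iff.1 h x hx, M.ac _ (inM_iff.1 h x hx)⟩

theorem aca (c : ℕ) : Ac 20 Q ν (chi (fun i => f (42 + i)) 9 c) (ma c) := ev_chW f _ 9 c ▸ M.acw (inM_iff.2 (by
  have : ∀ n ≤ 9, ∀ x ∈ chW (fun i => 42 + i) n c, mC.testBit ((x - 1) / 2) = true := fun n hn => by
    induction n with
    | zero => exact fun _ h => nomatch h
    | succ n ih =>
      have e : chW (fun i => 42 + i) (n + 1) c = Bool.rec _ (lapp (chW _ n c) [2 * (42 + n) + 1]) (tb c n) := rfl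
      rw [e]; cases tb c n
      · exact ih (by omega)
      · simpa [lapp_eq, or_imp, forall_and] using ⟨ih (by omega), (ck3.2.2.2.2.2 _ (by omega) (by omega)).2.2⟩
  exact this 9 le_rfl))

theorem ma0 {c x : ℕ} (hc : c < 2 ^ 9) (h : Ac 20 Q ν (chi (fun i => f (42 + i)) 9 c) x)
    (e : ∀ i < 18, vm 20 (2 ^ i) x = 2 ^ i) : c = 0 := by
  have := allFrom_zero.1 ck3.2.1 c hc
  simp only [Bool.or_eq_true, beq_iff, Bool.not_eq_true', ← Bool.not_eq_true] at this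
  refine this.resolve_right (not_not.2 (eq_of_fld (n := 20) (m := 18) (by decide) (Nat.mod_lt _ (by positivity))
    (Nat.mod_lt _ (by positivity)) fun i hi => ?_))
  have k : ∀ y, fld 20 (y % 2 ^ 360) i = vm 20 (2 ^ i) y := fun y => by
    rw [vm_pow (by omega)]
    exact Nat.eq_of_testBit_eq fun j => by
      simp only [testBit_fld, Nat.testBit_mod_two_pow]
      by_cases l : j < 20 <;> simp [l, show j < 20 → 20 * i + j < 360 by omega]
  have l : 2 ^ i < 2 ^ 20 := Nat.pow_lt_pow_right one_lt_two (by omega)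
  rw [k, k, vm_mo (by decide) l, M.cq.uniq (M.aca c) h l, e i hi]

end Mq

/-- coordinates on the next section -/
structure Mo (f : ℕ → E) (T : BNPair E) (U Q A : Subgroup E) (ν μ : E → ℕ) : Prop extends Mq f T U Q ν where
  ca : Co 9 A Q μ
  ua : ∀ c < 2 ^ 9, chi (fun i => f (42 + i)) 9 c ∈ A ∧ μ (chi (fun i => f (42 + i)) 9 c) = c

theorem Mq.exists_mo (M : Mq f T U Q ν) : ∃ A μ, Mo f T U Q A ν μ := by
  obtain ⟨A, μ, a, b⟩ := exists_coZ (Z := Q) (g := fun i => f (42 + i)) (n := 9) (by decide)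
    (fun i hi => (M.ac _ (ck3.2.2.2.2.2 _ (by omega) (by omega)).2.2).1)
    (fun i hi => by rw [M.sq (by omega) (by omega)]; exact one_mem _)
    (fun i hi j hj => by
      obtain ⟨y, h1, h2⟩ := ck3.1 i hi j hj
      have := M.pv.2 h2
      simp only [List.mem_cons, List.not_mem_nil, or_false] at h1
      rcases h1 with rfl | rfl <;> simp [lapp_eq, ← mul_assoc] at this <;> rw [this]
      exacts [by simp, by rw [inv_mul_cancel_left]; exact (M.q (i := 0) (by decide)).1])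
    fun c hc h => M.ma0 hc (M.cq.ac_self h) fun i hi => vm_mo (by decide) (Nat.pow_lt_pow_right one_lt_two (by omega))
  exact ⟨A, μ, M, a, b⟩

namespace Mo
variable (M : Mo f T U Q A ν μ)
include M

theorem a {i : ℕ} (hi : i < 9) : f (42 + i) ∈ A ∧ μ (f (42 + i)) = 2 ^ i := gen_nu M.ca M.ua hi

theorem act (c : ℕ) (hc : c < 64) : Ac 9 A μ (chi (fun i => f (51 + i)) 6 c) (mc c) :=
  ck3.2.2.2.1 c hc ▸ M.ca.cd.chi (fun i hi => ac_of' M.ca M.ua (M.ac _ (ck3.2.2.2.2.2 _ (by omega) (by omega)).2.2).1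
    fun j hj => ⟨1, one_mem _, by simpa [ev_chW, evL_odd, evL_even, mul_assoc] using (M.eq _ _).2 (ck3.2.2.1 i hi j hj)⟩) c

theorem act' {c : ℕ} (hc : c < 64) {a : E} (ha : a ∈ A) : Ac 9 A μ (chi (fun i => f (51 + i)) 6 c * a) (mc c) := by
  simpa only [mm_mo (n := 9) (by decide) (fld_lt 81 M9P c), mc] using M.ca.cd.mul' (M.act c hc) (M.ca.ac_self ha)

theorem cA : Nat.card A = 2 ^ 30 := by rw [M.ca.card, M.cQ]; rfl

theorem A_le {K : Subgroup E} (h : ∀ i < 57, 21 ≤ i → f i ∈ K) : A ≤ K :=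
  top_le M.ca M.ua (top_le M.cq M.uq (zpowers_le.2 (h _ (by decide) le_rfl)) fun _ _ => h _ (by omega) (by omega))
    fun _ _ => h _ (by omega) (by omega)

theorem U_dec {u : E} (hu : u ∈ U) : ∃ c < 64, ∃ a ∈ A, chi (fun i => f (51 + i)) 6 c * a = u := by
  have h : ∀ i < 57, 21 ≤ i → f i ∈ U := fun i a b => M.gl M.uU i (ck3.2.2.2.2.2 i a b).1
  let g : Fin 64 × A → U := fun p => ⟨chi (fun i => f (51 + i)) 6 p.1 * p.2,
    mul_mem (chi_mem (fun _ _ => h _ (by omega) (by omega)) _) (M.A_le h p.2.2)⟩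
  obtain ⟨p, e⟩ := ((Nat.bijective_iff_injective_and_card g).2 ⟨fun p r e => by
    replace e : chi (fun i => f (51 + i)) 6 p.1 * p.2 = chi (fun i => f (51 + i)) 6 r.1 * r.2 := congrArg Subtype.val e
    have := Fin.ext (ck3.2.2.2.2.1 _ p.1.2 _ r.1.2 (M.ca.uniq' (M.act' p.1.2 p.2.2) (e ▸ M.act' r.1.2 r.2.2 :)
      (fld_lt 81 _ _) (fld_lt 81 _ _)))
    exact Prod.ext this (Subtype.ext (mul_left_cancel (this ▸ e :))), by
      rw [Nat.card_prod, M.cA, M.cU, Nat.card_fin]; rfl⟩).2 ⟨u, hu⟩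
  exact ⟨_, p.1.2, _, p.2.2, congrArg Subtype.val e⟩

theorem U_le' {K : Subgroup E} (h : ∀ i < 57, 21 ≤ i → f i ∈ K) : U ≤ K := fun u hu => by
  obtain ⟨c, -, a, ha, rfl⟩ := M.U_dec hu
  exact mul_mem (chi_mem (fun _ _ => h _ (by omega) (by omega)) _) (M.A_le h ha)

theorem B_le {K : Subgroup E} (h : ∀ i ∈ [0, 2, 4, 10, 20], f i ∈ K) : T.B ≤ K := by
  have a : U ≤ T.B ⊓ K := le_inf M.UB (M.U_le' fun i a b => M.gl h i (ck3.2.2.2.2.2 i a b).2.1)
  have o : orderOf (f 20) = 3 := orderOf_eq_prime (by simpa [pow_succ, mul_assoc] using M.pv.2 ck1.2.2.2.2.2.1)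
    (by simpa [ck1.2.2.2.2.2.2.1] using M.pv (u := [20]) (w := []))
  have b := card_dvd_of_le a
  have c := (T.B ⊓ K).orderOf_dvd_natCard ⟨M.hB, h 20 (by simp)⟩
  rw [M.cU] at b
  exact inf_eq_left.1 (eq_of_le_of_card_ge inf_le_left (M.cB ▸ Nat.le_of_dvd Nat.card_pos
    (Nat.Coprime.mul_dvd_of_dvd_of_dvd (by norm_num) b (o ▸ c))))

theorem BC : T.B ≤ 𝐂₁(f 21) := M.B_le fun _ hi => M.cz (by revert hi; decide +kernel +revert)

theorem r2 : f 16 ∉ 𝐂₁(f 21) := fun c => by simpa [ck1.2.2.2.2.1] using M.com.1 (mem_c1.1 c)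

theorem C_le {K : Subgroup E} (h : T.B ≤ K) (k : ∀ i ∈ [17, 18, 19], f i ∈ K) : 𝐂₁(f 21) ≤ K :=
  M.par_le M.BC h fun i hi c => k _ (by
    obtain rfl | e := eq_or_ne i 0
    · exact absurd c M.r2
    · clear c; revert i; decide)

theorem n0 : 𝐂₁(f 21) ≤ 𝐍(Q) :=
  M.C_le (M.B_le fun i hi => (M.ac i (by revert i; decide +kernel)).1) fun i hi => (M.ac i (by revert i; decide +kernel)).1

theorem cC : Nat.card 𝐂₁(f 21) ≤ 2 ^ 21 * 9196830720 := by
  obtain ⟨X, a, b, c⟩ := M.x1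
  exact c ▸ card_le_of_le (M.C_le a b)

theorem syl {L : Subgroup E} (h : U ≤ L) : IsSyl 2 U L :=
  isSyl_of_not_dvd_relIndex (IsPGroup.of_card M.cU) h fun c => M.ix (c.trans (relIndex_dvd_index_of_le h))

end Mo

end CF.E62
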