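import Cfsg.Agent.E62.M1

/-! The first list of properties of the model. -/

set_option autoImplicit false
set_option linter.unusedSectionVars false
set_option maxRecDepth 100000

namespace CF.E62

open Cfsg Subgroup CF.Loc CF.Even CF.LX CF.J4 CF.Comp CF.Dce CF.BN
open scoped commutatorElement

/-- the letters in the centraliser of the four-group -/
noncomputable def mN : ℕ := nat_lit 0x1fffc00001cfff4

/-- the square of the product is trivial -/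
noncomputable def iv (c d : ℕ) : Bool := Nat.beq (force (mm 9 (mc c) (mc d)) fun y => mm 9 y y) (mo 9)

/-- the fixed vectors -/
noncomputable def fm (c : ℕ) : ℕ := force (mc c) (fixM 9 512)

/-- the number of common fixed vectors -/
noncomputable def pp (c d : ℕ) : ℕ := pop 512 (Nat.land (Nat.land (fm c) (fm d)) (full 512))

theorem ck4 : eqv [16, 21, 16] [22] = true ∧ eqv [0] [41] = true ∧ (∀ i < 10, i ≠ 0 → eqv [16, 22 + i, 16] [22 + i] = true) ∧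
    (∀ i < 9, eqv [16, 22 + (10 + i), 16] [42 + i] = true) ∧ gr [2, 4, 5, 7, 9, 10, 13] = mN ∧
    (∀ i ∈ [2, 4, 5, 7, 9, 10, 13], eqv [i, 21] [21, i] = true ∧ eqv [i, 22] [22, i] = true ∧
      (i = 2 ∨ eqv [i, 0] [0, i] = true) ∧ ∃ p ∈ PF, p.1 = i ∧ eqw [2 * p.1 + 1] (cmW p.2) = true ∧
        ∀ s ∈ p.2, inM mN s.1 = true ∧ inM mN s.2 = true) ∧
    eqv [40, 23, 40, 23] [21] = true ∧ eqv [17, 22, 17] [23] = true ∧ eqv [2] [50] = true ∧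
    (∀ i < 19, (nth (0, []) DT i).1 < 2 ^ 19 ∧ inM mN (nth (0, []) DT i).2 = true ∧ inM mC (nth (0, []) DT i).2 = true ∧
      (i < 10 → ∃ j < 9, (nth (0, []) DT i).2 = [2 * (42 + j) + 1]) ∧
      (nth (0, []) DT i).1 ^^^ vm 20 (nth (0, []) DT i).1 (e20 (nth (0, []) DT i).2) = 2 ^ i) ∧
    eqw (lapp FE [45]) (1 :: FE) = true ∧ inM mC FE = true ∧ eqv [0, 22, 0] [21, 22] = true ∧
    eqv [0, 16, 0, 16, 0] [16] = true ∧
    ∀ i < 4, eqv [17, 51 + i, 17] [42 + (4 + i)] = true ∧ eqv [17, 42 + i, 17] [42 + i] = true := by decide +kernel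

theorem ck5 : (∀ l < 512, ∀ i < 9, vm 9 (2 ^ i &&& l) (repl 9 9) = fld 1 l i) ∧ (∀ i < 9, fld 9 (repl 9 9) i < 2 ^ 1) ∧
    (∀ l < 512, ∃ t ∈ V1, vm 9 (t.1 &&& l) (repl 9 9) = 0 ∧ vm 9 (t.2.1 &&& l) (repl 9 9) = 0 ∧
      vm 9 (t.2.2 &&& l) (repl 9 9) = 0) ∧ ∀ t ∈ V1, t.1 < 512 ∧ t.2.1 < 512 ∧ t.2.2 < 512 ∧
      (force (2 ^ 19 ^^^ vm 20 (2 ^ 19) (ma t.1)) fun v => force (v ^^^ vm 20 v (ma t.2.1)) fun v =>
        v ^^^ vm 20 v (ma t.2.2)) = 2 ^ 0 := by decide +kernel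

theorem ck6 : ∀ c < 64, c ≠ 0 → iv 0 c = true → pp c c ≤ 32 ∧ (16 ≤ c →
    llen (lfil (fun d => iv 0 d && iv c d) (List.range 64)) ≤ 16 ∧
    llen (lfil (fun d => iv 0 d && iv c d && Nat.ble 9 (pp c d)) (List.range 64)) ≤ 4) := by decide +kernel

theorem ck7 : ∀ c < 16, c ≠ 0 → (∀ d < 16, d ≠ 0 → d ≠ c → Nat.land (fm c) (fm d) < 2 ^ 16) ∧
    (force (fm c) fun F => force (vm 9 256 (mc c)) fun e => allFrom (fun v =>
      !tb F v || Nat.blt v 16 || Nat.blt (e ^^^ v ^^^ 256) 16) 0 512) = true := by decide +kernel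

variable {E : Type*} [Group E] [Finite E] {f : ℕ → E} {T : BNPair E} {U Q A : Subgroup E} {ν μ : E → ℕ}

theorem Ix.mul_iff {X A : Subgroup E} (h : Ix X A) {x y : E} (hx : x ∈ A) (hy : y ∈ A) :
    x * y ∈ X ↔ (x ∈ X ↔ y ∈ X) := by
  by_cases a : x ∈ X
  · simp [a, mul_mem_cancel_left a]
  by_cases b : y ∈ X
  · simp [a, b, mul_mem_cancel_right b]
  · simp [a, b, h x hx y hy a b]

namespace Mo
variable (M : Mo f T U Q A ν μ)
include M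

theorem cj3 {i j k : ℕ} (h : eqv [i, j, i] [k] = true) (a : i < 67 := by decide) (b : i ≠ 20 := by decide) :
    f i * f j * (f i)⁻¹ = f k := by simpa [M.inv' a b, mul_assoc] using M.pv.2 h

theorem ra : f 16 * f 21 * (f 16)⁻¹ = f 22 := M.cj3 ck4.1

theorem rt : f 16 * f 22 * (f 16)⁻¹ = f 21 := by
  rw [← M.ra, ← mul_assoc, ← mul_assoc, M.sq (by decide) (by decide), mul_assoc, ← mul_inv_rev,
    M.sq (by decide) (by decide)]; group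

theorem q0 : f 22 ∈ Q ∧ ν (f 22) = 2 ^ 0 := M.q (i := 0) (by decide)

theorem q1 : f 23 ∈ Q ∧ ν (f 23) = 2 ^ 1 := M.q (i := 1) (by decide)

theorem FQ : f 0 ∈ Q ∧ ν (f 0) = 2 ^ 19 := by
  rw [show f 0 = f 41 by simpa using M.pv.2 ck4.2.1]; exact M.q (i := 19) (by decide)

theorem Q1 : Q ⊓ 𝐂₁(f 22) = low M.cq 19 := Subgroup.ext fun _ =>
  ⟨fun h => ⟨h.1, M.lt_of_comm h.1 fun _ hj => by rw [Nat.lt_one_iff.1 hj]; exact mem_c1.1 h.2⟩,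
    fun h => ⟨h.1, mem_c1.2 ((M.comm h.1 (j := 0) (by decide)).2 (Nat.testBit_lt_two_pow h.2))⟩⟩

theorem V : V4 (f 21) (f 22) = low M.cq 1 := le_antisymm ((closure_le _).2 (by
  rintro _ (rfl | rfl)
  exacts [le_low _ _ (mem_zpowers _), ⟨M.q0.1, by rw [M.q0.2]; decide⟩]))
  (low_le M.cq M.uq (zpowers_le.2 (subset_closure (by simp))) fun i hi => subset_closure (by simp [Nat.lt_one_iff.1 hi]))

theorem aP {i : ℕ} (hi : i < 9) : f (42 + i) ∈ cj[f 16] Q ⊓ 𝐂₁(f 21) :=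
  ⟨M.cj3 (ck4.2.2.2.1 i hi) ▸ conj_mem_cj _ (M.q (by omega)).1, M.cz' (by omega) (by omega)⟩

theorem Aeq : cj[f 16] Q ⊓ 𝐂₁(f 21) ⊔ Q = A := by
  refine le_antisymm (sup_le ?_ M.ca.le) (top_le M.ca M.ua le_sup_right fun i hi => mem_sup_left (M.aP hi))
  rw [← M.rt, ← cj_centralizer_singleton, ← cj_inf, M.Q1, cj_le_iff]
  refine low_le M.cq M.uq (zpowers_le.2 ?_) fun i hi => ?_ <;> rw [mem_cj, inv_inv]
  · exact M.ra ▸ M.ca.le M.q0.1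
  obtain rfl | e := eq_or_ne i 0
  · exact M.rt ▸ M.ca.le M.zQ
  by_cases l : i < 10
  · rw [M.cj3 (ck4.2.2.1 i l e)]; exact M.ca.le (M.q (by omega)).1
  · obtain ⟨j, rfl⟩ := Nat.exists_eq_add_of_le (not_lt.1 l)
    rw [M.cj3 (ck4.2.2.2.1 j (by omega))]; exact (M.a (by omega)).1

theorem E0 : low M.cq 10 ≤ Q ⊓ cj[f 16] Q := le_inf (fun _ h => h.1) (low_le M.cq M.uq
  (zpowers_le.2 (M.rt ▸ conj_mem_cj _ M.q0.1)) fun i hi => by
    obtain rfl | e := eq_or_ne i 0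
    · exact M.ra ▸ conj_mem_cj _ M.zQ
    · exact M.cj3 (ck4.2.2.1 i hi e) ▸ conj_mem_cj _ (M.q (by omega)).1)

theorem clow {k : ℕ} (h0 : 0 < k) (hk : k ≤ 20) : Nat.card (low M.cq k) = 2 ^ (k + 1) := by
  rw [(co_low M.cq h0 hk).card, Nat.card_zpowers, M.oz, pow_succ]

theorem nN (i : ℕ) (h : mN.testBit i = true) : f i ∈ 𝐂(V4 (f 21) (f 22)) :=
  M.gl (fun i hi => cent_V4 (f 21) (f 22) ▸ ⟨mem_c1.2 (M.com.2 (ck4.2.2.2.2.2.1 i hi).1),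
    mem_c1.2 (M.com.2 (ck4.2.2.2.2.2.1 i hi).2.1)⟩) i (ck4.2.2.2.2.1 ▸ h)

theorem low_cm {R : Subgroup E} {k : ℕ} (hk : k ≤ 19) (hz : f 23 ∈ R) (h : ∀ i < k, ev f (nth (0, []) DT i).2 ∈ R) :
    low M.cq k ≤ ⁅Q ⊓ 𝐂₁(f 22), R⁆ := by
  have z : zpowers (f 21) ≤ ⁅Q ⊓ 𝐂₁(f 22), R⁆ := zpowers_le.2 (by
    have := commutator_mem_commutator (M.Q1.ge ⟨(M.q (i := 18) (by decide)).1, by
      rw [(M.q (i := 18) (by decide)).2]; decide⟩) hz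
    rwa [commutatorElement_def, M.inv' (by decide) (by decide), M.inv' (by decide) (by decide),
      show f 40 * f 23 * f 40 * f 23 = f 21 by simpa [mul_assoc] using M.pv.2 ck4.2.2.2.2.2.2.1] at this)
  refine low_le M.cq M.uq z fun i hi => ?_
  obtain ⟨a, -, b, -, c⟩ := ck4.2.2.2.2.2.2.2.2.2.1 i (by omega)
  obtain ⟨x, hx, e⟩ := M.cq.surj _ (a.trans (by decide))
  have := cm_nu M.cq (M.acw b) hx
  exact mem_of_nu M.cq z this.1 (M.q (by omega)).1 (by rw [this.2, e, c, (M.q (by omega)).2])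
    (commutator_mem_commutator (M.Q1.ge ⟨hx, e ▸ a⟩) (inv_mem (h i hi)))

theorem BM : T.B ≤ 𝐂(V4 (f 21) (f 22)) ⊔ Q := M.B_le fun i hi =>
  (by revert i; decide +kernel : i = 0 ∨ mN.testBit i = true).elim (fun e => e ▸ mem_sup_right M.FQ.1)
    fun e => mem_sup_left (M.nN i e)

theorem MF : 𝐂(V4 (f 21) (f 22)) ⊔ Q ≤ Fx (f 22) (f 21) := sup_le (fun x hx => by
  rw [cent_V4] at hx
  exact mem_Fx.2 ⟨hx.1, by rw [conj_eq_iff.2 (mem_c1.1 hx.2), mul_inv_cancel]; exact one_mem _⟩) (le_Fx M.ex M.q0.1)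

theorem r4 : f 17 ∉ Fx (f 22) (f 21) := fun c => by
  have := (mem_Fx.1 c).2
  rw [M.cj3 ck4.2.2.2.2.2.2.2.1, ← M.cq.ker _ (mul_mem M.q1.1 (inv_mem M.q0.1)), M.cq.mul _ M.q1.1 _ (inv_mem M.q0.1),
    M.cq.inv M.q0.1, M.q1.2, M.q0.2] at this
  cases this

theorem N_le {K : Subgroup E} (h : Q ⊓ 𝐂₁(f 22) ≤ K) (k : ∀ i ∈ [2, 4, 5, 7, 9, 10, 13], f i ∈ K) :
    𝐂(V4 (f 21) (f 22)) ≤ K := fun n hn => by
  have a : ∀ i, mN.testBit i = true → f i ∈ K ⊓ 𝐂(V4 (f 21) (f 22)) ⊔ Q := fun i hi =>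
    mem_sup_left ⟨M.gl k i (ck4.2.2.2.2.1 ▸ hi), M.nN i hi⟩
  have := M.par_le (Y := K ⊓ 𝐂(V4 (f 21) (f 22)) ⊔ Q) M.BM (M.B_le fun i hi =>
    (by revert i; decide +kernel : i = 0 ∨ mN.testBit i = true).elim (fun e => e ▸ mem_sup_right M.FQ.1) (a i))
    (fun j hj c => by
      interval_cases j
      exacts [absurd (mem_Fx.1 (M.MF c)).1 M.r2, absurd (M.MF c) M.r4, a _ (by decide +kernel),
        a _ (by decide +kernel)]) (mem_sup_left hn)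
  obtain ⟨b, hb, q, hq, rfl⟩ := (mem_sup_of_le_normalizer' (inf_le_right.trans
    ((cent_V4 _ _).le.trans (inf_le_left.trans M.n0)))).1 this
  exact mul_mem hb.1 (h ⟨hq, ((cent_V4 _ _).le ((Subgroup.mul_mem_cancel_left _ hb.2).1 hn)).2⟩)

theorem UC : U ≤ 𝐂₁(f 21) := M.UB.trans M.BC

theorem v1 {X : Subgroup E} (h : Q ≤ X) (ix : Ix X A) :
    ∃ x ∈ X, ∃ y ∈ X, ∃ w ∈ X, ⁅⁅⁅f 0, x⁆, y⁆, w⁆ = f 22 ∨ ⁅⁅⁅f 0, x⁆, y⁆, w⁆ = f 21 * f 22 := by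
  classical
  let g : ℕ → ℕ := fun i => if f (42 + i) ∈ X then 0 else 1
  have hg : ∀ i < 9, g i < 2 ^ 1 := fun i _ => by simp only [g]; split_ifs <;> decide
  have l : pk 1 9 g < 512 := pk_lt one_pos hg
  have k := xor_ind (n := 9) (P := fun d => chi (fun i => f (42 + i)) 9 d ∈ X ↔ vm 9 (d &&& pk 1 9 g) (repl 9 9) = 0)
    (by simp [chi_zero, vm_zero]) (fun i hi => by simp [chi_pow _ hi, ck5.1 _ l i hi, fld_pk one_pos hg hi, g])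
    fun a ha b hb k1 k2 => by
      have u := M.ua a ha
      have v := M.ua b hb
      have w := M.ua _ (Nat.xor_lt_two_pow ha hb)
      have e := M.ca.mul _ u.1 _ v.1
      rw [u.2, v.2, ← w.2] at e
      have s : ∀ d, vm 9 (d &&& pk 1 9 g) (repl 9 9) < 2 ^ 1 := fun d =>
        vm_rows le_rfl ck5.2.1 (Nat.and_lt_two_pow (n := 9) d l)
      rw [show _ ↔ _ from ⟨mem_of_nu M.ca h w.1 (mul_mem u.1 v.1) e.symm, mem_of_nu M.ca h (mul_mem u.1 v.1) w.1 e⟩,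
        ix.mul_iff u.1 v.1, k1, k2, Nat.and_xor_distrib_right, vm_xor, Nat.xor_eq_zero_iff]
      have := s a
      have := s b
      omega
  obtain ⟨t, ht, a, b, c⟩ := ck5.2.2.1 _ l
  obtain ⟨l1, l2, l3, e⟩ := ck5.2.2.2 t ht
  have c1 := cm_nu M.cq (M.aca t.1) M.FQ.1
  have c2 := cm_nu M.cq (M.aca t.2.1) c1.1
  have c3 := cm_nu M.cq (M.aca t.2.2) c2.1
  rw [force_eq, force_eq, ← M.FQ.2, ← c1.2, ← c2.2, ← c3.2, ← M.q0.2, eq_comm, M.cq.eq_iff M.q0.1 c3.1, M.mz,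
    inv_mul_eq_iff_eq_mul, inv_mul_eq_iff_eq_mul, mul_one, mem_c1.1 (M.QC M.q0.1)] at e
  exact ⟨_, inv_mem ((k _ l1).2 a), _, inv_mem ((k _ l2).2 b), _, inv_mem ((k _ l3).2 c), e⟩

theorem cardA {X : Subgroup E} {c d : ℕ} (h : ∀ a ∈ X ⊓ A, (fm c).testBit (μ a) = true ∧ (fm d).testBit (μ a) = true) :
    Nat.card ↥(X ⊓ A) ≤ pp c d * 2 ^ 21 := by
  have := card_le_rel (A := X ⊓ A) (Z := Q) (r := fun g x => μ g = x) (fun g hg k hk x a b =>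
    (M.ca.eq_iff hg.2 hk.2).1 (a.trans b.symm)) (L := (Set.toFinite (μ '' (X ⊓ A : Subgroup E))).toFinset.toList)
    fun g hg => ⟨_, Finset.mem_toList.2 ((Set.Finite.mem_toFinset _).2 ⟨g, hg, rfl⟩), rfl⟩
  rw [Finset.length_toList, ← Set.ncard_eq_toFinset_card _ (Set.toFinite _)] at this
  refine this.trans (Nat.mul_le_mul (ncard_le_pop (by decide) ?_) (M.cQ ▸ card_le_of_le inf_le_right))
  rintro _ ⟨a, ha, rfl⟩
  exact ⟨M.ca.lt a ha.2, (Nat.testBit_and _ _ _).trans (by rw [(h a ha).1, (h a ha).2]; rfl)⟩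

theorem fix {x a : E} {c : ℕ} (hx : Ac 9 A μ x (mc c)) (ha : a ∈ A) (h : x⁻¹ * a * x * a ∈ Q) :
    (fm c).testBit (μ a) = true := by
  have k := norm_mem hx.1 ha
  rw [← M.ca.ker _ (mul_mem k ha), M.ca.mul _ k _ ha, hx.2 a ha, Nat.xor_eq_zero_iff] at h
  rw [fm, force_eq]; exact fixM_of (M.ca.lt a ha) h

theorem j8' {X : Subgroup E} (hU : X ≤ U) (sq : ∀ x ∈ X, x * x ∈ Q) (cX : 2 ^ 29 ≤ Nat.card X) :
    ∃ c ∈ 𝐂₁(f 21), cj[c] X ≤ A := by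
  let r : E → ℕ → Prop := fun x c => c < 64 ∧ ∃ a ∈ A, chi (fun i => f (51 + i)) 6 c * a = x
  have hr : ∀ x ∈ X, ∃ c, r x c := fun x hx => M.U_dec (hU hx)
  have ac : ∀ {x c}, r x c → Ac 9 A μ x (mc c) := fun ⟨l, a, ha, e⟩ => e ▸ M.act' l ha
  have cnt : ∀ {L : List ℕ} {c d m n}, (∀ x ∈ X, ∀ c, r x c → c ∈ L) → (∀ a ∈ X ⊓ A, (fm c).testBit (μ a) = true ∧
      (fm d).testBit (μ a) = true) → llen L ≤ m → pp c d ≤ n → m * n ≤ 128 → False := fun {L c d m n} h1 h2 h3 h4 h5 => by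
    have := card_le_rel (A := X) (Z := A) (r := r) (L := L) (by
      rintro _ - _ - c ⟨-, a, ha, rfl⟩ ⟨-, b, hb, rfl⟩
      simpa using mul_mem (inv_mem ha) hb) fun x hx => (hr x hx).imp fun c k => ⟨h1 x hx c k, k⟩
    have := (this.trans (Nat.mul_le_mul (llen_eq L ▸ h3) ((M.cardA h2).trans (Nat.mul_le_mul_right _ h4)))).trans
      ((mul_assoc _ _ _).ge.trans (Nat.mul_le_mul_right _ h5))
    omega
  have i2 : ∀ {x y c d}, x ∈ X → y ∈ X → r x c → r y d → iv c d = true := fun hx hy a b => beq_iff.2 (by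
    rw [force_eq]
    exact M.ca.uniq' (M.ca.cd.mul' (M.ca.cd.mul' (ac a) (ac b)) (M.ca.cd.mul' (ac a) (ac b)))
      (M.ca.ac_self (M.ca.le (sq _ (mul_mem hx hy)))) (mm_lt (by decide) _ _) (mo_lt (by decide)))
  have i1 : ∀ {y d}, y ∈ X → r y d → iv 0 d = true := fun hy => i2 (one_mem _) hy ⟨by decide, 1, one_mem _, by
    rw [chi_zero, mul_one]⟩
  have fx : ∀ {x c}, x ∈ X → r x c → ∀ a ∈ X ⊓ A, (fm c).testBit (μ a) = true := fun {x c} hx k a ha =>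
    M.fix (ac k) ha.2 (by
      rw [show x⁻¹ * a * x * a = (x * x)⁻¹ * (x * a * (x * a)) by group]
      exact mul_mem (inv_mem (sq x hx)) (sq _ (mul_mem hx ha.1)))
  have z : ∀ {x}, r x 0 → x ∈ A := fun ⟨_, a, ha, e⟩ => by rwa [← e, chi_zero, one_mul]
  by_cases h0 : ∀ x ∈ X, ∀ c, r x c → c = 0
  · exact ⟨1, one_mem _, (cj_one X).le.trans fun x hx => (hr x hx).elim fun c k => z (h0 x hx c k ▸ k)⟩
  by_cases h1 : ∃ x ∈ X, ∃ c, r x c ∧ 16 ≤ c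
  · obtain ⟨x, hx, c, k, l⟩ := h1
    obtain ⟨a, b⟩ := ck6 c k.1 (by omega) (i1 hx k)
    by_cases h2 : ∀ y ∈ X, ∀ d, r y d → 9 ≤ pp c d
    · exact (cnt (fun y hy d e => mem_lfil (List.mem_range.2 e.1) (by
        rw [i1 hy e, i2 hx hy k e, ble_iff.2 (h2 y hy d e)]; rfl)) (fun a ha => ⟨fx hx k a ha, fx hx k a ha⟩) (b l).2 a
        (by decide)).elim
    · push Not at h2
      obtain ⟨y, hy, d, e, m⟩ := h2
      exact (cnt (fun y hy d e => mem_lfil (List.mem_range.2 e.1) (by rw [i1 hy e, i2 hx hy k e]; rfl))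
        (fun a ha => ⟨fx hx k a ha, fx hy e a ha⟩) (b l).1 (Nat.le_of_lt_succ m) (by decide)).elim
  push Not at h0 h1
  obtain ⟨x, hx, c, k, l⟩ := h0
  by_cases h2 : ∀ y ∈ X, ∀ d, r y d → d ∈ [0, c]
  · exact (cnt (m := 2) h2 (fun a ha => ⟨fx hx k a ha, fx hx k a ha⟩) le_rfl (ck6 c k.1 l (i1 hx k)).1 (by decide)).elim
  simp only [List.mem_cons, List.not_mem_nil, or_false, not_forall, not_or] at h2
  obtain ⟨y, hy, d, e, m, n⟩ := h2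
  have s4 : f 17 ∈ 𝐂₁(f 21) := M.cz (by decide +kernel)
  have i4 := M.inv' (i := 17) (by decide) (by decide)
  have lo : low M.ca 4 ≤ cj[f 17] A := low_le M.ca M.ua ((cj_eq_self (M.n0 s4)).ge.trans (cj_mono _ M.ca.le))
    fun i hi => M.cj3 (ck4.2.2.2.2.2.2.2.2.2.2.2.2.2.2 i hi).2 ▸ conj_mem_cj _ (M.a (by omega)).1
  have a8 := M.a (i := 8) (by decide)
  rcases le_or_le (X := X) (A := cj[f 17] A) (B := cj[f 50 * f 17] A) fun w hw => by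
    obtain ⟨b, hb⟩ := hr w hw
    obtain rfl | b0 := eq_or_ne b 0
    · refine .inl (lo ⟨z hb, lt_of_not_ge fun s => ?_⟩)
      have := Nat.testBit_lt_two_pow (((ck7 c (h1 x hx c k) l).1 d (h1 y hy d e) m n).trans_le
        (Nat.pow_le_pow_right two_pos s))
      rw [show Nat.land _ _ = _ &&& _ from rfl, Nat.testBit_and, fx hx k w ⟨hw, z hb⟩, fx hy e w ⟨hw, z hb⟩] at this
      cases this
    obtain ⟨b1, a, ha, rfl⟩ := id hb
    have t : chi (fun i => f (51 + i)) 6 b ∈ cj[f 17] A := chi_lt (k := 4) (h1 _ hw b hb) fun i hi => by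
      have := M.cj3 (ck4.2.2.2.2.2.2.2.2.2.2.2.2.2.2 i hi).1
      rw [mem_cj, i4, ← show _ * (f 17)⁻¹ = _ * f 17 from congrArg _ i4, this]; exact (M.a (by omega)).1
    have ab := M.act b b1
    generalize chi (fun i => f (51 + i)) 6 b = τ at *
    have tt : τ * τ ∈ Q := by
      have := norm_mem' (M.n0 s4) (sq_mem M.ca (mem_cj.1 t))
      rwa [show f 17 * ((f 17)⁻¹ * τ * f 17 * ((f 17)⁻¹ * τ * f 17)) * (f 17)⁻¹ = τ * τ by group] at this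
    have := allFrom_zero.1 (force_eq _ _ ▸ force_eq _ _ ▸ (ck7 b (h1 _ hw b hb) b0).2 :) _ (M.ca.lt a ha)
    rw [tb_eq, M.fix ab ha (by
      rw [show τ⁻¹ * a * τ * a = (τ * τ)⁻¹ * (τ * a * (τ * a)) by group]; exact mul_mem (inv_mem tt) (sq _ hw))] at this
    refine (by simpa [Nat.blt_eq] using this : _ ∨ _).imp (fun c => mul_mem t (lo ⟨ha, c⟩)) fun c => ?_
    have u := norm_mem ab.1 (inv_mem a8.1)
    rw [cj_mul, mem_cj, show (f 50)⁻¹ * (τ * a) * f 50 = τ * (τ⁻¹ * (f 50)⁻¹ * τ * a * f 50) by group]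
    exact mul_mem t (lo ⟨mul_mem (mul_mem u ha) a8.1, by
      rwa [M.ca.mul _ (mul_mem u ha) _ a8.1, M.ca.mul _ u _ ha, ab.2 _ (inv_mem a8.1), M.ca.inv a8.1, a8.2]⟩) with h | h
  exacts [⟨_, inv_mem s4, le_cj_iff.1 h⟩, ⟨_, inv_mem (mul_mem (M.cz' (by decide) (by decide)) s4), le_cj_iff.1 h⟩]

theorem tz : f 22 ≠ f 21 := fun e => by
  simpa [e, (M.cq.ker _ M.zQ).2 (mem_zpowers _)] using M.q0.2

theorem pr (l : LQ Q (f 21)) : Pair Q (cj[f 16] Q) (f 21) (f 22) :=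
  M.ra ▸ l.pair (by rw [M.cQ]; norm_num) (M.ra ▸ M.tz) (M.ra ▸ M.q0.1)

theorem E1 (l : LQ Q (f 21)) : low M.cq 10 = Q ⊓ cj[f 16] Q :=
  eq_of_le_of_card_ge M.E0 ((cardE (M.pr l) M.cQ).trans_eq (M.clow (by decide) (by decide)).symm)

theorem Q1N : Q ⊓ 𝐂₁(f 22) ≤ 𝐂(V4 (f 21) (f 22)) := cent_V4 (f 21) (f 22) ▸ inf_le_inf_right _ M.QC

theorem dd : Q ⊓ 𝐂₁(f 22) ≤ ⁅Q ⊓ 𝐂₁(f 22), 𝐂(V4 (f 21) (f 22))⁆ :=
  M.Q1.le.trans (M.low_cm le_rfl (M.Q1N (M.Q1.ge ⟨M.q1.1, by rw [M.q1.2]; decide⟩)) fun i hi =>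
    ev_memM M.nN (ck4.2.2.2.2.2.2.2.2.2.1 i hi).2.1)

theorem ma (l : LQ Q (f 21)) : MA Q (f 21) (f 22) (f 0) (f 16) where
  l := l
  cQ := M.cQ
  rr := M.sq (by decide) (by decide)
  ra := M.ra
  tQ := M.q0.1
  ne := M.tz
  FQ := M.FQ.1
  FF := M.sq (by decide) (by decide)
  Ft := by simpa [M.inv' (i := 0), mul_assoc] using M.pv.2 ck4.2.2.2.2.2.2.2.2.2.2.2.2.1
  br := by simpa [M.inv' (i := 16), mul_assoc] using M.pv.2 ck4.2.2.2.2.2.2.2.2.2.2.2.2.2.1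
  cE := M.E1 l ▸ M.clow (by decide) (by decide)
  j8 X hQ hC sq cX := by
    obtain ⟨g, hg, k⟩ := (M.syl M.UC).exists_cj_le (Q := X) (fun x => ⟨3, Subtype.ext (by
      have := M.ex.toXS.sq _ (sq _ x.2)
      rw [coe_pow, show (x : E) ^ 2 ^ 3 = (x * x * (x * x)) * (x * x * (x * x)) by
        simp only [show 2 ^ 3 = 7 + 1 from rfl, pow_succ, pow_zero, one_mul, mul_assoc]]
      rcases this with e | e <;> rw [e]
      exacts [mul_one 1, M.sq (by decide) (by decide)])⟩) hC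
    obtain ⟨c, hc, k⟩ := M.j8' k (fun x hx => by
      have := norm_mem' (M.n0 hg) (sq _ (mem_cj.1 hx))
      rwa [show g * (g⁻¹ * x * g * (g⁻¹ * x * g)) * g⁻¹ = x * x by group] at this) (by rwa [card_cj])
    exact ⟨c * g, mul_mem hc hg, by rwa [cj_mul, M.Aeq]⟩
  v1 X h ix := M.v1 h (M.Aeq ▸ ix)
  v2 := (M.E1 l).ge.trans (M.low_cm (by decide) ⟨M.E0 ⟨M.q1.1, by rw [M.q1.2]; decide⟩ |>.2, M.QC M.q1.1⟩ fun i hi => by
    obtain ⟨j, hj, e⟩ := (ck4.2.2.2.2.2.2.2.2.2.1 i (by omega)).2.2.2.1 hi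
    rw [e, ev_single]; exact M.aP hj)
  d := M.dd
  pf := M.N_le (M.dd.trans (commutator_mono M.Q1N le_rfl)) fun i hi => by
    obtain ⟨-, -, -, p, -, rfl, e, k⟩ := ck4.2.2.2.2.2.1 i hi
    rw [← ev_single f p.1, (M.eq _ _).2 e]
    exact ev_cmW fun s hs => ⟨ev_memM M.nN (k s hs).1, ev_memM M.nN (k s hs).2⟩
  fb k hk := by
    obtain ⟨b, hb, y, hy, rfl⟩ := (mem_sup_of_le_normalizer (H := 𝐂(V4 (f 21) (f 22)) ⊓ Fx (f 0) (f 21))
      (inf_le_left.trans (M.pr l).C_norm_B)).1 (M.N_le (le_sup_of_le_right (le_inf M.Q1N (inf_le_left.trans (le_Fx M.ex M.FQ.1))))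
        (fun i hi => by
          obtain ⟨a, b, rfl | c, -⟩ := ck4.2.2.2.2.2.1 i hi
          · rw [show f 2 = f (42 + 8) by simpa using M.pv.2 ck4.2.2.2.2.2.2.2.2.1]; exact mem_sup_left (M.aP (by decide))
          · exact mem_sup_right ⟨(mem_N (M.pr l)).2 ⟨M.com.2 a, M.com.2 b⟩, mem_Fx.2 ⟨mem_c1.2 (M.com.2 a), by
              rw [M.com.2 c, mul_inv_cancel_right, mul_inv_cancel]; exact one_mem _⟩⟩) hk)
    exact ⟨b, hb, by rw [inv_mul_cancel_left]; exact (mem_Fx.1 hy.2).2⟩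
  fe := ⟨ev f FE, ev_memM (fun _ => M.cz) ck4.2.2.2.2.2.2.2.2.2.2.2.1, mul_inv_eq_iff_eq_mul.2 (by
    simpa [ev_lapp, evL_odd _ 22, evL_odd _ 0] using (M.eq _ _).2 ck4.2.2.2.2.2.2.2.2.2.2.1)⟩
  odd := (M.syl M.UC).not_dvd_relIndex_of_le (M.UB.trans M.BM)
    (sup_le ((cent_V4 _ _).le.trans inf_le_left) M.QC)

end Mo

end CF.E62
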