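import Cfsg.Agent.E62.M2

/-! The second list of properties of the model. -/

set_option autoImplicit false
set_option linter.unusedSectionVars false
set_option maxRecDepth 100000

namespace CF.E62

open Cfsg Subgroup CF.Loc CF.Even CF.LX CF.J4 CF.Comp CF.Dce CF.BN

theorem ck8 : (∀ k ∈ [16, 17, 18, 19], ∀ l ∈ [16, 17, 18, 19], eqv [k, l, k, l] [] = true ∨
      eqv [k, l, k, l, k, l] [] = true ∨ eqv [k, l, k, l, k, l, k, l] [] = true ∧
      eqv [k, l, k, l, 22] [22, k, l, k, l] = false ∧ eqv [k, l, k, l, 22] [21, 22, k, l, k, l] = false) ∧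
    eqv [17, 16, 17, 16, 17, 16] [] = true ∧ eqv [17, 16] [] = false ∧ eqv [17, 0, 17, 22] [22, 17, 0, 17] = true ∧
    eqv [16, 17, 0, 17, 16, 17, 16, 17, 0, 17, 16, 17, 16, 17, 0, 17, 16] [17] = true ∧
    (∀ i < 8, eqv [42 + i, 22] [22, 42 + i] = true ∧ eqv [42 + i, 23] [23, 42 + i] = true) ∧
    ∀ c < 4, ∀ y ∈ [[], [43]], let w := lapp (chW (fun i => 22 + i) 20 c) y
      eqw (33 :: lapp w [33]) (winv w) = true → eqw (35 :: lapp w [35]) (winv w) = true →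
      eqw (35 :: w) (lapp [33, 35, 1, 35, 33] (lapp (winv w) (lapp [35, 33, 35, 1, 35, 33, 35]
        (lapp w [33, 35, 1, 35, 33])))) = true → eqw w [] = true := by decide +kernel

variable {E : Type*} [Group E] [Finite E] {f : ℕ → E} {T : BNPair E} {U Q A : Subgroup E} {ν μ : E → ℕ}

theorem pow_aux {g : E} {K : Subgroup E} (h : g ∉ K) (k : g ^ 2 = 1 ∨ g ^ 3 = 1 ∨ g ^ 4 = 1 ∧ g ^ 2 ∉ K) {m : ℕ}
    (hm : g ^ m ∈ K) : g ^ m = 1 := by
  rcases k with k | k | ⟨k, l⟩ <;> rw [pow_eq_pow_mod m k] at hm ⊢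
  · have : m % 2 < 2 := Nat.mod_lt _ (by decide)
    interval_cases m % 2
    exacts [pow_zero g, absurd (pow_one g ▸ hm) h]
  · have : m % 3 < 3 := Nat.mod_lt _ (by decide)
    interval_cases m % 3
    exacts [pow_zero g, absurd (pow_one g ▸ hm) h,
      absurd (inv_mem_iff.1 (eq_inv_of_mul_eq_one_left ((pow_succ g 2).symm.trans k) ▸ hm)) h]
  · have : m % 4 < 4 := Nat.mod_lt _ (by decide)
    interval_cases m % 4
    exacts [pow_zero g, absurd (pow_one g ▸ hm) h, absurd hm l,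
      absurd (inv_mem_iff.1 (eq_inv_of_mul_eq_one_left ((pow_succ g 3).symm.trans k) ▸ hm)) h]

theorem wt_pow {n : E} (hn : n ∈ T.N) (m : ℕ) : wt T (n ^ m) = wt T n ^ m := by
  induction m with
  | zero => rw [pow_zero, pow_zero, wt_one]
  | succ m ih => rw [pow_succ, pow_succ, wt_mul_of_mem_N (pow_mem hn m) hn, ih]

theorem fld_mo {n i : ℕ} (hi : i < n) : fld n (mo n) i = 2 ^ i := by
  rw [← vm_pow hi, vm_mo (by omega) (Nat.pow_lt_pow_right one_lt_two hi)]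

namespace Mo
variable (M : Mo f T U Q A ν μ)
include M

theorem sts : f 17 * f 22 * f 17 = f 23 := by simpa [mul_assoc] using M.pv.2 ck4.2.2.2.2.2.2.2.1

theorem qN3 {j : ℕ} (hj : j < 18) : f (22 + j) ∈ 𝐂(V4 (f 21) (f 22)) ⊓ 𝐂₁(f 23) :=
  have a := M.q (i := j) (by omega)
  ⟨M.Q1N (M.Q1.ge ⟨a.1, a.2 ▸ Nat.pow_lt_pow_right one_lt_two (by omega)⟩), mem_c1.2 ((M.comm a.1 (j := 1) (by decide)).2
    (a.2 ▸ Nat.testBit_two_pow_of_ne (by omega)))⟩

theorem zN3 : f 21 ∈ 𝐂(V4 (f 21) (f 22)) ⊓ 𝐂₁(f 23) :=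
  ⟨M.Q1N ⟨M.zQ, mem_c1.2 (mem_c1.1 (M.QC M.q0.1)).symm⟩, mem_c1.2 (mem_c1.1 (M.QC M.q1.1)).symm⟩

theorem g1 {d e : E} (hd : d ∈ 𝐂(𝐂(V4 (f 21) (f 22)) ⊓ 𝐂₁(f 23))) (he : e ∈ Q) : e⁻¹ * (d⁻¹ * e * d) ∈ low M.cq 2 := by
  have k := norm_mem (M.n0 (mem_c1.2 (hd _ M.zN3).symm)) he
  refine ⟨mul_mem (inv_mem he) k, eq_zero_of_bits (M.cq.lt _ (mul_mem (inv_mem he) k)) fun j hj => ?_⟩
  have : d⁻¹ * e * d * f (22 + j) = f (22 + j) * (d⁻¹ * e * d) ↔ e * f (22 + j) = f (22 + j) * e := by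
    rw [mul_assoc, ← hd _ (M.qN3 hj), ← mul_assoc, ← mul_assoc, mul_left_inj, ← mul_assoc, inv_mem hd _ (M.qN3 hj),
      mul_assoc, mul_assoc, mul_right_inj]
  rw [M.comm k (by omega), M.comm he (by omega)] at this
  rw [M.cq.mul _ (inv_mem he) _ k, M.cq.inv he, Nat.testBit_xor]
  revert this
  cases (ν e).testBit _ <;> cases (ν (d⁻¹ * e * d)).testBit _ <;> simp

theorem g2 (l : LQ Q (f 21)) {d : E} (hd : d ∈ 𝐂(𝐂(V4 (f 21) (f 22)) ⊓ 𝐂₁(f 23))) : d ^ 2 ^ 3 = 1 := by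
  have lo : low M.cq 2 ≤ 𝐂(V4 (f 21) (f 22)) ⊓ 𝐂₁(f 23) :=
    low_le M.cq M.uq (zpowers_le.2 M.zN3) fun i hi => M.qN3 (by omega)
  have : d ^ 4 ∈ 𝐂(Q) := fun e he => by
    have a := M.g1 hd he
    have b := hd _ (lo a)
    have s := l.toXS.sq _ a.1
    generalize hc : e⁻¹ * (d⁻¹ * e * d) = c at *
    have k : ∀ n, e * d ^ n = d ^ n * e * c ^ n := fun n => by
      induction n with
      | zero => simp
      | succ n ih => rw [pow_succ, ← mul_assoc, ih, mul_assoc _ _ d, ((show Commute c d from b).pow_left n).eq,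
          ← mul_assoc, mul_assoc _ e d, show e * d = d * e * c by rw [← hc]; group, pow_succ' c]; group
    rw [k, show c ^ 4 = c * c * (c * c) by simp only [pow_succ, pow_zero, one_mul, mul_assoc]]
    rcases s with s | s <;> rw [s]
    exacts [by simp, by rw [l.zz, mul_one]]
  rw [show 2 ^ 3 = 4 + 4 from rfl, pow_add]
  rcases l.ctr _ (l.cen this) this with e | e <;> rw [e]
  exacts [mul_one 1, l.zz]

theorem g3 (l : LQ Q (f 21)) {d : E} (hd : d ∈ 𝐂(𝐂(V4 (f 21) (f 22)) ⊓ 𝐂₁(f 23))) (r : f 16 * d * f 16 = d⁻¹) :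
    d ∈ A := by
  have dz := mem_c1.2 (hd _ M.zN3).symm
  have ri := M.inv' (i := 16) (by decide) (by decide)
  have ac : Ac 9 A μ d (mo 9) := ac_of' M.ca M.ua (M.n0 dz) fun i hi => by
    rw [fld_mo hi, chi_pow _ hi]
    by_cases c : i < 8
    · exact ⟨1, one_mem _, by rw [mul_assoc, hd _ ⟨(mem_N (M.pr l)).2 ⟨mem_c1.1 (M.aP hi).2, M.com.2 (ck8.2.2.2.2.2.1 i c).1⟩,
        mem_c1.2 (M.com.2 (ck8.2.2.2.2.2.1 i c).2)⟩, inv_mul_cancel_left, mul_one]⟩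
    · obtain rfl : i = 8 := by omega
      have a := M.g1 (inv_mem hd) (M.q (i := 18) (by decide)).1
      refine ⟨_, mem_cj.1 (M.E0 ⟨a.1, a.2.trans (by decide)⟩).2, ?_⟩
      have rr : ∀ x, f 16 * (f 16 * x) = x := fun x => by rw [← mul_assoc, M.sq (by decide) (by decide), one_mul]
      have e : ∀ x, d⁻¹ * (f 16 * x) = f 16 * (d * x) := fun x => by rw [← r, mul_assoc, rr, mul_assoc]
      rw [← M.cj3 (ck4.2.2.2.1 8 hi), ← mul_one d, ← mul_one (f 16)]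
      simp only [mul_inv_rev, inv_one, one_mul, ri, inv_inv, mul_assoc, rr, e, mul_inv_cancel_left]
  have hA : 𝐂(V4 (f 21) (f 22)) ⊔ Q ≤ 𝐍(A) := sup_le (M.Aeq ▸ N_norm_A (M.pr l)) (M.ca.le.trans le_normalizer)
  obtain ⟨m, hm, k⟩ := (M.syl (M.UB.trans M.BM)).exists_cj_le (Q := zpowers d) (fun ⟨_, n, rfl⟩ => ⟨3, Subtype.ext (by
    rw [coe_pow, ← zpow_natCast, ← zpow_mul, mul_comm, zpow_mul, zpow_natCast, M.g2 l hd, one_zpow]; rfl)⟩)
    (zpowers_le.2 (mem_sup_left ((mem_N (M.pr l)).2 ⟨mem_c1.1 dz, (hd _ (M.qN3 (j := 0) (by decide))).symm⟩)))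
  obtain ⟨c, hc, a, ha, e⟩ := M.U_dec (k (conj_mem_cj m (mem_zpowers d)))
  have := ck3.2.2.2.2.1 c hc 0 (by decide) ((M.ca.uniq' (M.act' hc ha) (e ▸ ac_conj M.ca ac (hA hm)
    (M.n0 (mem_Fx.1 (M.MF hm)).1) :) (fld_lt 81 _ _) (mo_lt (by decide))).trans (by decide +kernel))
  rw [this, chi_zero, one_mul] at e
  simpa [e, mul_assoc] using norm_mem (hA hm) ha

theorem g4 (l : LQ Q (f 21)) {d : E} (hd : d ∈ 𝐂(𝐂(V4 (f 21) (f 22)) ⊓ 𝐂₁(f 23))) (r : f 16 * d * f 16 = d⁻¹) :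
    ∃ c < 4, ∃ y ∈ [[], [43]], d = ev f (lapp (chW (fun i => 22 + i) 20 c) y) := by
  have dA := M.g3 l hd r
  have u := M.ua _ (M.ca.lt d dA)
  have q := (M.ca.eq_iff u.1 dA).1 u.2
  have dQ : d ∈ Q := (M.ca.ker d dA).1 (M.ma0 (M.ca.lt d dA) (M.aca _) fun i hi => by
    have a := M.q (i := i) (by omega)
    rw [← a.2, ← (M.aca _).2 _ a.1, ← (M.cq.ac_self (inv_mem q)).2 _ a.1 |>.trans (vm_mo (by decide) (M.cq.lt _ a.1))]
    congr 1
    rw [show f (22 + i) = d⁻¹ * f (22 + i) * d by rw [mul_assoc, hd _ (M.qN3 hi), inv_mul_cancel_left]]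
    nth_rw 1 [mul_assoc d⁻¹, hd _ (M.qN3 hi)]
    group)
  have v := M.uq _ (M.cq.lt d dQ)
  refine ⟨ν d, M.lt_of_comm (k := 2) dQ fun j hj => (hd _ (M.qN3 hj)).symm, ?_⟩
  rcases M.mz.1 ((M.cq.eq_iff v.1 dQ).1 v.2) with e | e <;> rw [inv_mul_eq_iff_eq_mul] at e
  exacts [⟨[], by simp, by rw [ev_lapp, ev_chW]; exact e⟩, ⟨[43], by simp, by rw [ev_lapp, ev_chW, ev_single f 21]; exact e⟩]

theorem mb (l : LQ Q (f 21)) : ∃ ρ, MB Q (f 21) (f 22) (f 0) (f 16) (f 17) T ρ := by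
  choose k hk hN hw using M.cs
  have sq : ∀ i, f (16 + k i) * f (16 + k i) = 1 := fun i => M.sq (by have := hk i; omega) (by have := hk i; omega)
  have ho : ∀ i j, (f (16 + k i) * f (16 + k j)) ^ orderOf ((cox T).s i * (cox T).s j) = 1 := fun i j => by
    obtain rfl | ne := eq_or_ne i j
    · rw [sq, one_pow]
    have w := wt_mul_of_mem_N (hN i) (hN j)
    rw [hw, hw] at w
    have m : ∀ i, 16 + k i ∈ [16, 17, 18, 19] := fun i => by have := hk i; simp; omega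
    refine pow_aux (K := T.B) (fun c => ne (cox_s_injective T ?_)) ?_
      (wt_eq_one_iff.1 (by rw [wt_pow (mul_mem (hN i) (hN j)), w, pow_orderOf_eq_one]))
    · rw [← wt_eq_one_iff, w] at c
      exact mul_right_cancel (c.trans ((cox T).mul_self j).symm)
    · refine (ck8.1 _ (m i) _ (m j)).imp (fun c => ?_) (Or.imp (fun c => ?_) (And.imp (fun c => ?_) fun c e => ?_))
      iterate 3 simpa [pow_succ, mul_assoc] using M.pv.2 c
      rcases M.mz.1 (mem_Fx.1 (M.MF (M.BM e))).2 with e | e <;>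
        rw [mul_inv_eq_iff_eq_mul, mul_inv_eq_iff_eq_mul] at e
      exacts [Bool.noConfusion (c.1.symm.trans (M.pv.1 (by simpa [pow_succ, mul_assoc] using e))),
        Bool.noConfusion (c.2.symm.trans (M.pv.1 (by simpa [pow_succ, mul_assoc] using e)))]
  have sr : (f 17 * f 16) ^ 3 = 1 := by simpa [pow_succ, mul_assoc] using M.pv.2 ck8.2.1
  refine ⟨fun i => f (16 + k i), M.ma l, M.sim, hN, hw, sq, ho, fun i => ?_, fun i j a b => ?_, M.BM,
    M.cz (by decide +kernel), M.sq (by decide) (by decide), sr, mem_c1.2 (by simpa [mul_assoc] using M.pv.2 ck8.2.2.2.1),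
    by simpa [mul_assoc] using M.pv.2 ck8.2.2.2.2.1, fun d hd a b c => ?_⟩
  · have := hk i
    interval_cases k i
    exacts [.inl rfl, .inr (.inl rfl), .inr (.inr (M.nN _ (by decide +kernel))), .inr (.inr (M.nN _ (by decide +kernel)))]
  · have := ho i j
    rw [a, b] at this
    exact orderOf_eq_prime sr (by simpa [ck8.2.2.1] using M.pv (u := [17, 16]) (w := [])) ▸ orderOf_dvd_of_pow_eq_one this
  · obtain ⟨e, he, y, hy, rfl⟩ := M.g4 l (M.sts ▸ hd) a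
    refine (M.eq _ []).2 (ck8.2.2.2.2.2.2 e he y hy ((M.eq _ _).1 ?_) ((M.eq _ _).1 ?_) ((M.eq _ _).1 ?_)) <;>
      generalize lapp (chW _ 20 e) y = w at * <;>
      simp only [ev_lapp, ev_winv, ev_cons, ev_nil, evL_odd f 16, evL_odd f 17, evL_odd f 0, mul_one, mul_assoc] at * <;>
      assumption

end Mo

end CF.E62
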