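import Cfsg.Agent.LX.Pair
import Cfsg.Agent.J4.Co
import Cfsg.Agent.Cod.Gen

/-! Comparing a subgroup of an involution centraliser with a model. -/

set_option autoImplicit false
set_option linter.unusedSectionVars false

namespace CF.E62

open Cfsg Subgroup CF.Loc CF.Even CF.LX CF.J4

variable {G E : Type*} [Group G] [Group E] [Finite G] [Finite E]

/-- `h` acts on `Q` as `m` acts on the model -/
structure Cor (H : Subgroup G) (Θ : E → G) (Q0 : Subgroup E) (a : E) (h : G) (m : E) : Prop where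
  l : h ∈ H
  r : m ∈ 𝐂₁(a)
  e : ∀ x ∈ Q0, h * Θ x * h⁻¹ = Θ (m * x * m⁻¹)

/-- the extraspecial groups are identified -/
structure Pr0 (Q H : Subgroup G) (z : G) (Q0 : Subgroup E) (a : E) (Θ : E → G) : Prop where
  l : LQ Q z
  e0 : EX Q0 a
  n0 : 𝐂₁(a) ≤ 𝐍(Q0)
  QH : Q ≤ H
  HC : H ≤ 𝐂₁(z)
  hom : HomOn Q0 Θ
  inj : ∀ x ∈ Q0, ∀ y ∈ Q0, Θ x = Θ y → x = y
  mem : ∀ x ∈ Q0, Θ x ∈ Q
  surj : ∀ y ∈ Q, ∃ x ∈ Q0, Θ x = y
  tz : Θ a = z
  down : ∀ h ∈ H, ∃ m, Cor H Θ Q0 a h m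

/-- the induced automorphism groups agree -/
structure Pre (Q H : Subgroup G) (z : G) (Q0 : Subgroup E) (a : E) (Θ : E → G) : Prop
    extends Pr0 Q H z Q0 a Θ where
  cen : 𝐂(Q0) ≤ Q0
  up : ∀ m ∈ 𝐂₁(a), ∃ h, Cor H Θ Q0 a h m

variable {Q H : Subgroup G} {z : G} {Q0 : Subgroup E} {a : E} {Θ : E → G}

namespace Pr0

variable (h : Pr0 Q H z Q0 a Θ)
include h

theorem cm {x m : E} (hx : x ∈ Q0) (hm : m ∈ 𝐂₁(a)) : m * x * m⁻¹ ∈ Q0 := (mem_normalizer_iff.1 (h.n0 hm) x).1 hx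

theorem comm {x y : E} (hx : x ∈ Q0) (hy : y ∈ Q0) : Θ x * Θ y = Θ y * Θ x ↔ x * y = y * x := by
  rw [← h.hom _ hx _ hy, ← h.hom _ hy _ hx]
  exact ⟨h.inj _ (mul_mem hx hy) _ (mul_mem hy hx), fun e => by rw [e]⟩

/-- the pairs with the same action -/
def D : Subgroup (G × E) where
  carrier := {d | Cor H Θ Q0 a d.1 d.2}
  one_mem' := ⟨one_mem _, one_mem _, fun x _ => by simp⟩
  mul_mem' := fun {c d} k l => ⟨mul_mem k.l l.l, mul_mem k.r l.r, fun x hx => by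
    have := k.e _ (h.cm hx l.r)
    rw [← l.e x hx] at this
    simpa only [Prod.fst_mul, Prod.snd_mul, mul_inv_rev, mul_assoc] using this⟩
  inv_mem' := fun {c} k => ⟨inv_mem k.l, inv_mem k.r, fun x hx => by
    have := k.e _ (h.cm hx (inv_mem k.r))
    rw [show c.2 * (c.2⁻¹ * x * c.2⁻¹⁻¹) * c.2⁻¹ = x by group] at this
    rw [Prod.fst_inv, Prod.snd_inv, ← this]; group⟩

theorem cone : Cor H Θ Q0 a 1 1 := h.D.one_mem

theorem cmul {g k : G} {m n : E} (c : Cor H Θ Q0 a g m) (b : Cor H Θ Q0 a k n) : Cor H Θ Q0 a (g * k) (m * n) :=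
  h.D.mul_mem (x := (g, m)) (y := (k, n)) c b

theorem cinv {g : G} {m : E} (c : Cor H Θ Q0 a g m) : Cor H Θ Q0 a g⁻¹ m⁻¹ := h.D.inv_mem (x := (g, m)) c

theorem cconj {g k : G} {m n : E} (c : Cor H Θ Q0 a g m) (b : Cor H Θ Q0 a k n) :
    Cor H Θ Q0 a (g * k * g⁻¹) (m * n * m⁻¹) := h.cmul (h.cmul c b) (h.cinv c)

theorem cself {x : E} (hx : x ∈ Q0) : Cor H Θ Q0 a (Θ x) x :=
  ⟨h.QH (h.mem x hx), h.e0.le_c1 hx, fun _ hy => (h.hom.conj hx hy).symm⟩

theorem cz : Cor H Θ Q0 a z 1 := ⟨h.QH h.l.mem, one_mem _, fun x hx => by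
  rw [← h.l.zc (h.mem x hx), mul_inv_cancel_right, one_mul, inv_one, mul_one]⟩

theorem ca : Cor H Θ Q0 a 1 a := ⟨one_mem _, mem_c1.2 rfl, fun x hx => by
  rw [← h.e0.zc hx, mul_inv_cancel_right, one_mul, inv_one, mul_one]⟩

theorem left {g : G} (k : Cor H Θ Q0 a g 1) : g = 1 ∨ g = z := h.l.cent_cases fun y hy => by
  obtain ⟨x, hx, rfl⟩ := h.surj y hy
  have := k.e x hx
  rw [one_mul, inv_one, mul_one, conj_eq_iff] at this
  exact this.symm

theorem right0 {m : E} (k : Cor H Θ Q0 a 1 m) : m ∈ 𝐂(Q0) := fun x hx => by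
  have := k.e x hx
  rw [one_mul, inv_one, mul_one] at this
  exact (conj_eq_iff.1 (h.inj _ hx _ (h.cm hx k.r) this).symm).symm

theorem left' {g k : G} {m : E} (c : Cor H Θ Q0 a g m) (d : Cor H Θ Q0 a k m) : g = k ∨ g = z * k := by
  have := h.cmul c (h.cinv d)
  rw [mul_inv_cancel] at this
  exact (h.left this).imp mul_inv_eq_one.1 eq_mul_of_mul_inv_eq

/-- commuting with an element of the extraspecial group -/
theorem ccomm {g : G} {m x : E} (c : Cor H Θ Q0 a g m) (hx : x ∈ Q0) : g * Θ x = Θ x * g ↔ m * x = x * m := by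
  rw [← conj_eq_iff, ← conj_eq_iff, c.e x hx]
  exact ⟨h.inj _ (h.cm hx c.r) _ hx, congrArg Θ⟩

/-- the elements of the model corresponding to a subgroup -/
def lift (A : Subgroup G) : Subgroup E := (A.comap (MonoidHom.fst G E) ⊓ h.D).map (MonoidHom.snd G E)

theorem mem_lift {A : Subgroup G} {m : E} : m ∈ h.lift A ↔ ∃ g ∈ A, Cor H Θ Q0 a g m :=
  ⟨fun ⟨d, k, e⟩ => ⟨d.1, k.1, e ▸ k.2⟩, fun ⟨g, k, c⟩ => ⟨(g, m), ⟨k, c⟩, rfl⟩⟩

theorem card_lift' {A : Subgroup G} (hA : A ≤ H) :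
    Nat.card A * Nat.card 𝐂(Q0) ≤ Nat.card (h.lift A) * 2 := by
  let B := A.comap (MonoidHom.fst G E) ⊓ h.D
  have k1 := card_eq_card_quotient_mul_card_subgroup ((MonoidHom.fst G E).comp B.subtype).ker
  have k2 := card_eq_card_quotient_mul_card_subgroup ((MonoidHom.snd G E).comp B.subtype).ker
  rw [Nat.card_congr (QuotientGroup.quotientKerEquivRange _).toEquiv, MonoidHom.range_comp, range_subtype] at k1 k2
  have e1 : B.map (MonoidHom.fst G E) = A := le_antisymm (fun _ ⟨_, k, e⟩ => e ▸ k.1) fun g hg =>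
    (h.down g (hA hg)).elim fun m c => ⟨(g, m), ⟨hg, c⟩, rfl⟩
  have e2 : Nat.card 𝐂(Q0) ≤ Nat.card ((MonoidHom.fst G E).comp B.subtype).ker :=
    Nat.card_le_card_of_injective (fun x => ⟨⟨(1, x), A.one_mem, one_mem _, mem_c1.2 (x.2 _ h.e0.mem).symm,
      fun y hy => by rw [conj_eq_of_mem_centralizer x.2 hy]; simp⟩, rfl⟩) fun x y e =>
      Subtype.ext (congrArg (fun d => ((d.1 : B) : G × E).2) e)
  have e3 : Nat.card ((MonoidHom.snd G E).comp B.subtype).ker ≤ 2 := by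
    rw [← card_map_of_injective B.subtype_injective]
    refine CF.Cod.card_le_of_list [(1, 1), (z, 1)] ?_
    rintro _ ⟨⟨⟨g, m⟩, k⟩, rfl : m = 1, rfl⟩
    rcases h.left k.2 with e | e <;> simp [show g = _ from e]
  rw [e1] at k1
  change _ = Nat.card (h.lift A) * _ at k2
  calc _ ≤ _ := Nat.mul_le_mul_left _ e2
    _ = _ := k1.symm.trans k2
    _ ≤ _ := Nat.mul_le_mul_left _ e3

theorem two_le : 2 ≤ Nat.card 𝐂(Q0) := h.e0.card_z ▸ card_le_of_le (zpowers_le.2 h.e0.cent)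

theorem card_lift {A : Subgroup G} (hA : A ≤ H) : Nat.card A ≤ Nat.card (h.lift A) := by
  have := (Nat.mul_le_mul_left _ h.two_le).trans (h.card_lift' hA)
  omega

theorem lift_le {A : Subgroup G} : h.lift A ≤ 𝐂₁(a) := fun _ k => (h.mem_lift.1 k).elim fun _ c => c.2.r

theorem pre (c : Nat.card 𝐂₁(a) ≤ Nat.card H) : Pre Q H z Q0 a Θ := by
  have k := h.card_lift' (le_refl H)
  have k1 := card_le_of_le (h.lift_le (A := H))
  have p : 0 < Nat.card H := Nat.card_pos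
  refine ⟨h, (eq_of_le_of_card_ge (zpowers_le.2 h.e0.cent) ?_).ge.trans h.e0.z_le, fun m hm => ?_⟩
  · rw [h.e0.card_z]; nlinarith
  · obtain ⟨g, -, k⟩ := h.mem_lift.1 ((eq_of_le_of_card_ge h.lift_le (c.trans (h.card_lift le_rfl))).ge hm)
    exact ⟨g, k⟩

end Pr0

namespace Pre

variable (h : Pre Q H z Q0 a Θ)
include h

theorem l0 : LQ Q0 a := ⟨h.e0, h.cen, h.n0⟩

theorem right' {g : G} {m n : E} (c : Cor H Θ Q0 a g m) (d : Cor H Θ Q0 a g n) : m = n ∨ m = a * n := by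
  have := h.cmul c (h.cinv d)
  rw [mul_inv_cancel] at this
  exact (h.l0.cent_cases (h.right0 this)).imp mul_inv_eq_one.1 eq_mul_of_mul_inv_eq

theorem memQ {g : G} {m : E} (c : Cor H Θ Q0 a g m) : g ∈ Q ↔ m ∈ Q0 := by
  refine ⟨fun k => ?_, fun k => ?_⟩
  · obtain ⟨x, hx, rfl⟩ := h.surj g k
    rcases h.right' c (h.cself hx) with rfl | rfl
    exacts [hx, mul_mem h.e0.mem hx]
  · rcases h.left' c (h.cself k) with rfl | rfl
    exacts [h.mem _ k, mul_mem h.l.mem (h.mem _ k)]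

theorem card_lift_le {A : Subgroup G} (hz : z ∈ A) : Nat.card (h.lift A) ≤ Nat.card A := by
  let B := A.comap (MonoidHom.fst G E) ⊓ h.D
  have k1 := card_eq_card_quotient_mul_card_subgroup ((MonoidHom.fst G E).comp B.subtype).ker
  have k2 := card_eq_card_quotient_mul_card_subgroup ((MonoidHom.snd G E).comp B.subtype).ker
  rw [Nat.card_congr (QuotientGroup.quotientKerEquivRange _).toEquiv, MonoidHom.range_comp, range_subtype] at k1 k2
  have e1 : Nat.card (B.map (MonoidHom.fst G E)) ≤ Nat.card A := card_le_of_le fun _ ⟨_, k, e⟩ => e ▸ k.1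
  have e2 : 2 ≤ Nat.card ((MonoidHom.snd G E).comp B.subtype).ker := (one_lt_card_iff_ne_bot _).2 fun e =>
    h.l.z_ne (congrArg (fun d : B => (d : G × E).1) (mem_bot.1 (e.le
      (show (⟨(z, 1), hz, h.cz⟩ : B) ∈ _ from rfl))))
  have e3 : Nat.card ((MonoidHom.fst G E).comp B.subtype).ker ≤ 2 := by
    rw [← card_map_of_injective B.subtype_injective]
    refine CF.Cod.card_le_of_list [(1, 1), (1, a)] ?_
    rintro _ ⟨⟨⟨g, m⟩, k⟩, rfl : g = 1, rfl⟩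
    rcases h.l0.cent_cases (h.right0 k.2) with e | e <;> simp [show m = _ from e]
  change _ = Nat.card (h.lift A) * _ at k2
  nlinarith

theorem untw {m n : E} {g : G} (hm : m ∈ 𝐂₁(a)) (c : Cor H Θ Q0 a g (m * n * m⁻¹)) :
    Cor H (fun x => Θ (m * x * m⁻¹)) Q0 a g n :=
  ⟨c.l, by simpa [mul_assoc] using mul_mem (mul_mem (inv_mem hm) c.r) hm,
    fun x hx => (c.e _ (h.cm hx hm)).trans (congrArg Θ (by group))⟩

theorem twist {m : E} (hm : m ∈ 𝐂₁(a)) : Pre Q H z Q0 a fun x => Θ (m * x * m⁻¹) := by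
  refine ⟨⟨h.l, h.e0, h.n0, h.QH, h.HC, fun x hx y hy => ?_, fun x hx y hy e => ?_,
    fun x hx => h.mem _ (h.cm hx hm), fun y hy => ?_, ?_, fun g hg => ?_⟩, h.cen, fun n hn =>
      (h.up _ (mul_mem (mul_mem hm hn) (inv_mem hm))).imp fun _ => h.untw hm⟩
  · rw [← h.hom _ (h.cm hx hm) _ (h.cm hy hm), conj_mul_conj]
  · simpa using h.inj _ (h.cm hx hm) _ (h.cm hy hm) e
  · obtain ⟨x, hx, rfl⟩ := h.surj y hy
    exact ⟨_, h.cm hx (inv_mem hm), congrArg Θ (by group)⟩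
  · rw [mem_c1.1 hm, mul_inv_cancel_right, h.tz]
  · obtain ⟨n, c⟩ := h.down g hg
    exact ⟨m⁻¹ * n * m, h.untw hm (by rwa [show m * (m⁻¹ * n * m) * m⁻¹ = n by group])⟩

end Pre

end CF.E62
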