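import Cfsg.Agent.E62.W3
import Cfsg.Agent.E62.SD

/-! Computations with the twenty-dimensional module. -/

set_option autoImplicit false
set_option maxRecDepth 100000
set_option exponentiation.threshold 500

namespace CF.E62

open Cfsg Subgroup CF.Loc CF.J4 CF.Comp CF.Dce

/-- the matrix of a word -/
noncomputable def eG (w : List ℕ) : ℕ := evW (mm 20) (mo 20) (nth (mo 20) TG) w

/-- the number of vectors -/
noncomputable def nV : ℕ := nat_lit 1048576

/-- the elementary operations as nets -/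
noncomputable def nG : List Net := lmap (List.rec Net.nil fun p _ r => Net.cons (Nat.pow 2 p.2)
  (Nat.land (plane nV p.1) (Nat.xor (full nV) (plane nV p.2))) r) OPS

/-- the letters -/
def lts (n : ℕ) : List (List ℕ) := (List.range n).map fun i => [2 * i + 1]

/-- the number of fixed vectors -/
noncomputable def nfx (x : ℕ) : ℕ := force x fun x => pop nV (fixM 20 nV x)

theorem k1 : tabOK (mm 20) (mo 20) (fun _ => true) TG 19 = true ∧ mm 20 QI QM = mo 20 ∧ mm 20 QM QI = mo 20 ∧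
    llen WSs = 19 ∧ (∀ i < 19, mm 20 QM (mm 20 (eS (nth [] WSs i)) QI) = nth (mo 20) TG (2 * i + 1)) ∧
    (∀ i < 13, eG (nth [] WBs i) = mm 20 QM (mm 20 (nth (mo 20) TW (2 * i + 1)) QI)) ∧
    Bt.pcOK (eqM 20 (nth (mo 20) TG)) 2 (lts 15) PCs = true := by decide +kernel

theorem k2 : linOK 20 nV nG (nth (mo 20) TG) = true ∧ llen nG = 19 := by decide +kernel

theorem k3 : pop nV (orb nG (lts 15) 1 (Nat.shiftLeft (nat_lit 1) 535707)) = 2 ^ 15 ∧
    pop nV (orb nG (lts 15).tail 1 (Nat.shiftLeft (nat_lit 1) 535707)) = 2 ^ 14 ∧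
    orb nG (lts 15 ++ [[31], [33], [35], [31], [33], [35], [31], [33], [35]] ++ lts 15) 1 (fixM 20 nV (eG [37])) =
      full nV := by decide +kernel

/-- the shortest orbit -/
noncomputable def oM : ℕ :=
  orb nG (lts 15 ++ [[31], [33], [35], [31], [33], [35], [31], [33], [35]]) 1 (Nat.shiftLeft (nat_lit 1) 524288)

theorem k4 : closedW nG (lts 19) oM = true ∧ pop nV oM = 891 ∧
    pop nV (Nat.land oM (fixM 20 nV (eG [27]))) = 75 ∧ nfx (eG [29]) = 2 ^ 14 ∧ nfx (eG [27]) = 2 ^ 12 ∧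
    nfx (eG [3, 19, 29]) = 2 ^ 10 ∧ ∀ x ∈ LAs, nfx x = 2 ^ 14 := by decide +kernel

/-- the test for the elements of the Sylow subgroup -/
noncomputable def phi (x : ℕ) : Bool := !Nat.beq (mm 20 x x) (mo 20) || Nat.beq x (mo 20) ||
  ((lany (fun w => Nat.blt (mm 20 (eG w) (mm 20 x (eG w))) x) (lts 15) || lany (fun w =>
    force (mm 20 (eG w) (mm 20 x (eG (winv w)))) fun y => Nat.beq y (eG [29]) || Nat.beq y (eG [27]) ||
      Nat.beq y (eG [3, 19, 29])) CWs) &&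
  (Nat.beq x (eG [29]) || lany (fun w => !Nat.beq (mm 20 (eG w) x) (mm 20 x (eG w))) (lts 15)) &&
  (!Nat.beq (mm 20 (eG [27]) x) (mm 20 x (eG [27])) ||
    force (pop 4096 (Nat.land (fixM 20 4096 (mm 20 ctB.2.2.1 (x ^^^ mo 20) ^^^ mo 20)) (full 4096))) fun p =>
      Nat.blt p 1024 || lany (Nat.beq x) LAs || lany (Nat.beq x) LBs && (Nat.blt p 2048 || Nat.beq x (eG [27]))))

theorem k5 : pcM 20 (nth (mo 20) TG) phi (lts 15) = true := by decide +kernel

/-- the fixed vectors are described -/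
def Ct (x : ℕ) (c : ℕ × ℕ × ℕ × ℕ) (k : ℕ) : Prop :=
  mm 20 (x ^^^ mo 20) c.1 ^^^ mm 20 c.2.1 c.2.2.1 ^^^ mm 20 c.2.2.2 (x ^^^ mo 20) = mo 20 ∧ ∀ i < 20, fld 20 c.2.1 i < 2 ^ k

noncomputable instance (x : ℕ) (c : ℕ × ℕ × ℕ × ℕ) (k : ℕ) : Decidable (Ct x c k) := by unfold Ct; infer_instance

/-- the cosets are fixed by elements of order three -/
noncomputable def cosG (v : List ℕ) (c : ℕ × ℕ × ℕ × ℕ) (k : ℕ) (Y : List (List ℕ)) : Bool :=
  lall (fun w => eqM 20 (nth (mo 20) TG) (wpow w 3) [] && !eqM 20 (nth (mo 20) TG) w [] &&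
    eqM 20 (nth (mo 20) TG) (lapp w v) (lapp v w)) Y &&
  allFrom (fun a => lany (fun w => force (vm 20 (vm 20 a c.2.2.1) (eG w ^^^ eG (lapp w w))) fun b =>
    Nat.beq (vm 20 (vm 20 b c.2.2.2) (eG v ^^^ mo 20)) b) Y) 0 (2 ^ k)

theorem k6 : Ct (eG [29]) ctA 8 ∧ Ct (eG [27]) ctB 12 ∧ ctB.2.2.2 = 0 ∧ Ct (eG [3, 19, 29]) ctC 0 ∧
    cosG [29] ctA 8 YZ = true ∧ cosG [3, 19, 29] ctC 0 [[37]] = true ∧ LBs.length = 11 := by decide +kernel

end CF.E62
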