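import Cfsg.Agent.E62.S1

/-! The split extension of the twenty-dimensional module. -/

set_option autoImplicit false
set_option linter.unusedSectionVars false
set_option maxRecDepth 100000
set_option exponentiation.threshold 500

namespace CF.E62

open Cfsg Subgroup CF.Loc CF.LX CF.J4 CF.Comp CF.Dce Function
open scoped Pointwise

variable {G S : Type*} [Group G] [Group S] [Finite G] {A L E : Subgroup G} {ν : G → ℕ} {g : ℕ → G} {f : ℕ → S}

theorem nbot (g : G) : g ∈ 𝐍((⊥ : Subgroup G)) := by rw [normalizer_eq_top]; trivial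

theorem co_ext {n : ℕ} (C : Co n A ⊥ ν) {a b : G} (ha : a ∈ A) (hb : b ∈ A) (e : ν a = ν b) : a = b :=
  inv_mul_eq_one.1 ((C.eq_iff ha hb).1 e)

theorem co_comm {n : ℕ} (C : Co n A ⊥ ν) {h a : G} {x : ℕ} (c : Ac n A ν h x) (ha : a ∈ A) :
    a * h = h * a ↔ vm n (ν a) x = ν a := by
  rw [← c.2 a ha]
  exact ⟨fun e => by rw [mul_assoc, e, inv_mul_cancel_left], fun e => by
    have := co_ext C (norm_mem c.1 ha) ha e
    rwa [mul_assoc, inv_mul_eq_iff_eq_mul] at this⟩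

theorem exists_tbA (cm : ∀ a ∈ A, ∀ b ∈ A, a * b = b * a) (sq : ∀ a ∈ A, a * a = 1) (cA : Nat.card A = 2 ^ 20)
    (nor : L ≤ 𝐍(A)) (e : L ≃* S) (h : Gn f) (ff : ∀ x ∈ L, x ∈ 𝐂(A) → x = 1) :
    ∃ ν, Co 20 A ⊥ ν ∧ ∀ w, Ac 20 A ν (e.symm (ev f w) : L) (eS w) := by
  classical
  let : CommGroup A := { (inferInstance : Group A) with mul_comm := fun a b => Subtype.ext (cm a a.2 b b.2) }
  let : Module (ZMod 2) (Additive A) := AddCommGroup.zmodModule fun x => by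
    rw [two_nsmul]; exact congrArg Additive.ofMul (Subtype.ext (sq _ x.toMul.2) : x.toMul * x.toMul = 1)
  let κ : S →* MulAut A := (A.normalizerMonoidHom.comp (inclusion nor)).comp e.symm.toMonoidHom
  let : DistribMulAction S (Additive A) :=
    { smul := fun s v => Additive.ofMul (κ s v.toMul)
      one_smul := fun v => congrArg (fun k : MulAut A => Additive.ofMul (k v.toMul)) κ.map_one
      mul_smul := fun s t v => congrArg (fun k : MulAut A => Additive.ofMul (k v.toMul)) (κ.map_mul s t)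
      smul_zero := fun s => congrArg Additive.ofMul (κ s).map_one
      smul_add := fun s v w => congrArg Additive.ofMul ((κ s).map_mul v.toMul w.toMul) }
  have hκ : ∀ s (v : Additive A), ((s • v).toMul : G) = e.symm s * v.toMul * (e.symm s : G)⁻¹ := fun _ _ => rfl
  obtain ⟨b, hb⟩ := h.frame (V := Additive A) (Nat.pow_right_injective le_rfl (by
    have := Module.natCard_eq_pow_finrank (K := ZMod 2) (V := Additive A)
    rw [Nat.card_zmod] at this
    exact this.symm.trans cA)) (by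
    by_contra! n
    refine h.ne (e.symm.injective (Subtype.ext ((ff _ (e.symm _).2 (mem_centralizer_of_conj_eq fun x hx => ?_)).trans
      (by simp))))
    exact (hκ _ (Additive.ofMul ⟨x, hx⟩)).symm.trans (congrArg (fun v : Additive A => (v.toMul : G)) (n _)))
  choose cd c1 c2 using dc_surj
  let ν : G → ℕ := fun x => if hx : x ∈ A then cd (b.equivFun (Additive.ofMul ⟨x, hx⟩)) else 0
  have hν : ∀ x (hx : x ∈ A), ν x < 2 ^ 20 ∧ dc (ν x) = b.equivFun (Additive.ofMul ⟨x, hx⟩) := fun x hx => by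
    simp only [ν, dif_pos hx]; exact ⟨c1 _, c2 _⟩
  have C : Co 20 A ⊥ ν := ⟨by decide, bot_le, fun x hx y hy => dc_inj (hν _ (mul_mem hx hy)).1
    (Nat.xor_lt_two_pow (hν x hx).1 (hν y hy).1) (by
      rw [dc_xor, (hν x hx).2, (hν y hy).2, (hν _ (mul_mem hx hy)).2, ← map_add]; rfl), fun x hx => (hν x hx).1,
    fun c hc => ⟨_, (b.equivFun.symm (dc c)).toMul.2, dc_inj (hν _ (b.equivFun.symm (dc c)).toMul.2).1 hc
      ((hν _ _).2.trans (b.equivFun.apply_symm_apply _))⟩, fun x hx => ⟨fun k => congrArg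
        (fun v : Additive A => (v.toMul : G)) ((map_eq_zero_iff _ b.equivFun.injective).1
          ((hν x hx).2.symm.trans (k ▸ dc_zero))), fun k => dc_inj (hν x hx).1 (by decide) (by
      obtain rfl : x = 1 := k
      rw [(hν _ hx).2, dc_zero]; exact map_zero _)⟩⟩
  let R : S → ℕ → Prop := fun s x => Ac 20 A ν (e.symm s : L) x
  have D : Cd (mm 20) (mo 20) (fun _ => true) R := ⟨by simpa [R] using C.cd.one',
    fun a b => by simpa [R] using C.cd.mul' a b, fun a o k => by simpa [R] using C.cd.inv' a o k⟩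
  have t : ∀ i < 12, R (f i) (nth (mo 20) TW (2 * i + 1)) := fun i hi =>
    C.of_gens (nor (e.symm _).2) (nbot _) fun j hj => by
      have l := (b ⟨j, hj⟩).toMul.2
      refine ⟨_, l, dc_inj (C.lt _ l) (Nat.pow_lt_pow_right one_lt_two hj) ((hν _ l).2.trans
        ((funext fun _ => by simp [Pi.single_apply, eq_comm]).trans (dc_pow ⟨j, hj⟩).symm)), dc_inj
        (C.lt _ (norm_mem (nor (e.symm _).2) l)) (fld_lt _ _ _) ?_⟩
      rw [← hb i hi ⟨j, hj⟩, (hν _ (norm_mem (nor (e.symm _).2) l)).2]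
      congr 2
      exact Subtype.ext (((hκ (f i)⁻¹ (b ⟨j, hj⟩)).trans (by simp)).symm)
  obtain ⟨X, lX, hX⟩ := C.ex (nor (e.symm (f 12)).2) (nbot _)
  have := last h D (fun a b _ => C.uniq a b) t lX hX
  exact ⟨ν, C, D.ev (D.tb cw3.1 (fun i hi => (Nat.lt_succ_iff_lt_or_eq.1 hi).elim (t i)
    fun e => e ▸ this ▸ hX) h.one)⟩

/-- the group acts by the matrices of the table -/
structure Md (A L : Subgroup G) (ν : G → ℕ) (g : ℕ → G) : Prop where
  co : Co 20 A ⊥ ν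
  mem : ∀ i, g i ∈ L
  tb : Tb (Ac 20 A ν) g (nth (mo 20) TG)
  one : ∀ i, 19 ≤ i → g i = 1
  nor : L ≤ 𝐍(A)
  ff : ∀ x ∈ L, x ∈ 𝐂(A) → x = 1
  card : Nat.card L = 9196830720
  gen : L ≤ clo g (lts 19)

theorem ac_ext {n : ℕ} (C : Co n A ⊥ ν) (ff : ∀ x ∈ L, x ∈ 𝐂(A) → x = 1) {x y : G} {c : ℕ} (hx : x ∈ L) (hy : y ∈ L)
    (a : Ac n A ν x c) (b : Ac n A ν y c) : x = y :=
  inv_mul_eq_one.1 (ff _ (mul_mem (inv_mem hx) hy) (mem_centralizer_iff.2 fun e he =>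
    (co_comm C (C.ac_div a b) he).2 (vm_mo C.pos (C.lt e he))))

theorem ev_mem_lts {n : ℕ} (h : ∀ i, n ≤ i → g i = 1) (w : List ℕ) : ev g w ∈ clo g (lts n) :=
  ev_mem (fun i => (lt_or_ge i n).elim (fun l => ev_single g i ▸ ev_mem_clo g (List.mem_map.2 ⟨i, List.mem_range.2 l, rfl⟩))
    fun l => h i l ▸ one_mem _) w

theorem exists_md (cm : ∀ a ∈ A, ∀ b ∈ A, a * b = b * a) (sq : ∀ a ∈ A, a * a = 1) (cA : Nat.card A = 2 ^ 20)
    (nor : L ≤ 𝐍(A)) {K : Type*} [Field K] [Fintype K] (hK : Fintype.card K = 4) (e : L ≃* PSU 6 K 2)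
    (ff : ∀ x ∈ L, x ∈ 𝐂(A) → x = 1) : ∃ ν g, Md A L ν g := by
  obtain ⟨f, h⟩ := exists_su hK
  obtain ⟨ν, C, t⟩ := exists_tbA cm sq cA nor e h ff
  obtain ⟨a1, a2, a3, a4, a5, a6, -⟩ := k1
  have D := C.change a2 a3
  let g : ℕ → G := fun i => e.symm (ev f (nth [] WSs i))
  have o : ∀ i, 19 ≤ i → g i = 1 := fun i hi => by
    simp only [g, nth_of_le _ ((llen_eq WSs).symm.trans a4 ▸ hi), ev_nil, map_one, OneMemClass.coe_one]
  have T := D.cd.tb a1 (f := g) (fun i hi => a5 i hi ▸ C.ac_change a2 (t _)) o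
  have m : ∀ i, g i ∈ L := fun i => (e.symm _).2
  refine ⟨_, g, D, m, T, o, nor, ff, (Nat.card_congr e.toEquiv).trans (card_U6 hK), fun x hx => ?_⟩
  obtain ⟨w, hw⟩ := h.gen (e ⟨x, hx⟩)
  have := map_ev (L.subtype.comp e.symm.toMonoidHom) f w
  rw [hw, show (L.subtype.comp e.symm.toMonoidHom) (e ⟨x, hx⟩) = x by simp] at this
  refine this ▸ ev_mem (fun i => (lt_or_ge i 13).elim (fun l => ?_) fun l => by simp [h.one i l]) w
  have k := C.ac_change a2 (t [2 * i + 1])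
  rw [ev_single, show eS [2 * i + 1] = nth (mo 20) TW (2 * i + 1) from rfl, ← a6 i l] at k
  exact (ac_ext D ff (ev_mem m _) (e.symm _).2 (D.cd.ev T _) k).subst (motive := (· ∈ clo g (lts 19))) (ev_mem_lts o _)

theorem fixM_iff {n N y v : ℕ} (hN : N = 2 ^ n) : (fixM n N y).testBit v = true ↔ v < N ∧ vm n v y = v := by
  refine ⟨fun h => ?_, fun h => fixM_of h.1 h.2⟩
  have : ∀ k ≤ n, (Nat.rec (motive := fun _ => ℕ) (full N) (fun j r => force r fun r =>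
      Nat.land r (Nat.xor (full N) (Nat.xor (colP n N y j) (plane N j)))) k : ℕ).testBit v = true →
      v < N ∧ ∀ j < k, (vm n v y).testBit j = v.testBit j := fun k hk => by
    induction k with
    | zero => exact fun e => ⟨by simpa using (testBit_full N v).symm.trans e, nofun⟩
    | succ k ih =>
      show (force _ _ : ℕ).testBit v = true → _
      rw [force_eq]
      show (_ &&& (full N ^^^ (colP n N y k ^^^ plane N k))).testBit v = true → _
      rw [Nat.testBit_and, Bool.and_eq_true]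
      rintro ⟨a, b⟩
      obtain ⟨c, d⟩ := ih (by omega) a
      rw [Nat.testBit_xor, Nat.testBit_xor, testBit_vm n v y hk c, testBit_plane, testBit_full] at b
      exact ⟨c, fun j hj => (Nat.lt_succ_iff_lt_or_eq.1 hj).elim (d j) fun e => by subst e; simpa [c] using b⟩
  obtain ⟨a, b⟩ := this n le_rfl (by delta fixM at h; exact h)
  exact ⟨a, eq_of_testBit_lt (vm_lt _ _ _) (hN ▸ a) b⟩

theorem burn {Ω : Type*} [MulAction G Ω] {T : Set Ω} (fin : T.Finite) (inv : ∀ x ∈ E, ∀ p ∈ T, x • p ∈ T) {c : ℕ}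
    (h : ∀ x ∈ E, x ≠ 1 → {p | p ∈ T ∧ x • p = p}.ncard = c) : Nat.card E ∣ T.ncard + (Nat.card E - 1) * c := by
  classical
  let U : SubMulAction E Ω := ⟨T, fun x _ => inv x x.2 _⟩
  have : Finite U := fin
  let := Fintype.ofFinite E
  let := fun x : E => Fintype.ofFinite (MulAction.fixedBy U x)
  let := Fintype.ofFinite (Quotient (MulAction.orbitRel E U))
  have k : ∀ x : E, Fintype.card (MulAction.fixedBy U x) = {p | p ∈ T ∧ x.1 • p = p}.ncard := fun x => by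
    rw [← Nat.card_eq_fintype_card, Nat.card_coe_set_eq]
    exact Set.ncard_congr (fun p _ => p.1) (fun p hp => ⟨p.2, congrArg Subtype.val hp⟩)
      (fun _ _ _ _ => Subtype.ext) fun p hp => ⟨⟨p, hp.1⟩, Subtype.ext hp.2, rfl⟩
  have := MulAction.sum_card_fixedBy_eq_card_orbits_mul_card_group E U
  rw [← Finset.add_sum_erase _ _ (Finset.mem_univ 1), Finset.sum_const_nat (m := c) fun x hx =>
    (k x).trans (h x x.2 fun e => (Finset.mem_erase.1 hx).1 (Subtype.ext e)), k, Finset.card_erase_of_mem (Finset.mem_univ _),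
    Finset.card_univ, ← Nat.card_eq_fintype_card (α := E)] at this
  exact Dvd.intro_left _ (this.symm.trans (by simp))

theorem k7 : (∀ w ∈ lts 15, eqM 20 (nth (mo 20) TG) (lapp w w) [] = true) ∧ (∀ x ∈ TG, x < 2 ^ (20 * 20)) ∧
    (∀ w ∈ (lts 15).tail, eqM 20 (nth (mo 20) TG) (lapp w [27]) (lapp [27] w) = true) ∧ nV = 2 ^ 20 ∧
    eG [27] ≠ mo 20 := by decide +kernel

theorem eG_lt (w : List ℕ) : eG w < 2 ^ (20 * 20) :=
  rp_evW (Rp := fun x (_ : Equiv.Perm Unit) => x < 2 ^ (20 * 20)) (f := fun _ => 1) (mo_lt (n := 20) (by decide))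
    (fun _ _ => mm_lt (n := 20) (by decide) _ _) fun x _ =>
      (nth_mem_or (mo 20) TG x).elim (k7.2.1 _) fun e => e.trans_lt (mo_lt (n := 20) (by decide))

/-- centralised by an element of order three -/
def Gd (H : Subgroup G) (t : G) : Prop := ∃ y ∈ H, orderOf y = 3 ∧ y * t = t * y

theorem Gd.conj {H : Subgroup G} {t c : G} (hc : c ∈ H) (h : Gd H (c * t * c⁻¹)) : Gd H t :=
  have ⟨y, a, b, d⟩ := h
  ⟨c⁻¹ * y * c, mul_mem (mul_mem (inv_mem hc) a) hc, by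
    rw [← b]; simpa using (MulAut.conj c⁻¹).orderOf_eq y, by
    rw [show c⁻¹ * y * c * t = c⁻¹ * (y * (c * t * c⁻¹)) * c by group, d]; group⟩

theorem Gd.mono {H K : Subgroup G} {t : G} (l : H ≤ K) (h : Gd H t) : Gd K t := h.imp fun _ k => ⟨l k.1, k.2⟩

theorem card_c1 {c : G} (hc : c ∈ 𝐍(A)) (y : G) : Nat.card ↥(A ⊓ 𝐂₁(c * y * c⁻¹)) = Nat.card ↥(A ⊓ 𝐂₁(y)) := by
  rw [← card_cj c (A ⊓ 𝐂₁(y)), cj_inf, cj_eq_self hc, cj_centralizer_singleton]

/-- conjugate to the value of a word -/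
def Ty (L : Subgroup G) (g : ℕ → G) (w : List ℕ) (y : G) : Prop := ∃ c ∈ L, c * y * c⁻¹ = ev g w

theorem Ty.conj {w : List ℕ} {y c : G} (hc : c ∈ L) (h : Ty L g w (c * y * c⁻¹)) : Ty L g w y :=
  have ⟨d, a, b⟩ := h
  ⟨d * c, mul_mem a hc, by rw [← b]; group⟩

namespace Md
variable (h : Md A L ν g)
include h

theorem ac (w : List ℕ) : Ac 20 A ν (ev g w) (eG w) := h.co.cd.ev h.tb w

theorem em (w : List ℕ) : ev g w ∈ L := ev_mem h.mem w

theorem cle (ws : List (List ℕ)) : clo g ws ≤ L := clo_le.2 fun w _ => h.em w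

theorem ext {x y : G} {c : ℕ} (hx : x ∈ L) (hy : y ∈ L) (a : Ac 20 A ν x c) (b : Ac 20 A ν y c) : x = y :=
  ac_ext h.co h.ff hx hy a b

theorem eqv : Bt.Eqv g (eqM 20 (nth (mo 20) TG)) := fun u w e =>
  h.ext (h.em u) (h.em w) (h.ac u) ((beq_iff.1 e : eG u = eG w) ▸ h.ac w)

theorem cm {a b : G} (ha : a ∈ A) (hb : b ∈ A) : a * b = b * a :=
  (co_comm h.co (h.co.ac_self hb) ha).2 (vm_mo h.co.pos (h.co.lt a ha))

theorem sq {a : G} (ha : a ∈ A) : a * a = 1 :=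
  co_ext h.co (mul_mem ha ha) (one_mem A) (by rw [h.co.mul a ha a ha, Nat.xor_self, h.co.one])

theorem dis {x : G} (a : x ∈ A) (b : x ∈ L) : x = 1 := h.ff x b (mem_centralizer_iff.2 fun _ k => h.cm k a)

theorem reps : Reps (h.co.dom k7.2.2.2.1) nG g :=
  h.co.reps _ h.tb k2.1 fun i hi => h.one i (k2.2 ▸ hi) ▸ h.co.cd.one'

theorem big {ws : List (List ℕ)} {b : ℕ} (hb : b < nV) :
    pop nV (orb nG ws 1 (Nat.shiftLeft (nat_lit 1) b)) ≤ Nat.card (clo g ws) := by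
  rw [← h.reps.ncard_orb (by decide) ws 1 hb, card_eq_orb_mul _ ((h.co.dom k7.2.2.2.1).pt b)]
  exact (Set.ncard_le_ncard (fun _ hx => h.reps.exists_of_mem_orb_pt (fun _ => ev_mem_clo g) hb hx)
    (orbIn_finite _ _)).trans (Nat.le_mul_of_pos_right _ Nat.card_pos)

theorem two_le {T : Subgroup G} (p : IsPGroup 2 T) (l : T ≤ L) : Nat.card T ≤ 2 ^ 15 := by
  obtain ⟨k, e⟩ := p.exists_card_eq
  have := card_dvd_of_le l
  rw [h.card, e] at this
  exact e ▸ Nat.pow_le_pow_right two_pos (not_lt.1 fun n => absurd ((pow_dvd_pow 2 n).trans this) (by decide))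

theorem syl : IsSyl 2 (clo g (lts 15)) L :=
  have ⟨_, t⟩ := exists_isSyl 2 L
  t.of_card_le ((h.eqv.pc k1.2.2.2.2.2.2).pgroup two_ne_zero) (h.cle _)
    ((h.two_le t.isPGroup t.le).trans (k3.1.ge.trans (h.big (by decide))))

theorem cardC {y : G} {x : ℕ} (a : Ac 20 A ν y x) : Nat.card ↥(A ⊓ 𝐂₁(y)) = nfx x := by
  rw [nfx, force_eq, ← h.co.ncard_mask k7.2.2.2.1 (by decide) (Nat.lt_pow_two_of_testBit _ fun i hi =>
    Bool.eq_false_iff.2 fun e => hi.not_gt ((fixM_iff k7.2.2.2.1).1 e).1)]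
  exact congrArg Set.ncard (Set.ext fun e => and_congr_right fun he => mem_c1.trans ((co_comm h.co a he).trans
    ((fixM_iff k7.2.2.2.1).trans (and_iff_right (k7.2.2.2.1 ▸ h.co.lt e he))).symm))

theorem tyC {w : List ℕ} {y : G} (t : Ty L g w y) : Nat.card ↥(A ⊓ 𝐂₁(y)) = nfx (eG w) :=
  have ⟨_, a, b⟩ := t
  (card_c1 (h.nor a) y).symm.trans (b ▸ h.cardC (h.ac w))

theorem run {y : G} (hy : y ∈ clo g (lts 15)) (yy : y * y = 1) (y1 : y ≠ 1) : ∃ x < 2 ^ (20 * 20), Ac 20 A ν y x ∧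
    ((∃ w ∈ lts 15, mm 20 (eG w) (mm 20 x (eG w)) < x) ∨ Ty L g [29] y ∨ Ty L g [27] y ∨ Ty L g [3, 19, 29] y) ∧
    ((∀ s ∈ clo g (lts 15), s * y = y * s) → y = ev g [29]) ∧ (ev g [27] * y = y * ev g [27] →
      ∀ W ≤ A ⊓ 𝐂₁(ev g [27]) ⊓ 𝐂₁(y), Nat.card W < 1024 ∨ Nat.card ↥(A ⊓ 𝐂₁(y)) = 2 ^ 14 ∨
        x ∈ LBs ∧ (Nat.card W < 2048 ∨ y = ev g [27])) := by
  obtain ⟨x, l, a, p⟩ := (h.co.pc_all (fun g _ => nbot g) h.tb k1.2.2.2.2.2.2 (K := ⊥)
    (fun _ e => (mem_bot.1 e).symm ▸ h.co.cd.one') (mem_sup_left hy)).2 phi k5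
  have yL := h.cle _ hy
  have c : ∀ w, ev g w * y = y * ev g w → mm 20 (eG w) x = mm 20 x (eG w) := fun w e => h.co.uniq'
    (h.co.cd.mul' (h.ac w) a) (e ▸ h.co.cd.mul' a (h.ac w)) (mm_lt (by decide) _ _) (mm_lt (by decide) _ _)
  have d : ∀ {w}, x = eG w → y = ev g w := fun e => h.ext yL (h.em _) a (e ▸ h.ac _)
  simp only [phi, Bool.or_eq_true, Bool.and_eq_true, Bool.not_eq_true', beq_iff, beq_false_iff, lany_iff, force_eq,
    Nat.blt_eq] at p
  obtain ⟨⟨p1, p2⟩, p3⟩ := p.resolve_left (not_or.2 ⟨not_not.2 (h.co.uniq' (h.co.cd.mul' a a) (yy ▸ h.co.cd.one')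
    (mm_lt (by decide) _ _) (mo_lt (by decide))), fun e => y1 (h.ext yL (one_mem L) a (e ▸ h.co.cd.one'))⟩)
  refine ⟨x, l, a, p1.imp_right fun ⟨w, _, e⟩ => ?_, fun k => d (p2.resolve_right fun ⟨w, hw, e⟩ =>
    e (c w (k _ (ev_mem_clo g hw)))), fun k W hW => ?_⟩
  · have t : ∀ {v}, mm 20 (eG w) (mm 20 x (eG (winv w))) = eG v → Ty L g v y := fun e => ⟨_, h.em w, by
      rw [← ev_winv, mul_assoc]
      exact h.ext (mul_mem (h.em w) (mul_mem yL (h.em _))) (h.em _)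
        (h.co.cd.mul' (h.ac w) (h.co.cd.mul' a (h.ac _))) (e ▸ h.ac _)⟩
    exact e.elim (Or.imp t fun e => .inl (t e)) fun e => .inr (.inr (t e))
  have b : Nat.card W ≤ pop 4096 (Nat.land (fixM 20 4096 (mm 20 ctB.2.2.1 (x ^^^ mo 20) ^^^ mo 20)) (full 4096)) := by
    obtain ⟨-, ⟨t1, t2⟩, t3, -⟩ := k6
    have o : ∀ e ∈ W, vm 20 (vm 20 (ν e) ctB.2.1) ctB.2.2.1 = ν e := fun e he => by
      have := congrArg (vm 20 (ν e)) t1
      rwa [t3, vm_xor', vm_xor', vm_mm (by decide), vm_mm (by decide), vm_mm (by decide), vm_xor',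
        (co_comm h.co (h.ac _) (hW he).1.1).1 (mem_c1.1 (hW he).1.2), vm_mo (by decide) (h.co.lt e (hW he).1.1),
        Nat.xor_self, vm_zero, vm_zero', vm_zero, Nat.zero_xor, Nat.xor_zero] at this
    refine le_trans ?_ (ncard_le_pop (W := (fun e => vm 20 (ν e) ctB.2.1) '' W) (by decide) ?_)
    · exact (Set.InjOn.ncard_image fun u hu v hv e => co_ext h.co (hW hu).1.1 (hW hv).1.1
        ((o u hu).symm.trans ((congrArg (vm 20 · _) e).trans (o v hv)))).ge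
    rintro _ ⟨e, he, rfl⟩
    have := vm_rows le_rfl t2 (h.co.lt e (hW he).1.1)
    exact ⟨this, fixM_of this (by
      rw [vm_xor', vm_mm (by decide), o e he, vm_xor', (co_comm h.co a (hW he).1.1).1 (mem_c1.1 (hW he).2),
        vm_mo (by decide) (h.co.lt e (hW he).1.1), Nat.xor_self, Nat.zero_xor, vm_mo (by decide) (vm_lt _ _ _)])⟩
  rcases p3.resolve_left (not_not.2 (c _ k)) with (e | ⟨_, m, rfl⟩) | ⟨⟨_, m, rfl⟩, e⟩
  exacts [.inl (b.trans_lt e), .inr (.inl ((h.cardC a).trans (k4.2.2.2.2.2.2 _ m))),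
    .inr (.inr ⟨m, e.imp b.trans_lt d⟩)]

theorem cls {y : G} (hy : y ∈ L) (yy : y * y = 1) (y1 : y ≠ 1) :
    Ty L g [29] y ∨ Ty L g [27] y ∨ Ty L g [3, 19, 29] y := by
  have j : ∀ {c y}, c ∈ L → Ty L g [29] (c * y * c⁻¹) ∨ Ty L g [27] (c * y * c⁻¹) ∨ Ty L g [3, 19, 29] (c * y * c⁻¹) →
      Ty L g [29] y ∨ Ty L g [27] y ∨ Ty L g [3, 19, 29] y := fun c => Or.imp (.conj c) (Or.imp (.conj c) (.conj c))
  have k : ∀ n, ∀ y ∈ clo g (lts 15), y * y = 1 → y ≠ 1 → n < 2 ^ (20 * 20) → Ac 20 A ν y n →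
      Ty L g [29] y ∨ Ty L g [27] y ∨ Ty L g [3, 19, 29] y := fun n => Nat.strong_induction_on n fun n ih y hy yy y1 l a => by
    obtain ⟨x, l', a', p, -⟩ := h.run hy yy y1
    obtain rfl := h.co.uniq' a a' l l'
    refine p.elim (fun ⟨w, hw, e⟩ => j (h.em w) (ih _ e _ (mul_mem (mul_mem (ev_mem_clo g hw) hy)
      (inv_mem (ev_mem_clo g hw))) (by rw [conj_mul, yy, mul_one, mul_inv_cancel]) (by simpa using y1)
      (mm_lt (by decide) _ _) ?_)) id
    rw [mul_assoc, inv_eq_of_mul_eq_one_right ((ev_lapp g w w).symm.trans (h.eqv _ _ (k7.1 w hw)))]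
    exact h.co.cd.mul' (h.ac w) (h.co.cd.mul' a (h.ac w))
  obtain ⟨c, hc, l⟩ := h.syl.exists_cj_le (isPGroup_zpowers (k := 1) (by rwa [pow_one, pow_two])) (zpowers_le.2 hy)
  have m := l (conj_mem_cj c (mem_zpowers y))
  obtain ⟨x, l, a⟩ := h.co.ex (h.nor (h.cle _ m)) (nbot _)
  exact j hc (k x _ m (by rw [conj_mul, yy, mul_one, mul_inv_cancel]) (by simpa using y1) l a)

theorem c14 {y : G} (hy : y ∈ L) (yy : y * y = 1) (y1 : y ≠ 1) : Nat.card ↥(A ⊓ 𝐂₁(y)) ≤ 2 ^ 14 := by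
  obtain ⟨-, -, -, a, b, c, -⟩ := k4
  rcases h.cls hy yy y1 with t | t | t <;> rw [h.tyC t]
  exacts [a.le, b.trans_le (by decide), c.trans_le (by decide)]

end Md

end CF.E62
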