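import Cfsg.Agent.E62.S2

/-! Involutions of the split extension. -/

set_option autoImplicit false
set_option linter.unusedSectionVars false
set_option maxRecDepth 100000
set_option exponentiation.threshold 500

namespace CF.E62

open Cfsg Subgroup CF.Loc CF.LX CF.J4 CF.Comp CF.Dce Function
open scoped Pointwise

variable {G : Type*} [Group G] [Finite G] {A L E : Subgroup G} {ν : G → ℕ} {g : ℕ → G}

theorem two_of_sq (sq : ∀ x ∈ E, x * x = 1) : IsPGroup 2 E :=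
  isPGroup_iff_forall.2 fun x hx => ⟨1, by rw [pow_one, pow_two, sq x hx]⟩

theorem sq_cj (c : G) (sq : ∀ x ∈ E, x * x = 1) : ∀ x ∈ cj[c] E, x * x = 1 := by
  rintro _ ⟨x, hx, rfl⟩
  rw [← map_mul, sq x hx, map_one]

namespace Md
variable (h : Md A L ν g)
include h

theorem ord {v : List ℕ} {c : ℕ × ℕ × ℕ × ℕ} {k : ℕ} {Y : List (List ℕ)} (cg : cosG v c k Y = true) {w : List ℕ}
    (hw : w ∈ Y) : orderOf (ev g w) = 3 ∧ ev g w * ev g v = ev g v * ev g w := by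
  have := lall_iff.1 (Bool.and_eq_true_iff.1 cg).1 w hw
  simp only [Bool.and_eq_true, Bool.not_eq_true'] at this
  exact ⟨orderOf_eq_prime ((ev_wpow g w 3).symm.trans (h.eqv _ _ this.1.1)) fun e => beq_false_iff.1 this.1.2
    (h.co.uniq' (h.ac w) (e ▸ h.co.cd.one') (eG_lt _) (mo_lt (by decide))),
    (ev_lapp g w v).symm.trans ((h.eqv _ _ this.2).trans (ev_lapp g v w))⟩

theorem g1 {a : G} (ha : a ∈ A) : Gd L a := by
  obtain ⟨c, hc, _, hy, e⟩ := h.reps.exists_of_mem_orb (H := L) (fun w _ => h.em w) (x := (h.co.dom k7.2.2.2.1).pt (ν a))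
    (k3.2.2 ▸ Dom.mem_set_full.2 ⟨_, k7.2.2.2.1 ▸ h.co.lt a ha, rfl⟩)
  obtain ⟨i, hi, b, rfl⟩ := Dom.mem_set.1 hy
  obtain ⟨u, hu, rfl⟩ := h.co.surj i (k7.2.2.2.1 ▸ hi)
  obtain ⟨p, q⟩ := h.co.conj_of_smul _ hu e
  refine .conj (inv_mem hc) ⟨_, h.em [37], (h.ord k6.2.2.2.2.2.1 (by simp)).1, ?_⟩
  rw [← co_ext h.co p ha q, show c⁻¹ * (c * u * c⁻¹) * c⁻¹⁻¹ = u by group]
  exact ((co_comm h.co (h.ac _) hu).2 ((fixM_iff k7.2.2.2.1).1 b).2).symm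

theorem cos {v : List ℕ} {c : ℕ × ℕ × ℕ × ℕ} {k : ℕ} {Y : List (List ℕ)} (ct : Ct (eG v) c k)
    (cg : cosG v c k Y = true) {a : G} (ha : a ∈ A) (e : a * ev g v = ev g v * a) : Gd (A ⊔ L) (a * ev g v) := by
  have la := h.co.lt a ha
  obtain ⟨w, hw, b⟩ := lany_iff.1 (allFrom_zero.1 (Bool.and_eq_true_iff.1 cg).2 _ (vm_rows le_rfl ct.2 la))
  obtain ⟨o, cm⟩ := h.ord cg hw
  rw [force_eq, beq_iff] at b
  have t := congrArg (vm 20 (ν a)) ct.1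
  rw [vm_xor', vm_xor', vm_mm (by decide), vm_mm (by decide), vm_mm (by decide), vm_xor' 20 (ν a),
    (co_comm h.co (h.ac _) ha).1 e, vm_mo (by decide) la, Nat.xor_self, vm_zero, Nat.zero_xor] at t
  have ls := vm_lt 20 (vm 20 (ν a) c.2.1) c.2.2.1
  generalize vm 20 (vm 20 (ν a) c.2.1) c.2.2.1 = s at b t ls
  obtain ⟨u, hu, q⟩ := h.co.surj _ (Nat.xor_lt_two_pow (vm_lt 20 (vm 20 s (eG w ^^^ eG (lapp w w))) c.2.2.2)
    (vm_lt 20 (ν a) c.2.2.2))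
  have n := (h.ac v).1
  have m := norm_mem n hu
  have r : ν (u * a * ((ev g v)⁻¹ * u * ev g v)) = s ^^^ vm 20 s (eG w ^^^ eG (lapp w w)) := by
    have : vm 20 (ν u) (eG v ^^^ mo 20) = vm 20 (ν u) (eG v) ^^^ ν u := by
      rw [vm_xor', vm_mo (by decide) (h.co.lt u hu)]
    rw [h.co.mul _ (mul_mem hu ha) _ m, h.co.mul _ hu _ ha, (h.ac v).2 u hu, Nat.xor_comm (ν u), Nat.xor_assoc,
      Nat.xor_comm (ν u), ← this, q, vm_xor, b]
    nth_rw 1 [← t]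
    rw [Nat.xor_comm (vm 20 s _), Nat.xor_assoc, Nat.xor_xor_cancel_left]
  have w2 : mm 20 (eG w) (eG w) = eG (lapp w w) :=
    h.co.uniq' (h.co.cd.mul' (h.ac w) (h.ac w)) (ev_lapp g w w ▸ h.ac _) (mm_lt (by decide) _ _) (eG_lt _)
  have w3 : mm 20 (eG (lapp w w)) (eG w) = mo 20 := h.co.uniq' (h.co.cd.mul' (h.ac _) (h.ac w)) (by
    rw [ev_lapp, ← pow_three', ← o, pow_orderOf_eq_one]; exact h.co.cd.one') (mm_lt (by decide) _ _) (mo_lt (by decide))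
  have f := (co_comm h.co (h.ac w) (mul_mem (mul_mem hu ha) m)).2 (by
    rw [r, vm_xor', vm_xor, vm_xor, ← vm_mm (by decide), ← vm_mm (by decide), w2, w3, vm_mo (by decide) ls,
      Nat.xor_comm s, Nat.xor_assoc])
  refine .conj (mem_sup_left hu) ⟨_, mem_sup_right (h.em w), o, ?_⟩
  rw [show u * (a * ev g v) * u⁻¹ = ev g v * (u * a * ((ev g v)⁻¹ * u * ev g v)) by
    rw [h.cm (mul_mem hu ha) m, h.cm hu ha, e, inv_eq_of_mul_eq_one_right (h.sq hu)]; group,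
    ← mul_assoc, cm, mul_assoc, ← f, ← mul_assoc]

theorem ty {a x : G} (ha : a ∈ A) (hx : x ∈ L) (s : a * x * (a * x) = 1) :
    x * x = 1 ∧ a * x = x * a ∧ (x = 1 ∨ Gd (A ⊔ L) (a * x) ∨ Ty L g [27] x) := by
  have m := mul_mem ha (norm_mem' (h.nor hx) ha)
  have xx : x * x = 1 := h.dis (by
    rw [show x * x = (a * (x * a * x⁻¹))⁻¹ * (a * x * (a * x)) by group, s, mul_one]; exact inv_mem m) (mul_mem hx hx)
  have e : a * x = x * a := by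
    rw [← inv_eq_of_mul_eq_one_right s, mul_inv_rev, inv_eq_of_mul_eq_one_right xx,
      inv_eq_of_mul_eq_one_right (h.sq ha)]
  refine ⟨xx, e, (eq_or_ne x 1).imp_right fun x1 => ?_⟩
  have k : ∀ {v c k Y}, Ct (eG v) c k → cosG v c k Y = true → Ty L g v x → Gd (A ⊔ L) (a * x) :=
    fun ct cg ⟨c, hc, q⟩ => .conj (mem_sup_right hc) (by
      rw [← conj_mul, q]
      exact h.cos ct cg (norm_mem' (h.nor hc) ha) (by rw [← q, conj_mul, conj_mul, e]))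
  rcases h.cls hx xx x1 with t | t | t
  exacts [.inl (k k6.1 k6.2.2.2.2.1 t), .inr t, .inl (k k6.2.2.2.1 k6.2.2.2.2.2.1 t)]

theorem syl1 : IsSyl 2 (clo g (lts 15).tail) (L ⊓ 𝐂₁(ev g [27])) := by
  have l : clo g (lts 15).tail ≤ clo g (lts 15) := clo_le.2 fun w hw => ev_mem_clo g (List.mem_of_mem_tail hw)
  obtain ⟨P, p, q⟩ := exists_isSyl_ge (h.syl.isPGroup.to_le l) (L := L ⊓ 𝐂₁(ev g [27])) (clo_le.2 fun w hw =>
    ⟨h.em w, mem_c1.2 ((ev_lapp g w _).symm.trans ((h.eqv _ _ (k7.2.2.1 w hw)).trans (ev_lapp g _ w)))⟩)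
  refine (eq_of_le_of_card_ge q (le_trans ?_ (k3.2.1.ge.trans (h.big (by decide))))).symm ▸ p
  obtain ⟨k, e⟩ := p.isPGroup.exists_card_eq
  have pL := p.le.trans inf_le_left
  refine e ▸ Nat.pow_le_pow_right two_pos (not_lt.1 fun n => ?_)
  obtain ⟨c, hc, r⟩ := (h.syl.of_card_le p.isPGroup pL ((h.two_le h.syl.isPGroup h.syl.le).trans
    (e ▸ Nat.pow_le_pow_right two_pos n))).conj h.syl
  have b : ev g [27] * ev g [27] = 1 := (ev_lapp g _ _).symm.trans (h.eqv _ _ (k7.1 _ (by decide)))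
  have t : Ty L g [27] (c * ev g [27] * c⁻¹) := ⟨c⁻¹, inv_mem hc, by group⟩
  obtain ⟨-, -, -, -, z, -⟩ := h.run (r ▸ conj_mem_cj c (q (ev_mem_clo g (w := [27]) (by decide))))
    (by rw [conj_mul, b, mul_one, mul_inv_cancel]) fun e => k7.2.2.2.2 (h.co.uniq' (h.ac _)
      ((conj_eq_one_iff.1 e : ev g [27] = 1) ▸ h.co.cd.one') (eG_lt _) (mo_lt (by decide)))
  have := h.tyC t
  rw [z (by
    rw [← r]; rintro _ ⟨s, hs, rfl⟩
    exact (conj_mul ..).trans ((congrArg (c * · * c⁻¹) (mem_c1.1 (p.le hs).2)).trans (conj_mul ..).symm)),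
    h.cardC (h.ac _), k4.2.2.2.1, k4.2.2.2.2.1] at this
  exact absurd this (by decide)

theorem le16 (l : E ≤ L) (sq : ∀ x ∈ E, x * x = 1) (ty : ∀ x ∈ E, x ≠ 1 → Ty L g [27] x) :
    ∃ k ≤ 4, Nat.card E = 2 ^ k := by
  have st : ∀ x ∈ L, ∀ p ∈ (h.co.dom k7.2.2.2.1).set oM, x • p ∈ (h.co.dom k7.2.2.2.1).set oM := fun x hx p hp =>
    (h.reps.closedW k4.1 (h.gen hx) : x • _ = _) ▸ Set.smul_mem_smul_set hp
  have := burn (E := E) (Dom.set_finite _ oM) (fun x hx => st x (l hx)) (c := 75) fun x hx x1 => by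
    obtain ⟨c, hc, q⟩ := ty x hx x1
    rw [← k4.2.2.1, ← (h.co.dom k7.2.2.2.1).ncard_set_of_lt (by decide) (v := Nat.land _ _) (Nat.and_lt_two_pow _
      (Nat.lt_pow_two_of_testBit _ fun i hi => Bool.eq_false_iff.2 fun e => hi.not_gt ((fixM_iff k7.2.2.2.1).1 e).1)),
      Dom.set_land]
    have f : ∀ i < nV, (fixM 20 nV (eG [27])).testBit i = true ↔
        ev g [27] • (h.co.dom k7.2.2.2.1).pt i = (h.co.dom k7.2.2.2.1).pt i := fun i hi => by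
      obtain ⟨u, hu, rfl⟩ := h.co.surj i (k7.2.2.2.1 ▸ hi)
      rw [fixM_iff k7.2.2.2.1, and_iff_right hi, ← co_comm h.co (h.ac _) hu, h.co.smul_of _ (h.ac _).1 (nbot _) hu]
      exact ⟨fun e => by rw [mul_inv_eq_of_eq_mul e.symm], fun e => (eq_mul_of_mul_inv_eq (co_ext h.co
        (norm_mem' (h.ac _).1 hu) hu ((h.co.dom k7.2.2.2.1).inj _ (k7.2.2.2.1 ▸ h.co.lt _ (norm_mem' (h.ac _).1 hu))
          _ hi e))).symm⟩
    refine Set.ncard_congr (fun p _ => c • p) (fun p hp => ⟨st c hc p hp.1, ?_⟩)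
      (fun _ _ _ _ e => MulAction.injective c e) fun p hp => ⟨c⁻¹ • p, ⟨st _ (inv_mem hc) p hp.1, ?_⟩, smul_inv_smul c p⟩
    · obtain ⟨i, hi, -, e⟩ := Dom.mem_set.1 (st c hc p hp.1)
      exact Dom.mem_set.2 ⟨i, hi, (f i hi).2 (by rw [e, ← q, mul_smul, mul_smul, inv_smul_smul, hp.2]), e⟩
    · obtain ⟨i, hi, b, rfl⟩ := Dom.mem_set.1 hp.2
      rw [eq_inv_smul_iff, ← mul_smul, ← mul_smul, q, (f i hi).1 b]
  rw [oM, h.reps.ncard_orb (by decide) _ _ (by decide), ← oM, k4.2.1] at this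
  obtain ⟨k, e⟩ := (two_of_sq sq).exists_card_eq
  refine ⟨k, not_lt.1 fun n => ?_, e⟩
  have a : 32 ∣ Nat.card E := e ▸ pow_dvd_pow 2 n
  have b := a.trans this
  have := Nat.card_pos (α := E)
  omega

theorem pure0 (l : E ≤ clo g (lts 15)) (b : ev g [27] ∈ E) (cm : E ≤ 𝐂(E)) (sq : ∀ x ∈ E, x * x = 1)
    (ty : ∀ x ∈ E, x ≠ 1 → Ty L g [27] x) : Nat.card ↥(A ⊓ 𝐂(E)) * Nat.card E ^ 2 < 2 ^ 18 := by
  have lL := l.trans h.syl.le
  obtain ⟨k, k4', e⟩ := h.le16 lL sq ty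
  have i : ∀ y ∈ E, A ⊓ 𝐂(E) ≤ A ⊓ 𝐂₁(y) := fun y hy => inf_le_inf_left _ fun x hx => mem_c1.2 (hx y hy).symm
  have w : Nat.card ↥(A ⊓ 𝐂(E)) ≤ 2 ^ 12 := (card_le_of_le (i _ b)).trans ((h.cardC (h.ac _)).trans k4.2.2.2.2.1).le
  have r : 1024 ≤ Nat.card ↥(A ⊓ 𝐂(E)) → ∀ y ∈ E, y = 1 ∨ ∃ x ∈ LBs, Ac 20 A ν y x ∧
      (Nat.card ↥(A ⊓ 𝐂(E)) < 2048 ∨ y = ev g [27]) := fun n y hy => (eq_or_ne y 1).imp_right fun y1 => by
    obtain ⟨x, -, a, -, -, z⟩ := h.run (l hy) (sq y hy) y1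
    refine ⟨x, ?_⟩
    rcases z (cm hy _ b) _ (le_inf (i _ b) ((i y hy).trans inf_le_right)) with z | z | z
    · omega
    · exact absurd ((h.tyC (ty y hy y1)).symm.trans z) (by rw [k4.2.2.2.2.1]; decide)
    · exact ⟨z.1, a, z.2⟩
  rcases lt_or_ge (Nat.card ↥(A ⊓ 𝐂(E))) 1024 with n | n
  · have : Nat.card E ^ 2 ≤ 16 ^ 2 := Nat.pow_le_pow_left (e ▸ Nat.pow_le_pow_right two_pos k4') 2
    nlinarith
  rcases lt_or_ge (Nat.card ↥(A ⊓ 𝐂(E))) 2048 with m | m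
  · have := card_le_rel (Z := ⊥) (r := Ac 20 A ν) (fun _ a _ b _ c d => inv_mul_eq_one.2 (h.ext (lL a) (lL b) c d)) (L := mo 20 :: LBs)
      fun y hy => (r n y hy).elim (fun e => ⟨_, List.mem_cons_self, e ▸ h.co.cd.one'⟩)
        fun ⟨x, a, b, _⟩ => ⟨x, List.mem_cons_of_mem _ a, b⟩
    rw [List.length_cons, k6.2.2.2.2.2.2, inf_bot_eq, card_bot, e] at this
    have : Nat.card E ^ 2 ≤ 8 ^ 2 := Nat.pow_le_pow_left (e ▸ Nat.pow_le_pow_right two_pos (show k ≤ 3 by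
      rcases k4'.eq_or_lt with rfl | c <;> omega)) 2
    nlinarith
  have := card_le_rel (Z := ⊥) (r := fun y (x : Bool) => y = cond x 1 (ev g [27]))
    (fun _ _ _ _ _ c d => inv_mul_eq_one.2 (c.trans d.symm)) (L := [true, false]) fun y hy => (r n y hy).elim
      (fun e => ⟨true, by simp, e⟩) fun ⟨_, _, _, c⟩ => ⟨false, by simp, c.resolve_left m.not_gt⟩
  rw [inf_bot_eq, card_bot] at this
  have : Nat.card E ^ 2 ≤ 2 ^ 2 := Nat.pow_le_pow_left this 2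
  nlinarith

theorem pure (l : E ≤ L) (cm : E ≤ 𝐂(E)) (sq : ∀ x ∈ E, x * x = 1) (ty : ∀ x ∈ E, x ≠ 1 → Ty L g [27] x)
    (ne : E ≠ ⊥) : Nat.card ↥(A ⊓ 𝐂(E)) * Nat.card E ^ 2 < 2 ^ 18 := by
  obtain ⟨⟨y, hy⟩, y1⟩ := ne_bot_iff_exists_ne_one.1 ne
  obtain ⟨c, hc, q⟩ := ty y hy fun e => y1 (Subtype.ext e)
  obtain ⟨d, hd, r⟩ := h.syl1.exists_cj_le (isPGroup_cj c (two_of_sq sq)) (le_inf (cj_le_of_mem hc l) (by
    rw [← q, ← cj_centralizer_singleton]; exact cj_mono c fun x hx => mem_c1.2 (cm hy x hx)))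
  have m := mul_mem hd.1 hc
  rw [← cj_mul] at r
  rw [← card_cj (d * c) E, ← card_cj (d * c) (A ⊓ _), cj_inf, cj_eq_self (h.nor m), cj_centralizer]
  refine h.pure0 (r.trans (clo_le.2 fun w hw => ev_mem_clo g (List.mem_of_mem_tail hw))) ?_
    (cj_centralizer _ E ▸ cj_mono _ cm) (sq_cj _ sq) ?_
  · rw [← mul_inv_eq_of_eq_mul (mem_c1.1 hd.2), ← q, cj_mul]
    exact conj_mem_cj d (conj_mem_cj c hy)
  · rintro _ ⟨x, hx, rfl⟩ n
    exact .conj (inv_mem m) (by simpa [mul_assoc] using ty x hx fun e => n (by simp [e]))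

end Md

end CF.E62
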