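import Cfsg.Agent.E62.S3

/-! Strong closure of the module. -/

set_option autoImplicit false
set_option linter.unusedSectionVars false

namespace CF.E62

open Cfsg Subgroup CF.Loc CF.LX CF.J4 CF.Comp CF.Dce Function
open scoped Pointwise commutatorElement

variable {G : Type*} [Group G] [Finite G] {A B K L E S : Subgroup G} {ν : G → ℕ} {g : ℕ → G}

/-- there are no pure offenders -/
structure PP (A : Subgroup G) : Prop where
  cm : A ≤ 𝐂(A)
  sq : ∀ x ∈ A, x * x = 1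
  p : ∀ E ≤ 𝐍(A), E ≤ 𝐂(E) → (∀ x ∈ E, x * x = 1) → (∀ x ∈ E, ∃ c, x ∈ cj[c] A) → ¬ E ≤ A →
    Nat.card E ^ 2 < Nat.card A * Nat.card ↥(A ⊓ E)

namespace PP
variable (h : PP A)
include h

theorem cj (c : G) : PP (cj[c] A) := ⟨cj_centralizer c A ▸ cj_mono c h.cm, sq_cj c h.sq, fun E a b d e n => by
  have := h.p (cj[c⁻¹] E) (le_cj_iff.1 (cj_normalizer c A ▸ a)) (cj_centralizer _ E ▸ cj_mono _ b) (sq_cj _ d)
    (by
      rintro _ ⟨x, hx, rfl⟩
      obtain ⟨k, hk⟩ := e x hx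
      exact ⟨c⁻¹ * (k * c), by rw [cj_mul, cj_mul]; exact conj_mem_cj c⁻¹ hk⟩) (mt le_cj_iff.2 n)
  rwa [card_cj, ← card_cj c (A ⊓ _), cj_inf, cj_cj_inv, ← card_cj c A] at this⟩

theorem wk {c : G} (l : cj[c] A ≤ 𝐍(A)) : c ∈ 𝐍(A) := by
  refine mem_normalizer_of_cj_le (by_contra fun n => ?_)
  have := h.p _ l (h.cj c).cm (h.cj c).sq (fun x hx => ⟨c, hx⟩) n
  rw [card_cj, pow_two] at this
  exact this.not_ge (Nat.mul_le_mul_left _ (card_le_of_le inf_le_left))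

theorem nrm (p : IsPGroup 2 S) (l : A ≤ S) : S ≤ 𝐍(A) := by
  by_contra n
  obtain ⟨x, a, b⟩ := SetLike.exists_of_lt (lt_inf_normalizer p (Q := S ⊓ 𝐍(A)) (inf_lt_left.2 n))
  exact b ⟨a.1, h.wk ((cj_le_of_mem_normalizer a.2 (le_inf l le_normalizer)).trans inf_le_right)⟩

theorem sc {c t : G} (a : t ∈ cj[c] A) (b : t ∈ 𝐍(A)) : t ∈ A := by
  by_contra n
  obtain ⟨c, a, mx⟩ := Set.exists_max_image {c | t ∈ cj[c] A} (fun c => Nat.card ↥(A ⊓ cj[c] A)) (Set.toFinite _) ⟨c, a⟩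
  have p := h.cj c
  set W := A ⊓ cj[c] A with hW
  have ti : t⁻¹ = t := inv_eq_of_mul_eq_one_right (p.sq t a)
  let φ : A →* G :=
    { toFun := fun x => x * (t * x * t⁻¹)
      map_one' := by simp
      map_mul' := fun x y => by
        have := h.cm y.2 _ (norm_mem' b x.2)
        push_cast
        rw [show (x : G) * (t * x * t⁻¹) * (y * (t * y * t⁻¹)) = x * (t * x * t⁻¹ * y) * (t * y * t⁻¹) by group, this]
        group }
  have I : φ.range ≤ A ⊓ 𝐂₁(t) := by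
    rintro _ ⟨x, rfl⟩
    refine ⟨mul_mem x.2 (norm_mem' b x.2), mem_c1.2 ?_⟩
    show x * (t * x * t⁻¹) * t = t * (x * (t * x * t⁻¹))
    nth_rw 1 [← h.cm x.2 _ (norm_mem' b x.2)]
    simp only [ti, mul_assoc]
  have kr : φ.ker.map A.subtype = A ⊓ 𝐂₁(t) := by
    ext x
    refine ⟨?_, fun hx => ⟨⟨x, hx.1⟩, ?_, rfl⟩⟩
    · rintro ⟨x, hx, rfl⟩
      exact ⟨x.2, mem_c1.2 (eq_mul_of_mul_inv_eq ((eq_inv_of_mul_eq_one_right (hx : (x : G) * _ = 1)).trans
        (inv_eq_of_mul_eq_one_right (h.sq _ x.2)))).symm⟩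
    · show x * (t * x * t⁻¹) = 1
      rw [← mem_c1.1 hx.2, mul_inv_cancel_right, h.sq x hx.1]
  let R := (W.comap φ).map A.subtype
  have RA : R ≤ A := map_subtype_le _
  have WR : W ≤ R := fun x hx => ⟨⟨x, hx.1⟩, by
    show x * (t * x * t⁻¹) ∈ W
    rw [p.cm hx.2 t a, mul_inv_cancel_right]; exact mul_mem hx hx, rfl⟩
  have WC : W ≤ A ⊓ 𝐂₁(t) := fun x hx => ⟨hx.1, mem_c1.2 (p.cm hx.2 t a).symm⟩
  have cR : Nat.card A * Nat.card W ≤ Nat.card R ^ 2 := by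
    have e1 : Nat.card R = Nat.card ↥(A ⊓ 𝐂₁(t)) * Nat.card ↥(φ.range ⊓ W) := by
      rw [← kr, card_subtype, card_subtype, ← map_comap_eq, ← relIndex_ker, card_mul_relIndex (ker_le_comap φ W)]
    have e2 : Nat.card A = Nat.card ↥(A ⊓ 𝐂₁(t)) * Nat.card φ.range := by
      rw [← kr, card_subtype, ← index_ker, card_mul_index]
    have e3 := card_mul_le_of_le I WC
    have e4 : 0 < Nat.card ↥(φ.range ⊓ W) := Nat.card_pos
    rw [e1, e2, mul_assoc]
    calc _ ≤ _ := Nat.mul_le_mul_left _ e3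
      _ ≤ _ := by nlinarith [Nat.zero_le (Nat.card ↥(A ⊓ 𝐂₁(t)) ^ 2 * Nat.card ↥(φ.range ⊓ W))]
  have DB : W ⊔ zpowers t ≤ cj[c] A := sup_le inf_le_right (zpowers_le.2 a)
  obtain ⟨T, s, l⟩ := exists_isSyl_ge (p := 2) ((two_of_sq h.sq).to_le RA) (L := 𝐍(W ⊔ zpowers t)) (by
    rintro _ ⟨x, hx, rfl⟩
    refine mem_normalizer_of_cj_le (cj_le_iff.2 (sup_le (fun w hw => mem_cj.2 ?_) (zpowers_le.2 (mem_cj.2 ?_))))
    · rw [inv_inv, subtype_apply, ← h.cm x.2 w hw.1, mul_inv_cancel_right]; exact mem_sup_left hw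
    · rw [inv_inv, inv_eq_of_mul_eq_one_right (h.sq (A.subtype x) x.2),
        show A.subtype x * t * A.subtype x = x * (t * x * t⁻¹) * t by simp [mul_assoc]]
      exact mul_mem (mem_sup_left hx) (mem_sup_right (mem_zpowers t)))
  obtain ⟨m, hm, r⟩ := s.exists_cj_le (two_of_sq p.sq) (p.cm.trans (centralizer_le_normalizer_of_le DB))
  have DB' := cj_eq_self hm ▸ cj_mono m DB
  rw [← cj_mul] at r DB'
  have q := h.cj (m * c)
  have e : W = A ⊓ cj[m * c] A := eq_of_le_of_card_ge (le_inf inf_le_left (le_sup_left.trans DB'))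
    (mx _ (DB' (mem_sup_right (mem_zpowers t))))
  have f : cj[m * c] A ⊓ R = W := le_antisymm (e ▸ le_inf (inf_le_right.trans RA) inf_le_left)
    (le_inf (le_sup_left.trans DB') WR)
  have RB : R ≤ cj[m * c] A := by_contra fun k => by
    have := q.p R (l.trans (q.nrm s.isPGroup r)) (RA.trans (h.cm.trans (centralizer_anti RA))) (fun x hx => h.sq x (RA hx))
      (fun x hx => ⟨(m * c)⁻¹, (cj_inv_cj (m * c) A).symm ▸ RA hx⟩) k
    rw [card_cj, f] at this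
    exact this.not_ge cR
  rw [← inf_eq_right.2 RB, f, pow_two] at cR
  have := eq_of_le_of_card_ge (inf_le_left : W ≤ A) (Nat.le_of_mul_le_mul_right cR Nat.card_pos)
  exact n (eq_of_le_of_card_ge (this.ge.trans inf_le_right) (card_cj c A).le ▸ a)

end PP

end CF.E62
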