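import Cfsg.Agent.E62.S4

/-! No pure offenders under strong 3-embedding. -/

set_option autoImplicit false
set_option linter.unusedSectionVars false

namespace CF.E62

open Cfsg Subgroup CF.Loc CF.LX CF.J4 CF.Comp CF.Dce Function
open scoped Pointwise commutatorElement

variable {G : Type*} [Group G] [Finite G] {A B K L E S : Subgroup G} {ν : G → ℕ} {g : ℕ → G}

/-- the normaliser of the module is strongly 3-embedded -/
structure Hs (A K L : Subgroup G) (ν : G → ℕ) (g : ℕ → G) : Prop extends Md A L ν g where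
  cA : Nat.card A = 2 ^ 20
  LK : L ≤ K
  ix : Ix L K
  nA : A ⊔ K = 𝐍(A)
  bot : A ⊓ K = ⊥
  cen : ∀ x ∈ K, x ∈ 𝐂(L) → x = 1
  sim : ∀ N ≤ L, L ≤ 𝐍(N) → N = ⊥ ∨ N = L
  se : ∀ y ∈ 𝐍(A), orderOf y = 3 → ∀ c, c * y * c⁻¹ ∈ 𝐍(A) → c ∈ 𝐍(A)

namespace Hs
variable (h : Hs A K L ν g)
include h

theorem KN : K ≤ 𝐍(A) := le_sup_right.trans h.nA.le

theorem triv {N : Subgroup G} (n : L ≤ 𝐍(N)) (b : N ⊓ L = ⊥) {x : G} (hx : x ∈ K) (m : x ∈ N) : x = 1 :=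
  h.cen x hx fun y hy => commutatorElement_eq_one_iff_mul_comm.1 (mem_bot.1 (b ▸ (⟨by
    rw [commutatorElement_def]; exact N.mul_mem (norm_mem' (n hy) m) (N.inv_mem m), by
    rw [commutatorElement_def, mul_assoc, mul_assoc, ← mul_assoc x]
    exact L.mul_mem hy (norm_mem' (h.ix.norm h.LK hx) (L.inv_mem hy))⟩ : _ ∈ N ⊓ L)))

theorem g2 {t c : G} (a : t ∈ cj[c] A) (b : Gd 𝐍(A) t) : t ∈ A := by
  obtain ⟨y, hy, o, e⟩ := b
  obtain ⟨u, hu, rfl⟩ := a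
  obtain ⟨z, hz, p, f⟩ := h.g1 hu
  obtain ⟨P, s, l⟩ := exists_isSyl_ge (isPGroup_zpowers_of_orderOf (p := 3) (k := 1) p) (L := 𝐍(A) ⊓ 𝐂₁(u))
    (zpowers_le.2 ⟨h.nor hz, mem_c1.2 f⟩)
  have s' : IsSyl 3 P 𝐂₁(u) := isSyl_of_normalizer (s.mono (le_inf (s.le.trans inf_le_right) le_normalizer)
    fun n hn => ⟨h.se z (h.nor hz) p n (s.le (norm_mem' hn.2 (l (mem_zpowers z)))).1, hn.1⟩)
  obtain ⟨d, hd, r⟩ := s'.exists_cj_le (isPGroup_cj c⁻¹ (isPGroup_zpowers_of_orderOf (k := 1) o)) (cj_le_iff.2 (by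
    rw [inv_inv, cj_centralizer_singleton]; exact zpowers_le.2 (mem_c1.2 e)))
  rw [← cj_mul] at r
  have := norm_mem (h.se y hy o _ (s.le (r (conj_mem_cj _ (mem_zpowers y)))).1) hu
  rwa [show (d * c⁻¹)⁻¹ * u * (d * c⁻¹) = c * (d⁻¹ * (u * d)) * c⁻¹ by group, ← mem_c1.1 hd, inv_mul_cancel_left] at this

theorem out {s : G} (hs : s ∈ K) (n : s ∉ L) (ss : s * s = 1) : Nat.card ↥(A ⊓ 𝐂₁(s)) < 2 ^ 18 := by
  by_contra! c
  have s1 : s ≠ 1 := fun e => n (e ▸ one_mem L)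
  have si := inv_eq_of_mul_eq_one_right ss
  obtain ⟨N, hN, o, r⟩ := CF.Hyp.zstar (u := (⟨s, hs⟩ : K)) (orderOf_eq_prime (Subtype.ext ((pow_two s).trans ss))
    fun e => s1 (congrArg Subtype.val e)) fun k e => by
      have e : s * (k * s * (k : G)⁻¹) = k * s * (k : G)⁻¹ * s := congrArg Subtype.val e
      refine Subtype.ext (by_contra fun m => ?_)
      have a := h.c14 (h.ix s hs _ (mul_mem (mul_mem k.2 hs) (inv_mem k.2)) n fun m => n (by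
          simpa [mul_assoc] using norm_mem (h.ix.norm h.LK k.2) m)) (by
        nth_rw 1 [e]
        rw [mul_assoc, ← mul_assoc s, ss, one_mul, conj_mul, ss, mul_one, mul_inv_cancel])
        fun e => m ((eq_inv_of_mul_eq_one_right e).trans si)
      have b := card_mul_le_of_le (L := A) (A := A ⊓ 𝐂₁(s)) (B := A ⊓ 𝐂₁(k * s * (k : G)⁻¹)) inf_le_left inf_le_left
      have d := card_le_of_le (show A ⊓ 𝐂₁(s) ⊓ (A ⊓ 𝐂₁(k * s * (k : G)⁻¹)) ≤ A ⊓ 𝐂₁(s * (k * s * (k : G)⁻¹)) from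
        fun x hx =>
        ⟨hx.1.1, mem_c1.2 (by rw [← mul_assoc, mem_c1.1 hx.1.2, mul_assoc, mem_c1.1 hx.2.2, ← mul_assoc])⟩)
      rw [card_c1 (h.KN k.2), h.cA] at b
      nlinarith
  have b : N.map K.subtype ⊓ L = ⊥ := (h.sim _ inf_le_right (le_normalizer_inf (fun x hx =>
    mem_normalizer_of_conj_mem (by
      rintro _ ⟨y, hy, rfl⟩
      exact ⟨_, hN.conj_mem y hy ⟨x, h.LK hx⟩, rfl⟩)) le_normalizer)).resolve_right fun e => by
    have := card_dvd_of_le (inf_eq_right.1 e)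
    rw [card_subtype, h.card] at this
    exact absurd (o.of_dvd_nat this) (by decide)
  refine s1 (h.cen s hs fun y hy => (commutatorElement_eq_one_iff_mul_comm.1 (mem_bot.1 (b ▸
    (⟨⟨_, r ⟨y, h.LK hy⟩, rfl⟩, L.mul_mem (norm_mem' (h.ix.norm h.LK hs) hy) (L.inv_mem hy)⟩ : _ ∈ N.map K.subtype ⊓ L)))).symm)

theorem pp : PP A := by
  refine ⟨fun a ha b hb => h.cm hb ha, fun a => h.sq, fun E l cm sq cj n => ?_⟩
  have AC : A ≤ 𝐂(A) := fun a ha b hb => h.cm hb ha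
  have d : ∀ x ∈ (A ⊔ E) ⊓ K, ∃ a ∈ A, a * x ∈ E := fun x hx => by
    obtain ⟨a, ha, e, he, rfl⟩ := (mem_sup_of_le_normalizer l).1 hx.1
    exact ⟨a⁻¹, inv_mem ha, by simpa using he⟩
  have c : Nat.card E = Nat.card ↥(A ⊓ E) * Nat.card ↥((A ⊔ E) ⊓ K) := by
    have a := card_sup_mul_card_inf' l
    have : A ⊔ (A ⊔ E) ⊓ K = A ⊔ E := by
      rw [inf_comm, ← sup_inf_of_le_normalizer_left h.KN le_sup_left, h.nA, inf_eq_right.2 (sup_le le_normalizer l)]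
    rw [← this, card_sup_of_inf_eq_bot (inf_le_right.trans h.KN) (eq_bot_iff.2 ((inf_le_inf_left _ inf_le_right).trans
      h.bot.le)), mul_assoc, mul_comm (Nat.card ↥(_ ⊓ K))] at a
    exact (Nat.eq_of_mul_eq_mul_left Nat.card_pos a).symm
  have w : A ⊓ E ≤ A ⊓ 𝐂((A ⊔ E) ⊓ K) := le_inf inf_le_left (le_trans (le_inf (inf_le_left.trans AC)
    (inf_le_right.trans cm)) ((centralizer_sup A E).ge.trans (centralizer_anti inf_le_left)))
  have z : ∀ x ∈ K, x ∈ A → x = 1 := fun x a b => mem_bot.1 (h.bot ▸ (⟨b, a⟩ : x ∈ A ⊓ K))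
  have q : ∀ x ∈ (A ⊔ E) ⊓ K, x * x = 1 := fun x hx => by
    obtain ⟨a, ha, e⟩ := d x hx
    refine z _ (mul_mem hx.2 hx.2) ?_
    rw [show x * x = (a * (x * a * x⁻¹))⁻¹ * (a * x * (a * x)) by group, sq _ e, mul_one]
    exact inv_mem (mul_mem ha (norm_mem' (h.KN hx.2) ha))
  suffices Nat.card ↥(A ⊓ E) * Nat.card ↥((A ⊔ E) ⊓ K) ^ 2 < 2 ^ 20 by
    rw [c, h.cA, mul_pow, pow_two, mul_assoc, mul_comm]
    exact Nat.mul_lt_mul_of_pos_right this Nat.card_pos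
  have ix : Nat.card ↥((A ⊔ E) ⊓ K) ≤ 2 * Nat.card ↥((A ⊔ E) ⊓ K ⊓ L) :=
    Ix.card fun x hx y hy => h.ix x hx.2 y hy.2
  by_cases b : (A ⊔ E) ⊓ K ⊓ L = ⊥
  · obtain ⟨e, he, m⟩ := SetLike.not_le_iff_exists.1 n
    obtain ⟨a, ha, s, hs, rfl⟩ := (mem_sup_of_le_normalizer h.KN).1 (h.nA.ge (l he))
    have sF : s ∈ (A ⊔ E) ⊓ K := ⟨(mul_mem_cancel_left (mem_sup_left ha)).1 (mem_sup_right he), hs⟩
    have o := h.out hs (fun k => m (by rw [show s = 1 from mem_bot.1 (b ▸ (⟨sF, k⟩ : s ∈ _ ⊓ L)), mul_one]; exact ha)) (q s sF)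
    have := card_le_of_le (w.trans (inf_le_inf_left _ (show _ ≤ 𝐂₁(s) from fun x hx => mem_c1.2 (hx s sF).symm)))
    rw [b, card_bot] at ix
    have := Nat.pow_le_pow_left ix 2
    nlinarith
  have p := h.pure (E := (A ⊔ E) ⊓ K ⊓ L) inf_le_right (fun x hx y hy => by
    rw [← inv_eq_of_mul_eq_one_right (q _ (mul_mem hy.1 hx.1)), mul_inv_rev, inv_eq_of_mul_eq_one_right (q _ hy.1),
      inv_eq_of_mul_eq_one_right (q _ hx.1)]) (fun x hx => q x hx.1) (fun x hx x1 => by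
    obtain ⟨a, ha, e⟩ := d x hx.1
    obtain ⟨c, k⟩ := cj _ e
    refine (((h.ty ha hx.2 (sq _ e)).2.2.resolve_left x1).resolve_left fun t => x1 (z x hx.1.2 ?_))
    exact (mul_mem_cancel_left ha).1 (h.g2 k (t.mono (sup_le le_normalizer h.nor)))) b
  have := card_le_of_le (w.trans (inf_le_inf_left _ (centralizer_anti (inf_le_left (b := L)))))
  calc _ ≤ Nat.card ↥(A ⊓ 𝐂((A ⊔ E) ⊓ K ⊓ L)) * (2 * Nat.card ↥((A ⊔ E) ⊓ K ⊓ L)) ^ 2 :=
        Nat.mul_le_mul this (Nat.pow_le_pow_left ix 2)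
    _ < _ := by nlinarith

end Hs

end CF.E62
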