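import Cfsg.Agent.E62.G5
import Cfsg.Agent.J4.Gen

/-! Tools for coordinates and tables of words. -/

set_option autoImplicit false
set_option linter.unusedSectionVars false

namespace CF.E62

open Cfsg Subgroup CF.Loc CF.Even CF.LX CF.J4 CF.Comp CF.Dce
open scoped commutatorElement

variable {G : Type*} [Group G]

theorem map_chi {K : Type*} [Group K] (φ : G →* K) (g : ℕ → G) (n c : ℕ) :
    φ (chi g n c) = chi (fun i => φ (g i)) n c := by
  induction n with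
  | zero => exact φ.map_one
  | succ n ih => rw [chi_succ, chi_succ, ← ih, apply_ite φ, map_mul]

theorem chi_congr {g k : ℕ → G} {n : ℕ} (h : ∀ i < n, g i = k i) (c : ℕ) : chi g n c = chi k n c := by
  induction n with
  | zero => rfl
  | succ n ih => rw [chi_succ, chi_succ, ih fun i hi => h i (by omega), h n (by omega)]

theorem chi_mem' {g : ℕ → G} {n c : ℕ} {K : Subgroup G} (h : ∀ i < n, c.testBit i = true → g i ∈ K) :
    chi g n c ∈ K := by
  induction n with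
  | zero => exact K.one_mem
  | succ n ih =>
    have := ih fun i hi => h i (by omega)
    rw [chi_succ]; split_ifs with e
    exacts [K.mul_mem this (h n (by omega) e), this]

theorem chi_lt {g : ℕ → G} {n c k : ℕ} {K : Subgroup G} (hc : c < 2 ^ k) (h : ∀ i < k, g i ∈ K) : chi g n c ∈ K :=
  chi_mem' fun i _ e => h i (lt_of_not_ge fun l => by
    rw [Nat.testBit_lt_two_pow (hc.trans_le (Nat.pow_le_pow_right two_pos l))] at e; cases e)

theorem chi_comm {g : ℕ → G} {y z : G} {n k : ℕ} (hz : ∀ i < n, g i * z = z * g i)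
    (h : ∀ i < n, g i * y = y * g i * if i = k then z else 1) (c : ℕ) :
    chi g n c * y = y * chi g n c * if k < n ∧ c.testBit k = true then z else 1 := by
  induction n with
  | zero => simp [chi]
  | succ n ih =>
    have a := ih (fun i hi => hz i (by omega)) fun i hi => h i (by omega)
    have b := h n (by omega)
    have d := hz n (by omega)
    rw [chi_succ]
    rcases lt_trichotomy k n with e | rfl | e
    · simp only [e, e.ne', Nat.lt_succ_of_lt e, true_and, if_false, mul_one] at a b ⊢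
      by_cases l : c.testBit n = true
      · rw [if_pos l, mul_assoc, b, ← mul_assoc, a]
        split_ifs
        · rw [mul_assoc, ← d]; group
        · group
      · rwa [if_neg l]
    · simp only [lt_irrefl, false_and, if_false, mul_one, if_true, Nat.lt_succ_self, true_and] at a b ⊢
      split_ifs
      · rw [mul_assoc, b, ← mul_assoc, ← mul_assoc, a]; group
      · rw [a, mul_one]
    · simp only [e.not_gt, e.ne, show ¬ k < n + 1 by omega, false_and, if_false, mul_one] at a b ⊢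
      split_ifs
      · rw [mul_assoc, b, ← mul_assoc, a, mul_assoc]
      · exact a

theorem exists_coZ {Z : Subgroup G} {g : ℕ → G} {n : ℕ} (hn : 0 < n) (h0 : ∀ i < n, g i ∈ 𝐍(Z))
    (h1 : ∀ i < n, g i * g i ∈ Z) (h2 : ∀ i < n, ∀ j < n, (g i * g j)⁻¹ * (g j * g i) ∈ Z)
    (h3 : ∀ c < 2 ^ n, chi g n c ∈ Z → c = 0) :
    ∃ S ν, Co n S Z ν ∧ ∀ c < 2 ^ n, chi g n c ∈ S ∧ ν (chi g n c) = c := by
  classical
  let k : ℕ → 𝐍(Z) := fun i => if h : g i ∈ 𝐍(Z) then ⟨g i, h⟩ else 1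
  have hk : ∀ i < n, (k i : G) = g i := fun i hi => by simp only [k, dif_pos (h0 i hi)]
  let φ := QuotientGroup.mk' (Z.subgroupOf 𝐍(Z))
  have e : ∀ c, ((chi k n c : 𝐍(Z)) : G) = chi g n c := fun c => (map_chi (𝐍(Z)).subtype k n c).trans (chi_congr hk c)
  have o : ∀ x, φ x = 1 ↔ (x : G) ∈ Z := fun x => QuotientGroup.eq_one_iff x
  obtain ⟨S, μ, C, hS⟩ := exists_co (g := fun i => φ (k i)) hn
    (fun i hi => by rw [← map_mul, o, coe_mul, hk i hi]; exact h1 i hi)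
    (fun i hi j hj => by
      rw [← map_mul, ← map_mul]
      refine QuotientGroup.eq.2 (show _ ∈ Z from ?_)
      simpa [hk i hi, hk j hj] using h2 i hi j hj)
    fun c hc l => h3 c hc (by rw [← e, ← o, map_chi, l])
  let ν : G → ℕ := fun x => if h : x ∈ 𝐍(Z) then μ (φ ⟨x, h⟩) else 0
  have hν : ∀ x : 𝐍(Z), ν x = μ (φ x) := fun x => dif_pos x.2
  have u : ∀ c < 2 ^ n, chi g n c ∈ (S.comap φ).map (𝐍(Z)).subtype ∧ ν (chi g n c) = c := fun c hc =>
    ⟨⟨chi k n c, by rw [coe_comap, Set.mem_preimage, map_chi]; exact (hS c hc).1, e c⟩,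
      by rw [← e, hν, map_chi, (hS c hc).2]⟩
  refine ⟨(S.comap φ).map (𝐍(Z)).subtype, ν, ⟨hn, fun x hx => ⟨⟨x, le_normalizer hx⟩, show φ _ ∈ S by rw [(o _).2 hx]; exact one_mem _, rfl⟩,
    ?_, ?_, fun c hc => ⟨_, u c hc⟩, ?_⟩, u⟩
  · rintro _ ⟨a, ha, rfl⟩ _ ⟨b, hb, rfl⟩
    exact (hν (a * b)).trans (by rw [map_mul, C.mul _ ha _ hb, ← hν, ← hν]; rfl)
  · rintro _ ⟨a, ha, rfl⟩; exact hν a ▸ C.lt _ ha
  · rintro _ ⟨a, ha, rfl⟩
    exact (iff_of_eq (congrArg (· = 0) (hν a))).trans ((C.ker _ ha).trans (o a))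

theorem vm_rows {n m k c x : ℕ} (hk : k ≤ n) (h : ∀ i < k, fld n x i < 2 ^ m) (hc : c < 2 ^ k) : vm n c x < 2 ^ m :=
  xor_ind (P := fun c => vm n c x < 2 ^ m) (by rw [vm_zero]; positivity)
    (fun i hi => by rw [vm_pow (hi.trans_le hk)]; exact h i hi)
    (fun a _ b _ k l => by rw [vm_xor]; exact Nat.xor_lt_two_pow k l) c hc

section co
variable {n : ℕ} {S Z : Subgroup G} {ν : G → ℕ} (C : Co n S Z ν)

/-- the elements with small coordinates -/
def low (k : ℕ) : Subgroup G where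
  carrier := {x | x ∈ S ∧ ν x < 2 ^ k}
  one_mem' := ⟨one_mem _, by rw [C.one]; positivity⟩
  mul_mem' := fun a b => ⟨mul_mem a.1 b.1, by rw [C.mul _ a.1 _ b.1]; exact Nat.xor_lt_two_pow a.2 b.2⟩
  inv_mem' := fun a => ⟨inv_mem a.1, by rw [C.inv a.1]; exact a.2⟩

theorem mem_low {k : ℕ} {x : G} : x ∈ low C k ↔ x ∈ S ∧ ν x < 2 ^ k := Iff.rfl

theorem le_low (k : ℕ) : Z ≤ low C k := fun x hx => ⟨C.le hx, by rw [(C.ker x (C.le hx)).2 hx]; positivity⟩

theorem co_low {k : ℕ} (h0 : 0 < k) (hk : k ≤ n) : Co k (low C k) Z ν :=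
  ⟨h0, le_low C k, fun a k b l => C.mul a k.1 b l.1, fun _ k => k.2, fun c hc =>
    (C.surj c (hc.trans_le (Nat.pow_le_pow_right two_pos hk))).imp fun _ l => ⟨⟨l.1, l.2.trans_lt hc⟩, l.2⟩,
    fun a k => C.ker a k.1⟩

theorem norm_low [Finite G] {h : G} {x k : ℕ} (hx : Ac n S ν h x) (hk : k ≤ n) (e : ∀ i < k, fld n x i < 2 ^ k) :
    h ∈ 𝐍(low C k) := inv_mem_iff.1 (mem_normalizer_fintype fun y hy => by
  rw [inv_inv]; exact ⟨norm_mem hx.1 hy.1, by rw [hx.2 y hy.1]; exact vm_rows hk e hy.2⟩)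

include C

theorem mul_ker {x y : G} (hx : x ∈ S) (hy : y ∈ Z) : x * y ∈ S ∧ ν (x * y) = ν x :=
  ⟨mul_mem hx (C.le hy), by rw [C.mul _ hx _ (C.le hy), (C.ker y (C.le hy)).2 hy, Nat.xor_zero]⟩

theorem sq_mem {x : G} (hx : x ∈ S) : x * x ∈ Z := (C.ker _ (mul_mem hx hx)).1 (by rw [C.mul _ hx _ hx, Nat.xor_self])

theorem cm_nu {h e : G} {x : ℕ} (hx : Ac n S ν h x) (he : e ∈ S) :
    ⁅e, h⁻¹⁆ ∈ S ∧ ν ⁅e, h⁻¹⁆ = ν e ^^^ vm n (ν e) x := by
  have := norm_mem hx.1 (inv_mem he)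
  rw [show ⁅e, h⁻¹⁆ = e * (h⁻¹ * e⁻¹ * h) by rw [commutatorElement_def]; group]
  exact ⟨mul_mem he this, by rw [C.mul _ he _ this, hx.2 _ (inv_mem he), C.inv he]⟩

theorem ac_conj {d m : G} (hd : Ac n S ν d (mo n)) (h1 : m ∈ 𝐍(S)) (h2 : m ∈ 𝐍(Z)) : Ac n S ν (m * d * m⁻¹) (mo n) := by
  obtain ⟨x, l, hx⟩ := C.ex h1 h2
  obtain ⟨y, -, hy⟩ := C.ex (inv_mem h1) (inv_mem h2)
  have := C.cd.mul' (C.cd.mul' hx hd) hy
  rwa [mm_mo C.pos l, C.uniq' (C.cd.mul' hx hy) (by rw [mul_inv_cancel]; exact C.cd.one') (mm_lt C.pos _ _)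
    (mo_lt C.pos)] at this

theorem mem_of_nu {K : Subgroup G} (hZ : Z ≤ K) {x y : G} (hx : x ∈ S) (hy : y ∈ S) (e : ν x = ν y) (k : x ∈ K) :
    y ∈ K := (mul_mem_cancel_left (inv_mem k)).1 (hZ ((C.eq_iff hx hy).1 e))

variable {g : ℕ → G} (hg : ∀ c < 2 ^ n, chi g n c ∈ S ∧ ν (chi g n c) = c)
include hg

theorem gen_nu {i : ℕ} (hi : i < n) : g i ∈ S ∧ ν (g i) = 2 ^ i :=
  chi_pow g hi ▸ hg _ (Nat.pow_lt_pow_right one_lt_two hi)

theorem low_le {K : Subgroup G} (hZ : Z ≤ K) {k : ℕ} (h : ∀ i < k, g i ∈ K) : low C k ≤ K := fun x hx =>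
  mem_of_nu C hZ (hg _ (C.lt x hx.1)).1 hx.1 (hg _ (C.lt x hx.1)).2 (chi_lt hx.2 h)

theorem top_le {K : Subgroup G} (hZ : Z ≤ K) (h : ∀ i < n, g i ∈ K) : S ≤ K := fun x hx =>
  low_le C hg hZ h ⟨hx, C.lt x hx⟩

theorem ac_of [Finite G] {h : G} (hZ : h ∈ 𝐍(Z)) {x : ℕ}
    (k : ∀ i < n, h⁻¹ * g i * h ∈ S ∧ ν (h⁻¹ * g i * h) = fld n x i) : Ac n S ν h x :=
  C.of_gens (inv_mem_iff.1 (mem_normalizer_fintype fun s hs => by
    simpa using top_le C hg (K := S.comap (MulAut.conj h⁻¹).toMonoidHom)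
      (fun y hy => by simpa using C.le (norm_mem hZ hy)) (fun i hi => by simpa using (k i hi).1) hs)) hZ
    fun i hi => ⟨g i, (gen_nu C hg hi).1, (gen_nu C hg hi).2, (k i hi).2⟩

theorem ac_of' [Finite G] {h : G} (hZ : h ∈ 𝐍(Z)) {x : ℕ}
    (e : ∀ i < n, ∃ y ∈ Z, h⁻¹ * g i * h = chi g n (fld n x i) * y) : Ac n S ν h x :=
  ac_of C hg hZ fun i hi => by
    obtain ⟨y, h1, h2⟩ := e i hi
    have := hg _ (fld_lt n x i)
    rw [h2, (mul_ker C this.1 h1).2]
    exact ⟨(mul_ker C this.1 h1).1, this.2⟩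

end co

/-- the letters of the word belong to the mask -/
noncomputable def inM (m : ℕ) (w : List ℕ) : Bool := lall (fun x => tb m (Nat.shiftRight (Nat.pred x) 1)) w

/-- the letters reached from the mask -/
noncomputable def growM (P : List (ℕ × List ℕ)) : ℕ → ℕ :=
  List.rec (motive := fun _ => ℕ → ℕ) (fun m => m) (fun p _ ih m =>
    force (Bool.rec m (Nat.lor m (Nat.shiftLeft 1 p.1)) (inM m p.2)) ih) P

theorem inM_iff {m : ℕ} {w : List ℕ} : inM m w = true ↔ ∀ x ∈ w, m.testBit ((x - 1) / 2) = true :=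
  lall_iff.trans (forall₂_congr fun x _ => by rw [tb_eq]; rfl)

theorem growM_ind {R : ℕ → Prop} {P : List (ℕ × List ℕ)} (hs : ∀ p ∈ P, (∀ x ∈ p.2, R ((x - 1) / 2)) → R p.1)
    {m : ℕ} (h : ∀ i, m.testBit i = true → R i) : ∀ i, (growM P m).testBit i = true → R i := by
  induction P generalizing m with
  | nil => exact h
  | cons p P ih =>
    have e : growM (p :: P) m = force (Bool.rec m (Nat.lor m (Nat.shiftLeft 1 p.1)) (inM m p.2)) (growM P) := rfl
    rw [e, force_eq]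
    refine ih (fun r hr => hs r (.tail _ hr)) fun i hi => ?_
    cases l : inM m p.2 <;> rw [l] at hi
    · exact h i hi
    · have : (m ||| 2 ^ p.1).testBit i = true := by rwa [← Nat.one_shiftLeft]
      rw [Nat.testBit_or, Bool.or_eq_true, Nat.testBit_two_pow, decide_eq_true_eq] at this
      exact this.elim (h i) fun k => k ▸ hs p (.head _) fun x hx => h _ (inM_iff.1 l x hx)

theorem evL_ind {R : G → Prop} {f : ℕ → G} {x : ℕ} (h1 : R 1) (h2 : R (f ((x - 1) / 2)))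
    (h3 : R (f ((x - 1) / 2))⁻¹) : R (evL f x) := by
  unfold evL; split_ifs; exacts [h1, h2, h3]

theorem ev_mem' {f : ℕ → G} {K : Subgroup G} {w : List ℕ} (h : ∀ x ∈ w, f ((x - 1) / 2) ∈ K) : ev f w ∈ K :=
  K.list_prod_mem fun _ hy => by
    obtain ⟨x, hx, rfl⟩ := List.mem_map.1 hy
    exact evL_ind (R := (· ∈ K)) K.one_mem (h x hx) (K.inv_mem (h x hx))

theorem ev_memM {f : ℕ → G} {K : Subgroup G} {m : ℕ} (h : ∀ i, m.testBit i = true → f i ∈ K) {w : List ℕ}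
    (hw : inM m w = true) : ev f w ∈ K := ev_mem' fun x hx => h _ (inM_iff.1 hw x hx)

theorem _root_.CF.J4.Cd.evM {mul : ℕ → ℕ → ℕ} {one : ℕ} {ok : ℕ → Bool} {r : G → ℕ → Prop} {f : ℕ → G} {E : ℕ → ℕ}
    (C : Cd mul one ok r) {N : ℕ} (T : letOK mul one ok E N = true) {w : List ℕ}
    (h : ∀ x ∈ w, (x - 1) / 2 < N ∧ r (f ((x - 1) / 2)) (E (2 * ((x - 1) / 2) + 1))) :
    r (ev f w) (evW mul one E w) :=
  rp_evW (Rp := fun x g => r g x) C.one' C.mul' fun x hx => by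
    obtain ⟨a, b⟩ := letOK_iff.1 T
    obtain ⟨k, l⟩ := h x hx
    rcases letter_cases x with rfl | ⟨i, rfl⟩ | ⟨i, rfl⟩
    · rw [a]; exact C.one'
    · rw [evL_odd]; simpa using l
    · rw [show (2 * i + 2 - 1) / 2 = i by omega] at k l
      rw [evL_even]; exact C.inv' l (b i k).2.1 (b i k).2.2

theorem let_of_tab {mul : ℕ → ℕ → ℕ} {one : ℕ} {ok : ℕ → Bool} {L : List ℕ} {m : ℕ}
    (h : tabOK mul one ok L m = true) : letOK mul one ok (nth one L) m = true := (brec_and.1 h).2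

/-- a product of commutators -/
noncomputable def cmW (L : List (List ℕ × List ℕ)) : List ℕ :=
  List.rec [] (fun p _ r => lapp (lapp (lapp (lapp p.1 p.2) (winv p.1)) (winv p.2)) r) L

theorem ev_cmW {f : ℕ → G} {K R : Subgroup G} {L : List (List ℕ × List ℕ)}
    (h : ∀ p ∈ L, ev f p.1 ∈ K ∧ ev f p.2 ∈ R) : ev f (cmW L) ∈ ⁅K, R⁆ := by
  induction L with
  | nil => exact one_mem _
  | cons p L ih =>
    have e : cmW (p :: L) = lapp (lapp (lapp (lapp p.1 p.2) (winv p.1)) (winv p.2)) (cmW L) := rfl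
    simp only [e, ev_lapp, ev_winv]
    exact mul_mem (commutator_mem_commutator (h p (.head _)).1 (h p (.head _)).2) (ih fun r hr => h r (.tail _ hr))

theorem le_or_le {X A B : Subgroup G} (h : ∀ x ∈ X, x ∈ A ∨ x ∈ B) : X ≤ A ∨ X ≤ B := by
  by_contra! c
  obtain ⟨a, ha, na⟩ := SetLike.not_le_iff_exists.1 c.1
  obtain ⟨b, hb, nb⟩ := SetLike.not_le_iff_exists.1 c.2
  exact (h _ (mul_mem ha hb)).elim (fun k => na ((mul_mem_cancel_right ((h b hb).resolve_right nb)).1 k))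
    fun k => nb ((mul_mem_cancel_left ((h a ha).resolve_left na)).1 k)

end CF.E62
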