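import Cfsg.Agent.E62.T

/-! Equal coordinates identify the extraspecial groups. -/

set_option autoImplicit false
set_option linter.unusedSectionVars false

namespace CF.E62

open Cfsg Subgroup CF.Loc CF.Even CF.LX CF.J4 CF.Comp CF.Dce QuadraticMap

/-- the vector with code `c` -/
def dc (c : ℕ) : Fin 20 → ZMod 2 := fun i => (c.testBit i).toNat

theorem dc_xor (a b : ℕ) : dc (a ^^^ b) = dc a + dc b := funext fun s => by
  simp only [dc, Nat.testBit_xor, Pi.add_apply]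
  cases a.testBit _ <;> cases b.testBit _ <;> rfl

theorem dc_inj {a b : ℕ} (ha : a < 2 ^ 20) (hb : b < 2 ^ 20) (h : dc a = dc b) : a = b :=
  Nat.eq_of_testBit_eq fun i => by
    by_cases l : i < 20
    · exact (by decide : ∀ x y : Bool, (x.toNat : ZMod 2) = y.toNat → x = y) _ _ (congrFun h ⟨i, l⟩)
    · have := Nat.pow_le_pow_right two_pos (not_lt.1 l)
      rw [Nat.testBit_lt_two_pow (ha.trans_le this), Nat.testBit_lt_two_pow (hb.trans_le this)]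

theorem dc_surj (v : Fin 20 → ZMod 2) : ∃ c < 2 ^ 20, dc c = v := by
  obtain ⟨c, e⟩ := ((Fintype.bijective_iff_injective_and_card fun c : Fin (2 ^ 20) => dc c).2
    ⟨fun a b h => Fin.ext (dc_inj a.2 b.2 h), by simp⟩).2 v
  exact ⟨c, c.2, e⟩

theorem dc_zero : dc 0 = 0 := funext fun s => by simp [dc]

theorem dc_pow (i : Fin 20) : dc (2 ^ i.1) = Pi.single i 1 := funext fun j => by
  by_cases e : j = i <;> simp [dc, e, eq_comm (a := i.1), Fin.val_ne_of_ne]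

variable {G E : Type*} [Group G] [Group E] [Finite G] [Finite E] {Q H : Subgroup G} {z : G} {ν : G → ℕ}
  {Q0 : Subgroup E} {a : E} {κ : E → ℕ}

theorem co_qm (C : Co 20 Q (zpowers z) ν) (e : EX Q z) :
    ∃ q : QuadraticForm (ZMod 2) (Fin 20 → ZMod 2), QM (fun x : Q => dc (ν x)) q ⟨z, e.mem⟩ := by
  classical
  have k : QM (fun x : Q => dc (ν x)) (fun v => if ∃ x ∈ Q, dc (ν x) = v ∧ x * x = 1 then 0 else 1) ⟨z, e.mem⟩ :=
    ⟨fun x y => by rw [← dc_xor, coe_mul, C.mul _ x.2 _ y.2], fun v => by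
      obtain ⟨c, hc, rfl⟩ := dc_surj v
      obtain ⟨x, hx, rfl⟩ := C.surj c hc
      exact ⟨⟨x, hx⟩, rfl⟩, fun x => by
      rw [Subtype.ext_iff, Subtype.ext_iff, ← dc_zero]
      exact Iff.trans ⟨dc_inj (C.lt _ x.2) (by decide), congrArg dc⟩ ((C.ker _ x.2).trans e.mem_z),
      fun k => e.z_ne (congrArg Subtype.val k), fun x => by
      rw [ite_eq_left_iff, Subtype.ext_iff]
      refine ⟨fun k n => (n ⟨x, x.2, rfl, k⟩).elim, fun k => by_contra fun n => absurd (k fun ⟨y, hy, b, c⟩ => n ?_) (by decide)⟩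
      rcases e.mem_z.1 ((C.eq_iff hy x.2).1 (dc_inj (C.lt _ hy) (C.lt _ x.2) b)) with d | d <;>
        rw [coe_mul, inv_mul_eq_iff_eq_mul.1 d]
      exacts [by rwa [mul_one], by rw [mul_assoc, ← mul_assoc z, ← e.zc hy, mul_assoc, e.zz, mul_one, c]; rfl]⟩
  exact ⟨k.form, k.coe_form.symm ▸ k⟩

/-- enough matrices to determine the form -/
def Tor (P : ℕ → Prop) : Prop := ∀ i < 20, (∃ T, P T ∧ vm 20 (2 ^ i) T = 2 ^ ((i + 10) % 20)) ∧
  (∃ T, P T ∧ vm 20 (2 ^ i) T = 2 ^ i ^^^ 2 ^ ((i + 10) % 20)) ∧ ∀ j < 20, j = i ∨ j = (i + 10) % 20 ∨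
    ∃ T, P T ∧ vm 20 (2 ^ i) T = 2 ^ i ∧ vm 20 (2 ^ j) T ^^^ vm 20 (vm 20 (2 ^ j) T) T = 2 ^ j

theorem form_val (C : Co 20 Q (zpowers z) ν) (e : EX Q z) {q : QuadraticForm (ZMod 2) (Fin 20 → ZMod 2)}
    (k : QM (fun x : Q => dc (ν x)) q ⟨z, e.mem⟩) (h : Tor fun T => ∃ h, Ac 20 Q ν h T) {i : ℕ} (hi : i < 20) :
    q (dc (2 ^ i)) = 1 ∧ ∀ j < 20, polar q (dc (2 ^ i)) (dc (2 ^ j)) = if j = (i + 10) % 20 then 1 else 0 := by
  have l : ∀ {i}, i < 20 → 2 ^ i < 2 ^ 20 := Nat.pow_lt_pow_right one_lt_two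
  have iv : ∀ {h T}, Ac 20 Q ν h T → ∀ c < 2 ^ 20, q (dc (vm 20 c T)) = q (dc c) := fun {h T} t c hc => by
    obtain ⟨x, hx, rfl⟩ := C.surj c hc
    refine (by decide : ∀ a b : ZMod 2, (a = 0 ↔ b = 0) → a = b) _ _ ?_
    rw [← t.2 x hx, ← k.sq ⟨x, hx⟩, ← k.sq ⟨_, norm_mem t.1 hx⟩, Subtype.ext_iff, Subtype.ext_iff]
    change h⁻¹ * x * h * (h⁻¹ * x * h) = 1 ↔ x * x = 1
    rw [show h⁻¹ * x * h * (h⁻¹ * x * h) = h⁻¹ * (x * x) * h⁻¹⁻¹ by group, conj_eq_one_iff]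
  have ip : ∀ {h T}, Ac 20 Q ν h T → ∀ c < 2 ^ 20, ∀ d < 2 ^ 20,
      polar q (dc (vm 20 c T)) (dc (vm 20 d T)) = polar q (dc c) (dc d) := fun t c hc d hd => by
    rw [polar, polar, ← dc_xor, ← dc_xor, ← vm_xor, iv t _ hc, iv t _ hd, iv t _ (Nat.xor_lt_two_pow hc hd)]
  obtain ⟨⟨_, ⟨_, t1⟩, e1⟩, ⟨_, ⟨_, t2⟩, e2⟩, o⟩ := h i hi
  have b : ∀ j < 20, polar q (dc (2 ^ i)) (dc (2 ^ j)) = if j = (i + 10) % 20 then q (dc (2 ^ i)) else 0 := fun j hj => by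
    split_ifs with c
    · rw [c, polar, ← dc_xor, ← e2, ← e1, iv t1 _ (l hi), iv t2 _ (l hi), sub_self, zero_sub, ZMod.neg_eq_self_mod_two]
    rcases o j hj with rfl | d | ⟨T, ⟨_, t⟩, e3, e4⟩
    · rw [polar_self, two_nsmul, ZModModule.add_self]
    · exact absurd d c
    · have b := ip t _ (l hi) _ (vm_lt 20 (2 ^ j) T)
      rw [← e4, dc_xor, polar_add_right, ← b, e3, ZModModule.add_self]
  refine (zmod_two_cases (q (dc (2 ^ i)))).elim (fun c => ?_) fun c => ⟨c, by simpa only [c] using b⟩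
  obtain ⟨x, hx, d⟩ := C.surj _ (l hi)
  have := (C.ker x hx).2 (e.mem_z.2 (e.ctr x hx fun y hy => congrArg Subtype.val
    ((k.comm_iff (x := ⟨x, hx⟩) (y := ⟨y, hy⟩)).2 (xor_ind (P := fun c => polar q (dc (ν x)) (dc c) = 0)
      (by rw [dc_zero, polar_zero_right]) (fun j hj => by rw [d, b j hj, c, ite_self])
      (fun _ _ _ _ k l => by rw [dc_xor, polar_add_right, k, l, add_zero]) _ (C.lt y hy))).symm))
  simp [d] at this

theorem pr0_of (l : LQ Q z) (C : Co 20 Q (zpowers z) ν) (e : EX Q0 a) (D : Co 20 Q0 (zpowers a) κ)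
    (n0 : 𝐂₁(a) ≤ 𝐍(Q0)) (QH : Q ≤ H) (HC : H ≤ 𝐂₁(z)) {P : ℕ → Prop} (t : Tor P)
    (hP : ∀ T, P T → (∃ h, Ac 20 Q ν h T) ∧ ∃ m, Ac 20 Q0 κ m T)
    (dn : ∀ h ∈ H, ∃ m X, Ac 20 Q ν h X ∧ Ac 20 Q0 κ m X) : ∃ Θ, Pr0 Q H z Q0 a Θ := by
  classical
  obtain ⟨q, k⟩ := co_qm C l.toEX
  obtain ⟨q0, k0⟩ := co_qm D e
  have mono : ∀ {R : ℕ → Prop}, (∀ T, P T → R T) → Tor R := fun h i hi => ⟨(t i hi).1.imp fun T => And.imp_left (h T),
    (t i hi).2.1.imp fun T => And.imp_left (h T), fun j hj => ((t i hi).2.2 j hj).imp_right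
      (Or.imp_right (Exists.imp fun T => And.imp_left (h T)))⟩
  have v := @form_val _ _ _ _ _ _ C l.toEX _ k (mono fun T h => (hP T h).1)
  have v0 := @form_val _ _ _ _ _ _ D e _ k0 (mono fun T h => (hP T h).2)
  obtain ⟨β, hβ⟩ := k0.lift k (.refl _ _) fun w => by
    obtain ⟨c, hc, rfl⟩ := dc_surj w
    have : ∀ c < 2 ^ 20, ∀ d < 2 ^ 20, polar q (dc c) (dc d) = polar q0 (dc c) (dc d) := fun c hc d =>
      xor_ind (P := fun d => polar q (dc c) (dc d) = polar q0 (dc c) (dc d)) (by simp [dc_zero]) (fun j hj =>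
        xor_ind (P := fun c => polar q (dc c) (dc (2 ^ j)) = polar q0 (dc c) (dc (2 ^ j))) (by simp [dc_zero])
          (fun i hi => by rw [(v hi).2 j hj, (v0 hi).2 j hj])
          (fun _ _ _ _ k l => by rw [dc_xor, polar_add_left, polar_add_left, k, l]) c hc)
        (fun _ _ _ _ k l => by rw [dc_xor, polar_add_right, polar_add_right, k, l]) d
    exact xor_ind (P := fun c => q (dc c) = q0 (dc c)) (by simp [dc_zero]) (fun i hi => by rw [(v hi).1, (v0 hi).1])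
      (fun a ha b hb k l => by rw [dc_xor, QuadraticMap.map_add q, QuadraticMap.map_add q0, k, l, this a ha b hb]) c hc
  replace hβ : ∀ x : Q0, ν (β x) = κ x := fun x => dc_inj (C.lt _ (β x).2) (D.lt _ x.2) (hβ x)
  let Θ : E → G := fun x => if h : x ∈ Q0 then β ⟨x, h⟩ else 1
  have hΘ : ∀ x : Q0, Θ x = β x := fun x => dif_pos x.2
  have hom : HomOn Q0 Θ := fun x hx y hy => (hΘ (⟨x, hx⟩ * ⟨y, hy⟩)).trans (by
    rw [map_mul, coe_mul, ← hΘ, ← hΘ])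
  have mem : ∀ x ∈ Q0, Θ x ∈ Q ∧ ν (Θ x) = κ x := fun x hx => hΘ ⟨x, hx⟩ ▸ ⟨(β _).2, hβ _⟩
  have tz : Θ a = z := (l.mem_z.1 ((C.ker _ (mem a e.mem).1).1 ((mem a e.mem).2.trans
    ((D.ker a e.mem).2 (mem_zpowers a))))).resolve_left fun c => e.z_ne (congrArg Subtype.val
      ((map_eq_one_iff β β.injective).1 (Subtype.ext ((hΘ ⟨a, e.mem⟩).symm.trans c))))
  refine ⟨Θ, l, e, n0, QH, HC, hom, fun x hx y hy c => congrArg Subtype.val (β.injective (a₁ := ⟨x, hx⟩) (a₂ := ⟨y, hy⟩)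
    (Subtype.ext (by rwa [← hΘ, ← hΘ]))), fun x hx => (mem x hx).1, fun y hy =>
      ⟨_, (β.symm ⟨y, hy⟩).2, by rw [hΘ, β.apply_symm_apply]⟩, tz, fun h hh => ?_⟩
  obtain ⟨m, X, b, c⟩ := dn h⁻¹ (inv_mem hh)
  have mc := e.norm_le c.1
  have n : ∀ {x}, x ∈ Q0 → m⁻¹ * x * m ∈ Q0 := norm_mem c.1
  have o : ∀ x ∈ Q0, h * Θ x * h⁻¹ = Θ (m⁻¹ * x * m) ∨ h * Θ x * h⁻¹ = Θ (m⁻¹ * x * m) * z := fun x hx => by
    have := b.2 _ (mem x hx).1
    rw [(mem x hx).2, ← c.2 x hx, ← (mem _ (n hx)).2, eq_comm, C.eq_iff (mem _ (n hx)).1 (norm_mem b.1 (mem x hx).1),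
      l.mem_z, inv_mul_eq_iff_eq_mul, inv_mul_eq_iff_eq_mul, inv_inv, mul_one] at this
    exact this
  have cm : ∀ x y, m⁻¹ * (x * y) * m = m⁻¹ * x * m * (m⁻¹ * y * m) := fun x y => by group
  have ca : m⁻¹ * a * m = a := by rw [mul_assoc, ← mem_c1.1 mc, inv_mul_cancel_left]
  let W : Subgroup E :=
    { carrier := {x | x ∈ Q0 ∧ h * Θ x * h⁻¹ = Θ (m⁻¹ * x * m)}
      one_mem' := ⟨one_mem _, by simp [hom.one]⟩
      mul_mem' := fun {x y} u w => ⟨mul_mem u.1 w.1, by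
        rw [hom _ u.1 _ w.1, conj_mul_conj, u.2, w.2, cm, hom _ (n u.1) _ (n w.1)]⟩
      inv_mem' := fun {x} u => ⟨inv_mem u.1, by
        rw [hom.inv u.1, conj_inv.symm, u.2, ← hom.inv (n u.1)]; congr 1; group⟩ }
  obtain ⟨r, hr, u, w⟩ := BabU.move_char e (W := W) (U := Q0)
    ⟨e.mem, by rw [ca, tz, conj_eq_iff.2 (mem_c1.1 (HC hh))]⟩ (fun _ u => u.1) le_rfl fun x hx y hy u w =>
      ⟨mul_mem hx hy, by
        rw [hom _ hx _ hy, conj_mul_conj, (o x hx).resolve_left fun c => u ⟨hx, c⟩, (o y hy).resolve_left fun c => w ⟨hy, c⟩,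
          cm, hom _ (n hx) _ (n hy), mul_assoc _ z, ← mul_assoc z, ← l.zc (mem _ (n hy)).1, mul_assoc _ z, l.zz, mul_one]⟩
  refine ⟨m⁻¹ * r, hh, mul_mem (inv_mem mc) (e.le_c1 hr), fun x hx => ?_⟩
  rw [show m⁻¹ * r * x * (m⁻¹ * r)⁻¹ = m⁻¹ * (r * x * r⁻¹) * m by group]
  by_cases c : x ∈ W
  · rw [conj_eq_iff.2 (u x c).symm, c.2]
  · rw [w x hx c, cm, ca, hom _ e.mem _ (n hx), tz, ← l.zc (mem _ (n hx)).1, (o x hx).resolve_left fun d => c ⟨hx, d⟩]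

end CF.E62
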