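import Cfsg.Agent.E62.WD
import Cfsg.Agent.E62.T
import Cfsg.Agent.MonU.W2

/-! The weights of `3^4 : S6` on a space of dimension 20. -/

set_option autoImplicit false
set_option linter.unusedSectionVars false
set_option maxRecDepth 100000

namespace CF.E62

open Cfsg Matrix Module CF.MonU CF.Comp CF.J4

/-- words with the same action -/
noncomputable def eqP (u w : List ℕ) : Bool := sameW Y0 693 10 u w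

/-- the thirteen generators -/
structure Gn {S : Type*} [Group S] (f : ℕ → S) : Prop where
  eq : ∀ u w, eqP u w = true → ev f u = ev f w
  gen : ∀ s, ∃ w, ev f w = s
  one : ∀ i, 13 ≤ i → f i = 1
  ne : f 0 ≠ 1

theorem card_U6 {K : Type*} [Field K] [Fintype K] (hK : Fintype.card K = 4) : Nat.card (PSU 6 K 2) = 9196830720 := by
  have := card_PSU_mul (K := K) (q := 2) (d := 6) hK (by decide)
  simp only [Finset.prod_range_succ, Finset.prod_range_zero] at this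
  norm_num at this
  omega

theorem exists_su {K : Type*} [Field K] [Fintype K] (hK : Fintype.card K = 4) : ∃ f : ℕ → PSU 6 K 2, Gn f := by
  obtain ⟨el, hT⟩ := exists_ok_four hK
  obtain ⟨_, _, D, f, a, b⟩ := linY.hasReps_PSU hT (q := 2) hK (by decide) suY
  have e := chY.exact a b (H := ⊤) (fun _ => trivial) (Subgroup.card_top.trans (card_U6 hK)).le
  refine ⟨f, fun u w => a.eq_of_sameW (by decide) e.faithful trivial trivial, fun s => exists_ev_of_mem ?_, b,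
    ev_single f 0 ▸ a.ne_of_sameW (k := 10) (w := []) (by decide) (by decide +kernel)⟩
  exact (Subgroup.closure_le _).2 (Set.range_subset_iff.2 (slp_mem (fun i => Subgroup.subset_closure (Set.mem_range_self i)) YW 13))
    ((e.eq_closure fun _ => trivial).ge trivial)

def Ms : Fin 6 → Matrix (Fin 6) (Fin 6) (ZMod 3) :=
  ![!![2, 1, 0, 0, 0, 0; 0, 1, 0, 0, 0, 0; 0, 0, 1, 0, 0, 0; 0, 0, 0, 1, 0, 0; 0, 0, 0, 0, 1, 0; 0, 0, 0, 0, 0, 1],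
  !![1, 0, 0, 0, 0, 0; 1, 2, 1, 0, 0, 0; 0, 0, 1, 0, 0, 0; 0, 0, 0, 1, 0, 0; 0, 0, 0, 0, 1, 0; 0, 0, 0, 0, 0, 1],
  !![1, 0, 0, 0, 0, 0; 0, 1, 0, 0, 0, 0; 0, 1, 2, 1, 0, 0; 0, 0, 0, 1, 0, 0; 0, 0, 0, 0, 1, 0; 0, 0, 0, 0, 0, 1],
  !![1, 0, 0, 0, 0, 0; 0, 1, 0, 0, 0, 0; 0, 0, 1, 0, 0, 0; 0, 0, 1, 2, 0, 0; 0, 0, 0, 0, 1, 0; 0, 0, 0, 0, 0, 1],
  !![1, 0, 0, 1, 0, 0; 0, 1, 0, 2, 0, 0; 0, 0, 1, 0, 0, 0; 0, 0, 0, 2, 0, 0; 0, 0, 0, 0, 1, 0; 0, 0, 0, 0, 0, 1],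
  !![0, 1, 1, 1, 0, 0; 0, 2, 0, 0, 0, 0; 0, 0, 2, 0, 0, 0; 1, 1, 1, 0, 0, 0; 0, 0, 0, 0, 1, 0; 0, 0, 0, 0, 0, 1]]
def l0 : Fin 10 → A3 := ![![0, 0, 1, 0, 0, 0], ![0, 1, 2, 1, 0, 0], ![1, 2, 0, 1, 0, 0], ![0, 1, 0, 2, 0, 0],
  ![2, 0, 0, 1, 0, 0], ![1, 2, 1, 2, 0, 0], ![0, 1, 0, 0, 0, 0], ![2, 0, 1, 2, 0, 0], ![1, 0, 2, 0, 0, 0], ![1, 2, 1, 0, 0, 0]]
def n0 : Fin 10 → List (Fin 6) :=
  ![[], [2], [1, 2], [3, 2], [0, 1, 2], [3, 1, 2], [4, 3, 2], [3, 0, 1, 2], [2, 3, 1, 2], [4, 3, 1, 2]]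
def l1 : Fin 15 → A3 := ![![0, 0, 0, 1, 0, 0], ![0, 0, 1, 2, 0, 0], ![0, 1, 2, 0, 0, 0], ![0, 0, 1, 1, 0, 0],
  ![1, 2, 0, 0, 0, 0], ![0, 1, 2, 2, 0, 0], ![2, 0, 0, 0, 0, 0], ![1, 2, 0, 2, 0, 0], ![0, 1, 1, 1, 0, 0], ![2, 0, 0, 2, 0, 0],
  ![1, 2, 2, 1, 0, 0], ![2, 0, 2, 1, 0, 0], ![1, 1, 1, 0, 0, 0], ![2, 2, 1, 0, 0, 0], ![1, 1, 0, 0, 0, 0]]
def n1 : Fin 15 → List (Fin 6) := ![[], [3], [2, 3], [4, 3], [1, 2, 3], [4, 2, 3], [0, 1, 2, 3], [4, 1, 2, 3], [3, 4, 2, 3],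
  [4, 0, 1, 2, 3], [3, 4, 1, 2, 3], [3, 4, 0, 1, 2, 3], [2, 3, 4, 1, 2, 3], [2, 3, 4, 0, 1, 2, 3], [1, 2, 3, 4, 0, 1, 2, 3]]
def l2 : Fin 15 → A3 := ![![0, 1, 0, 1, 0, 0], ![1, 2, 1, 1, 0, 0], ![0, 1, 1, 2, 0, 0], ![2, 0, 1, 1, 0, 0],
  ![1, 2, 2, 2, 0, 0], ![0, 2, 2, 0, 0, 0], ![2, 0, 2, 2, 0, 0], ![1, 1, 1, 1, 0, 0], ![1, 2, 2, 0, 0, 0], ![2, 2, 1, 1, 0, 0],
  ![2, 0, 2, 0, 0, 0], ![2, 2, 2, 1, 0, 0], ![1, 1, 0, 1, 0, 0], ![2, 2, 1, 2, 0, 0], ![2, 2, 0, 1, 0, 0]]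
def n2 : Fin 15 → List (Fin 6) := ![[], [1], [3], [0, 1], [3, 1], [2, 3], [3, 0, 1], [2, 3, 1], [4, 3, 1], [2, 3, 0, 1],
  [4, 3, 0, 1], [1, 2, 3, 1], [1, 2, 3, 0, 1], [4, 2, 3, 0, 1], [0, 1, 2, 3, 0, 1]]
def b0 : Fin 10 → A3 := ![![0, 0, 1, 0, 0, 0], ![0, 1, 0, 0, 0, 0], ![1, 0, 0, 0, 0, 0], ![0, 1, 0, 0, 0, 0],
  ![2, 0, 0, 0, 0, 0], ![1, 0, 0, 0, 0, 0], ![0, 1, 0, 0, 0, 0], ![2, 0, 0, 0, 0, 0], ![1, 0, 0, 0, 0, 0], ![1, 0, 0, 0, 0, 0]]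

/-- the image of a weight -/
def wv (w : List (Fin 6)) (μ : A3) : A3 := w.foldr (fun k μ => μ ᵥ* Ms k) μ

/-- the word in the permutations -/
def sw (w : List (Fin 6)) : List ℕ := w.map fun k : Fin 6 => 2 * (6 + k.1) + 1

/-- the word of a diagonal element -/
noncomputable def aw (L : List (Fin 6)) (a : A3) : List ℕ := L.foldr (fun (k : Fin 6) r => lapp (wpow [2 * k + 1] (a k).val) r) []

/-- the words of the vectors in the weight spaces -/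
noncomputable def bw (j : Fin 10) (e : ℕ) : List ℕ := lapp (wpow (aw [0, 1, 2, 3, 4, 5] (b0 j)) e) (sw (n0 j))

/-- the data of an orbit -/
def Orb {n : ℕ} (l : Fin (n + 1) → A3) (N : Fin (n + 1) → List (Fin 6)) : Prop :=
  (∀ j, wv (N j) (l 0) = l j ∧ wv (N j).reverse (l j) = l 0) ∧ ∀ j m, m ≠ j → Sep (l m) (l j) 0

instance {n : ℕ} (l : Fin (n + 1) → A3) (N : Fin (n + 1) → List (Fin 6)) : Decidable (Orb l N) := by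
  unfold Orb; infer_instance

theorem orb0 : Orb l0 n0 ∧ Orb l1 n1 ∧ Orb l2 n2 ∧ (∀ j, l0 j ⬝ᵥ b0 j = 1) ∧ -(l0 0 ᵥ* Ms 5) = l0 0 ∧
    ∀ k ∈ [0, 1, 3, 4], l0 0 ᵥ* Ms k = l0 0 := by decide +kernel

theorem cls : ∀ μ : A3, μ 4 ≠ 0 ∨ μ 5 ≠ 0 ∨ μ = 0 ∨ (∃ j, μ = l0 j ∨ -μ = l0 j) ∨
    (∃ j, μ = l1 j ∨ -μ = l1 j) ∨ ∃ j, μ = l2 j ∨ -μ = l2 j := all3 (by decide +kernel)

theorem cw1 : (∀ k : Fin 6, eqP (wpow [2 * k + 1] 3) [] = true ∧ eqP [2 * (6 + k) + 1, 2 * (6 + k) + 1] [] = true ∧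
    eqP (aw [0, 1, 2, 3, 4, 5] (Pi.single k 1)) [2 * k + 1] = true ∧ ∀ l : Fin 6,
      eqP [2 * k + 1, 2 * l + 1] [2 * l + 1, 2 * k + 1] = true ∧ eqP [2 * l + 1, 2 * (6 + k) + 1]
        ((2 * (6 + k) + 1) :: aw [0, 1, 2, 3, 4, 5] (Ms k *ᵥ Pi.single l 1)) = true) ∧
    eqP [9] [] = true ∧ eqP [11] [] = true := by decide +kernel

theorem A3_ind {P : A3 → Prop} (h0 : P 0) (ha : ∀ a b, P a → P b → P (a + b)) (h : ∀ k, P (Pi.single k 1)) (a : A3) :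
    P a := by
  rw [← Finset.univ_sum_single a]
  refine Finset.sum_induction _ P ha h0 fun k _ => ?_
  rcases (by decide : ∀ c : ZMod 3, c = 0 ∨ c = 1 ∨ c = 1 + 1) (a k) with e | e | e <;> rw [e]
  exacts [by rwa [Pi.single_zero], h k, by rw [Pi.single_add]; exact ha _ _ (h k) (h k)]

end CF.E62
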