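import Cfsg.Agent.E62.W0
import Cfsg.Agent.E62.W1

/-! A frame for `3^4 : S6` on a space of dimension 20. -/

set_option autoImplicit false
set_option linter.unusedSectionVars false
set_option maxRecDepth 100000

namespace CF.E62

open Cfsg Matrix Module CF.MonU CF.Comp CF.J4 CF.Dce

theorem cw2 : ∀ x < 12, ∀ j : Fin 10, ∀ e < 2, let t := nth (0, 0, []) (nth [] KT x) (10 * e + j); ∃ m : Fin 10,
    m.1 = t.1 ∧ t.2.1 < 3 ∧ inM 3787 t.2.2 = true ∧ eqP ((2 * x + 2) :: bw j e) (lapp (bw m t.2.1) t.2.2) = true ∧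
      fld 20 (nth (mo 20) TW (2 * x + 1)) (10 * e + j) = nth 0 [2 ^ m.1, 2 ^ (10 + m.1), 2 ^ m.1 ^^^ 2 ^ (10 + m.1)] t.2.1 := by
  decide +kernel

variable {S V : Type*} [Group S] [AddCommGroup V] [Module (ZMod 2) V] [DistribMulAction S V] {f : ℕ → S}

namespace Gn
variable (h : Gn f)
include h

theorem e2 {i j : ℕ} {w : List ℕ} (e : eqP [2 * i + 1, 2 * j + 1] w = true) : f i * f j = ev f w := by
  simpa [evL_odd] using h.eq _ _ e

theorem aw_add (L : List (Fin 6)) (a b : A3) : ev f (aw L (a + b)) = ev f (aw L a) * ev f (aw L b) := by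
  have c : ∀ k l : Fin 6, Commute (f k) (f l) := fun k l =>
    (h.e2 ((cw1.1 k).2.2.2 l).1).trans (by simp [evL_odd])
  have p : ∀ (L : List (Fin 6)) (k : Fin 6) a, Commute (f k) (ev f (aw L a)) := fun L k a => by
    induction L with
    | nil => exact Commute.one_right _
    | cons l L ih => rw [aw, List.foldr_cons, ev_lapp, ev_wpow, ev_single]; exact ((c k l).pow_right _).mul_right ih
  induction L with
  | nil => exact (mul_one 1).symm
  | cons l L ih =>
    have t := h.eq _ _ (cw1.1 l).1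
    simp only [aw, List.foldr_cons, ev_lapp, ev_wpow, ev_single, Pi.add_apply, ZMod.val_add] at t p ih ⊢
    rw [ih, ← pow_eq_pow_mod _ t, pow_add, mul_assoc, mul_assoc, ← mul_assoc (_ ^ (b l).val),
      ((p L l _).pow_left _).eq, mul_assoc]

/-- the group `3^4` -/
noncomputable def ε (h : Gn f) : Multiplicative A3 →* S :=
  MonoidHom.mk' (fun a => ev f (aw [0, 1, 2, 3, 4, 5] a.toAdd)) fun _ _ => h.aw_add _ _ _

theorem e1 (k : Fin 6) : ee h.ε (Pi.single k 1) = f k := (h.eq _ _ (cw1.1 k).2.2.1).trans (ev_single f k)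

theorem nr (k : Fin 6) : ∀ a, ee h.ε a * f (6 + k) = f (6 + k) * ee h.ε (Ms k *ᵥ a) := A3_ind (by simp [ee])
  (fun a b x y => by rw [mulVec_add, ee_add, ee_add, mul_assoc, y, ← mul_assoc, x, mul_assoc]) fun l => by
    rw [h.e1, h.e2 ((cw1.1 k).2.2.2 l).2, ev_cons, evL_odd]; rfl

theorem conj {μ : A3} {v : V} (hv : v ∈ Wt h.ε V μ) (w : List (Fin 6)) : ev f (sw w) • v ∈ Wt h.ε V (wv w μ) := by
  induction w with
  | nil => exact (one_smul S v).symm ▸ hv
  | cons k w ih => rw [sw, List.map_cons, ev_cons, evL_odd, mul_smul]; exact Wt.conj ih (h.nr k)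

variable (hV : finrank (ZMod 2) V = 20)
include hV

theorem big {l : Fin 15 → A3} {N : Fin 15 → List (Fin 6)} (o : Orb l N) {j : Fin 15} {v : V} (hv : v ∈ Wt h.ε V (l j)) :
    v = 0 := by
  have : Module.Finite (ZMod 2) V := finite_of_finrank_pos (by omega)
  by_contra h0
  have : ∀ j, ∃ b, l j ⬝ᵥ b ≠ 0 := fun j => by
    obtain ⟨m, hm⟩ := exists_ne j
    exact (Sep.ex ⟨0, o.2 j m hm⟩).imp fun _ h => h.2
  choose b hb using this
  have := (fam_indep (fun j m h => Sep.ex ⟨0, o.2 j m h⟩) hb (fun m => (o.1 m).1 ▸ h.conj ((o.1 j).2 ▸ h.conj hv _) _)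
    fun m => (smul_ne_zero_iff_ne _).2 ((smul_ne_zero_iff_ne _).2 h0)).fintype_card_le_finrank
  simp [hV] at this

theorem some (nt : ∃ v : V, f 0 • v ≠ v) : ∃ v ∈ Wt h.ε V (l0 0), v ≠ 0 := by
  by_contra! hn
  obtain ⟨v, k⟩ := nt
  have e4 : ∀ w : V, f 4 • w = w := fun w => by rw [← ev_single f 4, h.eq _ _ cw1.2.1]; exact one_smul _ _
  have e5 : ∀ w : V, f 5 • w = w := fun w => by rw [← ev_single f 5, h.eq _ _ cw1.2.2]; exact one_smul _ _
  refine k (h.e1 0 ▸ ((iSup_le fun μ w hw => ?_ : ⨆ μ, Wt h.ε V μ ≤ Wt h.ε V 0) (mem_iSup_Wt v) _).1 (zero_dotProduct _))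
  suffices μ = 0 ∨ w = 0 from this.elim (· ▸ hw) (· ▸ zero_mem _)
  rcases cls μ with e | e | e | ⟨j, e⟩ | ⟨j, e⟩ | ⟨j, e⟩
  exacts [.inr (Wt.eq_zero hw (a := Pi.single 4 1) (by simpa using e) (by rw [h.e1]; exact e4 w)),
    .inr (Wt.eq_zero hw (a := Pi.single 5 1) (by simpa using e) (by rw [h.e1]; exact e5 w)), .inl e,
    .inr ((smul_eq_zero_iff_eq _).1 (hn _ ((orb0.1.1 j).2 ▸ h.conj (Wt.of_or hw e) _))),
    .inr (h.big hV orb0.2.1 (Wt.of_or hw e)), .inr (h.big hV orb0.2.2.1 (Wt.of_or hw e))]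

theorem bas {v : V} (hv : v ∈ Wt h.ε V (l0 0)) (v0 : v ≠ 0) : ∃ b : Basis (Fin 10 ⊕ Fin 10) (ZMod 2) V,
    ⇑b = fam h.ε b0 fun j => ev f (sw (n0 j)) • v :=
  ⟨basisOfLinearIndependentOfCardEqFinrank (fam_indep (fun j m k => Sep.ex ⟨0, orb0.1.2 j m k⟩)
    (fun j => by rw [orb0.2.2.2.1]; decide) (fun j => (orb0.1.1 j).1 ▸ h.conj hv _)
    fun _ => (smul_ne_zero_iff_ne _).2 v0) (by simp [hV]), coe_basisOfLinearIndependentOfCardEqFinrank _ _⟩

theorem fix {v : V} (hv : v ∈ Wt h.ε V (l0 0)) {k : Fin 6} (hk : k ∈ [0, 1, 3, 4]) : f (6 + k) • v = v := by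
  classical
  by_cases v0 : v = 0
  · rw [v0, smul_zero]
  obtain ⟨b, hb⟩ := h.bas hV hv v0
  have m : ∀ {v : V}, v ∈ Wt h.ε V (l0 0) → f (6 + k) • v ∈ Wt h.ε V (l0 0) := fun hv =>
    orb0.2.2.2.2.2 k hk ▸ Wt.conj hv (h.nr k)
  have z2 : ∀ c : ZMod 2, c = 0 ∨ c = 1 := by decide
  obtain ⟨c, e⟩ : ∃ c : _ → ZMod 2, ∑ x, c x • b x = f (6 + k) • v := ⟨_, b.sum_repr _⟩
  let w : Fin 10 → V := fun l => c (.inl l) • b (.inl l) + c (.inr l) • b (.inr l)
  have hw : ∀ l, w l ∈ Wt h.ε V (l0 l) := fun l => by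
    have a : b (.inl l) ∈ Wt h.ε V (l0 l) := hb ▸ (orb0.1.1 l).1 ▸ h.conj hv _
    have d : b (.inr l) ∈ Wt h.ε V (l0 l) := by rw [hb] at a ⊢; exact Wt.smul a _
    rcases z2 (c (.inl l)) with e | e <;> rcases z2 (c (.inr l)) with e' | e' <;>
      simp only [w, e, e', zero_smul, one_smul] <;> refine add_mem ?_ ?_ <;> first | assumption | exact zero_mem _
  have := indep (ε := h.ε) (μ := l0) (j := 0) (Finset.univ.erase 0) (Function.update w 0 (f (6 + k) • v + w 0))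
    (fun l => by
      obtain rfl | n := eq_or_ne l 0
      exacts [by rw [Function.update_self]; exact add_mem (m hv) (hw 0), by rw [Function.update_of_ne n]; exact hw l])
    (fun l hl => Sep.ex ⟨0, orb0.1.2 0 l (Finset.ne_of_mem_erase hl)⟩) (by
      rw [Function.update_self, Finset.sum_congr rfl fun l hl => Function.update_of_ne (Finset.ne_of_mem_erase hl) _ _,
        add_assoc, Finset.add_sum_erase _ w (Finset.mem_univ 0), Finset.sum_add_distrib, ← e, Fintype.sum_sum_type,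
        add_self2])
  rw [Function.update_self] at this
  replace this : f (6 + k) • v = c (.inl 0) • v + c (.inr 0) • ee h.ε (b0 0) • v := by
    simpa [w, hb, fam, sw, n0] using eq_of_add2 this
  have ss : f (6 + k) • f (6 + k) • v = v := by rw [← mul_smul, h.e2 (cw1.1 k).2.1]; exact one_smul _ _
  have c1 : f (6 + k) • ee h.ε (b0 0) • v = ee h.ε (b0 0) • f (6 + k) • v := by
    rw [← mul_smul (ee _ _), h.nr, mul_smul, ← add_sub_cancel (b0 0) (Ms k *ᵥ b0 0), ee_add, mul_smul,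
      (hv (_ - _)).1 (by rw [dotProduct_sub, dotProduct_mulVec, orb0.2.2.2.2.2 k hk, sub_self])]
  have t := (hv (b0 0)).2 (by decide)
  rcases z2 (c (.inl 0)) with a | a <;> rcases z2 (c (.inr 0)) with d | d <;>
    simp only [a, d, zero_smul, one_smul, add_zero, zero_add] at this
  · exact absurd ((smul_eq_zero_iff_eq _).1 this) v0
  · rw [this, c1, this] at ss
    rw [ss, add_right_comm, add_self2, zero_add, smul_eq_zero_iff_eq] at t
    exact absurd t v0
  · exact this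
  · rw [this, smul_add, c1, this, smul_add, add_assoc, ← add_assoc (_ • v), add_self2, zero_add, add_eq_left,
      smul_eq_zero_iff_eq, smul_eq_zero_iff_eq] at ss
    exact absurd ss v0

theorem exists_u (nt : ∃ v : V, f 0 • v ≠ v) :
    ∃ u ∈ Wt h.ε V (l0 0), u ≠ 0 ∧ ∀ i ∈ [0, 1, 3, 6, 7, 9, 10, 11], f i • u = u := by
  obtain ⟨v, a, b⟩ := h.some hV nt
  obtain ⟨u, hu, u0, e⟩ : ∃ u ∈ Wt h.ε V (l0 0), u ≠ 0 ∧ f (6 + (5 : Fin 6)) • u = u := by
    by_cases c : f (6 + (5 : Fin 6)) • v + v = 0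
    · exact ⟨v, a, b, eq_of_add2 c⟩
    · exact ⟨_, add_mem (Wt.of_or (Wt.conj a (h.nr 5)) (.inr orb0.2.2.2.2.1)) a, c, by
        rw [smul_add, ← mul_smul, h.e2 (cw1.1 5).2.1, ev_nil, one_smul, add_comm]⟩
  have t : ∀ k ∈ [(0 : Fin 6), 1, 3], f k • u = u := fun k hk => h.e1 k ▸ (hu _).1 (by revert k; decide)
  exact ⟨u, hu, u0, by
    simpa using ⟨t 0 (by decide), t 1 (by decide), t 3 (by decide), h.fix hV hu (k := 0) (by decide),
      h.fix hV hu (k := 1) (by decide), h.fix hV hu (k := 3) (by decide), h.fix hV hu (k := 4) (by decide), e⟩⟩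

theorem frame (nt : ∃ v : V, f 0 • v ≠ v) : ∃ b : Basis (Fin 20) (ZMod 2) V, ∀ x < 12, ∀ i : Fin 20,
    b.equivFun ((f x)⁻¹ • b i) = dc (fld 20 (nth (mo 20) TW (2 * x + 1)) i) := by
  obtain ⟨u, hu, u0, k⟩ := h.exists_u hV nt
  obtain ⟨b, hb⟩ := h.bas hV hu u0
  have a0 : ∀ j, ev f (bw j 0) • u = b (.inl j) := fun j => by rw [bw, ev_lapp, ev_wpow, pow_zero, one_mul, hb]; rfl
  have a1 : ∀ j, ev f (bw j 1) • u = b (.inr j) := fun j => by rw [bw, ev_lapp, ev_wpow, pow_one, mul_smul, hb]; rfl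
  have a2 : ∀ j, ev f (bw j 2) • u = b (.inl j) + b (.inr j) := fun j => by
    rw [bw, ev_lapp, ev_wpow, pow_two, mul_smul, mul_smul, hb]
    exact (eq_of_add2 ((((orb0.1.1 j).1 ▸ h.conj hu _ :) (b0 j)).2 (by rw [orb0.2.2.2.1]; decide))).symm
  let c := b.reindex finSumFinEquiv
  have bi : ∀ x, c.equivFun (b x) = dc (2 ^ (finSumFinEquiv x).1) := fun x => by
    rw [dc_pow, ← finSumFinEquiv.symm_apply_apply x, ← b.reindex_apply, Equiv.apply_symm_apply]
    exact funext fun j => by simp [c, Pi.single_apply, Finsupp.single_apply, eq_comm]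
  have key : ∀ x < 12, ∀ j : Fin 10, ∀ e < 2, c.equivFun ((f x)⁻¹ • ev f (bw j e) • u) =
      dc (fld 20 (nth (mo 20) TW (2 * x + 1)) (10 * e + j)) := fun x hx j e he => by
    obtain ⟨m, -, l, o, p, q⟩ := cw2 x hx j e he
    have s : ev f (nth (0, 0, []) (nth [] KT x) (10 * e + j)).2.2 • u = u := ev_memM (K := MulAction.stabilizer S u)
      (fun i hi => k i (by
        have : i < 12 := lt_of_not_ge fun l => by
          simp [Nat.testBit_lt_two_pow ((by decide : 3787 < 2 ^ 12).trans_le (Nat.pow_le_pow_right two_pos l))] at hi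
        revert hi; revert i; decide)) o
    rw [← mul_smul, ← evL_even, ← ev_cons, h.eq _ _ p, ev_lapp, mul_smul, s, q]
    generalize (nth (0, 0, []) (nth [] KT x) (10 * e + j)).2.1 = r at *
    interval_cases r
    exacts [a0 m ▸ bi _, a1 m ▸ bi _, by rw [a2, map_add, bi, bi, ← dc_xor]; rfl]
  refine ⟨c, fun x hx => (finSumFinEquiv (m := 10) (n := 10)).surjective.forall.2 fun i => ?_⟩
  rw [b.reindex_apply, Equiv.symm_apply_apply]
  rcases i with j | j
  exacts [a0 j ▸ (key x hx j 0 (by decide)).trans (by rw [Nat.mul_zero, Nat.zero_add]; rfl), a1 j ▸ key x hx j 1 (by decide)]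

end Gn

end CF.E62
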