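import Cfsg.Agent.E62.W2

/-! The matrices of the generators on the extraspecial group. -/

set_option autoImplicit false
set_option linter.unusedSectionVars false
set_option maxRecDepth 100000
set_option exponentiation.threshold 400

namespace CF.E62

open Cfsg Subgroup CF.Loc CF.Even CF.LX CF.J4 CF.Comp CF.Dce CF.Geom Function

/-- the matrix of a word -/
noncomputable def eS (w : List ℕ) : ℕ := evW (mm 20) (mo 20) (nth (mo 20) TW) w

/-- the last generator conjugates the first word to the second -/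
noncomputable def okP (p : List ℕ × List ℕ) : Bool := inM 4095 p.1 && inM 4095 p.2 && eqP (lapp p.1 [25]) (25 :: p.2)

/-- a sum of matrices -/
noncomputable def sm (L : List (List ℕ)) : ℕ := L.foldr (fun w r => eS w ^^^ r) 0

/-- the possible matrices of the last generator -/
noncomputable def cand (a : List ℕ) : ℕ := pk 20 20 fun i => let t := nth (0, [], []) RT i
  vm 20 (vm 20 (nth 0 a t.1) (nth (0, [], 0, 0) SE t.1).2.2.2) (eS t.2.2)

theorem cw3 : tabOK (mm 20) (mo 20) (fun _ => true) TW 13 = true ∧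
    (∀ k < 3, let s := nth (0, [], 0, 0) SE k; s.1 < 2 ^ 20 ∧ (∀ t ∈ s.2.1, (∀ p ∈ t.1, okP p = true) ∧
      vm 20 s.1 (sm (t.1.map Prod.fst)) = 0) ∧ (∀ i < 20, fld 20 s.2.2.1 i < 2 ^ 2) ∧
      s.2.1.foldr (fun t r => mm 20 (sm (t.1.map Prod.snd)) t.2 ^^^ r) (mm 20 s.2.2.1 s.2.2.2) = mo 20) ∧
    (∀ i < 20, let t := nth (0, [], []) RT i; t.1 < 3 ∧ okP t.2 = true ∧
      vm 20 (nth (0, [], 0, 0) SE t.1).1 (eS t.2.1) = 2 ^ i) ∧
    eqP [25, 25] [15] = true ∧ eqP [25, 5, 25, 5, 25, 5] [1, 4] = true := by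
  refine ⟨?_, ?_, ?_, ?_⟩ <;> decide +kernel

theorem cw4 : ∀ a < 4, ∀ b < 4, ∀ c < 4, (force (cand [a, b, c]) fun y => force (mm 20 y (eS [5])) fun x =>
    !Nat.beq (mm 20 y y) (eS [15]) || !Nat.beq (mm 20 (mm 20 x x) x) (eS [1, 4]) || Nat.beq y (nth (mo 20) TW 25)) = true := by
  decide +kernel

theorem last {S : Type*} [Group S] {f : ℕ → S} (h : Gn f) {r : S → ℕ → Prop} (C : Cd (mm 20) (mo 20) (fun _ => true) r)
    (u : ∀ {s x y}, r s x → r s y → ∀ c < 2 ^ 20, vm 20 c x = vm 20 c y)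
    (k : ∀ i < 12, r (f i) (nth (mo 20) TW (2 * i + 1))) {X : ℕ} (l : X < 2 ^ (20 * 20)) (hX : r (f 12) X) :
    X = nth (mo 20) TW 25 := by
  have w : ∀ {w}, inM 4095 w = true → r (ev f w) (eS w) := fun hw => C.evM (let_of_tab cw3.1) fun x hx => by
    have := (testBit_full 12 _).symm.trans (inM_iff.1 hw x hx)
    exact ⟨by simp at this; omega, k _ (by simpa using this)⟩
  have a : ∀ {p}, okP p = true → ∀ c < 2 ^ 20, vm 20 (vm 20 c (eS p.1)) X = vm 20 (vm 20 c X) (eS p.2) := fun {p} e c hc => by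
    simp only [okP, Bool.and_eq_true] at e
    have := h.eq _ _ e.2
    rw [ev_lapp, ev_single f 12, ev_cons, evL_odd f 12] at this
    rw [← vm_mm (by decide), ← vm_mm (by decide), u (C.mul' (w e.1.1) hX) (this ▸ C.mul' hX (w e.1.2)) c hc]
  have b : ∀ L : List (List ℕ × List ℕ), (∀ p ∈ L, okP p = true) → ∀ c < 2 ^ 20,
      vm 20 (vm 20 c (sm (L.map Prod.fst))) X = vm 20 (vm 20 c X) (sm (L.map Prod.snd)) := fun L e c hc => by
    induction L with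
    | nil => exact (congrArg (vm 20 · X) (vm_zero' _ _)).trans ((vm_zero _ _).trans (vm_zero' _ _).symm)
    | cons p L ih =>
      simp only [sm, List.map_cons, List.foldr_cons, vm_xor', vm_xor] at ih ⊢
      rw [a (e p (.head _)) c hc, ih fun q hq => e q (.tail _ hq)]
  have s : ∀ k < 3, ∃ a < 4, vm 20 (nth (0, [], 0, 0) SE k).1 X = vm 20 a (nth (0, [], 0, 0) SE k).2.2.2 := fun k hk => by
    obtain ⟨s1, s2, s3, s4⟩ := cw3.2.1 k hk
    generalize nth (0, [], 0, 0) SE k = s at *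
    refine ⟨_, vm_rows le_rfl s3 (vm_lt 20 s.1 X), ?_⟩
    rw [← vm_mm (by decide)]
    refine (vm_mo (by decide) (vm_lt 20 s.1 X)).symm.trans ?_
    rw [← s4]
    clear s4
    generalize s.2.1 = L at *
    induction L with
    | nil => rfl
    | cons t L ih => rw [List.foldr_cons, vm_xor', ih fun q hq => s2 q (.tail _ hq), vm_mm (by decide),
        ← b _ (s2 t (.head _)).1 _ s1, (s2 t (.head _)).2, vm_zero, vm_zero, Nat.zero_xor]
  obtain ⟨a0, l0, e0⟩ := s 0 (by decide)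
  obtain ⟨a1, l1, e1⟩ := s 1 (by decide)
  obtain ⟨a2, l2, e2⟩ := s 2 (by decide)
  have e : X = cand [a0, a1, a2] := eq_of_fld (by decide) l (pk_lt (by decide) fun _ _ => vm_lt _ _ _) fun i hi => by
    obtain ⟨t1, t2, t3⟩ := cw3.2.2.1 i hi
    rw [cand, fld_pk (by decide) (fun _ _ => vm_lt _ _ _) hi, ← vm_pow hi, ← t3, a t2 _ (cw3.2.1 _ t1).1]
    generalize (nth (0, [], []) RT i).1 = k at *
    interval_cases k
    exacts [e0 ▸ rfl, e1 ▸ rfl, e2 ▸ rfl]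
  have c := cw4 a0 l0 a1 l1 a2 l2
  have x := C.mul' hX (w (w := [5]) (by decide +kernel))
  have lt : ∀ v, eS v < 2 ^ (20 * 20) → ∀ {s y z}, r s (mm 20 y z) → inM 4095 v = true → s = ev f v →
      Nat.beq (mm 20 y z) (eS v) = true := fun v l _ _ _ a b c =>
    beq_iff.2 (mat_ext (by decide) (mm_lt (by decide) _ _) l (u a (c ▸ w b)))
  rw [force_eq, force_eq, ← e, lt [15] (by decide +kernel) (C.mul' hX hX) (by decide +kernel) (by
    simpa [evL_odd f 12] using h.eq _ _ cw3.2.2.2.1), lt [1, 4] (by decide +kernel) (C.mul' (C.mul' x x) x)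
      (by decide +kernel) (by simpa [evL_odd f 12, mul_assoc] using h.eq _ _ cw3.2.2.2.2)] at c
  exact beq_iff.1 c

variable {G S : Type*} [Group G] [Group S] [Finite G] {Q H : Subgroup G} {z : G} {f : ℕ → S}

theorem ac_of_div {ν : G → ℕ} {Z : Subgroup G} (C : Co 20 Q Z ν) {g h : G} {x : ℕ} (a : Ac 20 Q ν g x) (e : g⁻¹ * h ∈ Q) :
    Ac 20 Q ν h x := mul_inv_cancel_left g h ▸ C.congr (C.cd.mul' a (C.ac_self e)) fun c _ => by
  rw [vm_mm C.pos, vm_mo C.pos (vm_lt _ _ _)]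

theorem qm_co (l : EX Q z) {p : Q → Fin 20 → ZMod 2} {q : (Fin 20 → ZMod 2) → ZMod 2} (k : QM p q ⟨z, l.mem⟩) :
    ∃ ν, Co 20 Q (zpowers z) ν ∧ ∀ x : Q, dc (ν x) = p x := by
  classical
  choose cd c1 c2 using dc_surj
  let ν : G → ℕ := fun x => if hx : x ∈ Q then cd (p ⟨x, hx⟩) else 0
  have hν : ∀ x (hx : x ∈ Q), ν x < 2 ^ 20 ∧ dc (ν x) = p ⟨x, hx⟩ := fun x hx => by
    simp only [ν, dif_pos hx]; exact ⟨c1 _, c2 _⟩
  refine ⟨ν, ⟨by decide, l.z_le, fun x hx y hy => dc_inj (hν _ (mul_mem hx hy)).1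
    (Nat.xor_lt_two_pow (hν x hx).1 (hν y hy).1) ?_, fun x hx => (hν x hx).1, fun c hc => ?_, fun x hx => ?_⟩,
    fun x => (hν x x.2).2⟩
  · rw [dc_xor, (hν x hx).2, (hν y hy).2, (hν _ (mul_mem hx hy)).2, ← k.mul]; rfl
  · obtain ⟨x, e⟩ := k.surj (dc c)
    exact ⟨x, x.2, dc_inj (hν x x.2).1 hc ((hν x x.2).2.trans e)⟩
  · rw [l.mem_z]
    refine Iff.trans ?_ ((k.ker ⟨x, hx⟩).trans (by simp [Subtype.ext_iff]))
    rw [← (hν x hx).2, ← dc_zero]
    exact ⟨congrArg dc, dc_inj (hν x hx).1 (by decide)⟩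

theorem exists_tb (l : LQ Q z) (cQ : Nat.card Q = 2 ^ 21) (HC : H ≤ 𝐂₁(z)) {φ : H →* S} (hs : Surjective φ)
    (hk : ∀ c : H, φ c = 1 ↔ c.1 ∈ Q) (h : Gn f) : ∃ ν, Co 20 Q (zpowers z) ν ∧
      ∀ w, ∀ c : H, φ c = ev f w → Ac 20 Q ν c (eS w) := by
  classical
  have e : EX (⊤ : Subgroup Q) ⟨z, l.mem⟩ := EX.of (isExtraspecial_of_equiv l.isExtraspecial topEquiv.symm) trivial
    (fun y _ => Subtype.ext (mem_c1.1 (l.le_c1 y.2))) fun k => l.z_ne (congrArg Subtype.val k)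
  obtain ⟨p, q, k⟩ := e.exists_qm (r := 20) cQ
  let κ : H →* MulAut Q := Q.normalizerMonoidHom.comp (inclusion (HC.trans l.nor))
  let r : H →* OG q := (k.rho e).comp κ
  have hr : ∀ c x, (r c).1 (p x) = p (κ c x) := fun c x => k.rho_apply e _ x
  obtain ⟨σ, hσ⟩ : ∃ σ : S →* OG q, ∀ c, σ (φ c) = r c :=
    ⟨φ.liftOfSurjective hs ⟨r, fun c hc => Subtype.ext (LinearEquiv.ext (k.surj.forall.2 fun x => by
      rw [hr, show κ c x = ⟨c, (hk c).1 hc⟩ * x * ⟨c, (hk c).1 hc⟩⁻¹ from rfl, k.mul, k.mul, k.inv, add_right_comm,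
        ZModModule.add_self, zero_add]
      rfl))⟩, fun c => φ.liftOfRightInverse_comp_apply _ _ _ c⟩
  let := DistribMulAction.compHom (Fin 20 → ZMod 2) ((OG q).subtype.comp σ)
  obtain ⟨b, hb⟩ := h.frame (V := Fin 20 → ZMod 2) (by simp) (by
    by_contra! n
    obtain ⟨c, hc⟩ := hs (f 0)
    obtain ⟨g, hg⟩ : κ c ∈ Inn Q := k.ker_rho e ▸ (hσ c).symm.trans (Subtype.ext (LinearEquiv.ext (hc ▸ n)))
    refine h.ne (hc ▸ (hk c).2 ((mul_mem_cancel_left (inv_mem g.2)).1 (l.cen fun y hy => ?_)))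
    have : g * y * (g : G)⁻¹ = c * y * (c : G)⁻¹ := congrArg (fun f : MulAut Q => (f ⟨y, hy⟩ : G)) hg
    rw [mul_assoc, eq_inv_mul_iff_mul_eq, ← mul_assoc, ← mul_assoc, this, inv_mul_cancel_right])
  replace k := k.comp b.equivFun (q' := fun v => q (b.equivFun.symm v)) fun v => by simp
  obtain ⟨ν, C, hν⟩ := qm_co l.toEX k
  have nz : ∀ c : H, c.1 ∈ 𝐍(zpowers z) := fun c => centralizer_le_normalizer _ (centralizer_zpowers z ▸ HC c.2)
  let R : S → ℕ → Prop := fun s x => ∃ c : H, φ c = s ∧ Ac 20 Q ν c x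
  have D : Cd (mm 20) (mo 20) (fun _ => true) R := ⟨⟨1, map_one φ, C.cd.one'⟩,
    fun ⟨c, a, b⟩ ⟨d, a', b'⟩ => ⟨c * d, by rw [map_mul, a, a'], C.cd.mul' b b'⟩,
    fun ⟨c, a, b⟩ o e => ⟨c⁻¹, by rw [map_inv, a], C.cd.inv' b o e⟩⟩
  have m : ∀ {s x}, R s x → ∀ c : H, φ c = s → Ac 20 Q ν c x := fun ⟨d, a, b⟩ c e =>
    ac_of_div C b ((hk (d⁻¹ * c)).1 (by rw [map_mul, map_inv, a, e, inv_mul_cancel]))
  have t : ∀ i < 12, R (f i) (nth (mo 20) TW (2 * i + 1)) := fun i hi => (hs (f i)).imp fun c hc =>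
    ⟨hc, C.of_gens (l.nor (HC c.2)) (nz c) fun j hj => by
      obtain ⟨x, hx⟩ := k.surj (dc (2 ^ j))
      have := hb i hi ⟨j, hj⟩
      refine ⟨x, x.2, dc_inj (C.lt _ x.2) (Nat.pow_lt_pow_right one_lt_two hj) ((hν x).trans hx), dc_inj
        (C.lt _ (norm_mem (l.nor (HC c.2)) x.2)) (fld_lt _ _ _) ?_⟩
      have a : b ⟨j, hj⟩ = p x := b.equivFun.injective ((funext fun _ => by
        simp [Pi.single_apply, eq_comm]).trans ((dc_pow ⟨j, hj⟩).symm.trans hx.symm))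
      rw [← this, a, ← hc, ← map_inv]
      exact (show _ = dc (ν ((c : G)⁻¹ * x * (c : G)⁻¹⁻¹)) by rw [inv_inv]).trans ((hν (κ c⁻¹ x)).trans (congrArg _ ((hr _ x).symm.trans (hσ c⁻¹ ▸ rfl))))⟩
  obtain ⟨g, hg⟩ := hs (f 12)
  obtain ⟨X, lX, hX⟩ := C.ex (l.nor (HC g.2)) (nz g)
  have := last h D (fun ⟨c, a, b⟩ d _ => C.uniq b (m d c a)) t lX ⟨g, hg, hX⟩
  exact ⟨ν, C, fun w => m (D.ev (D.tb cw3.1 (fun i hi => (Nat.lt_succ_iff_lt_or_eq.1 hi).elim (t i)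
    fun e => e ▸ ⟨g, hg, this ▸ hX⟩) h.one) w)⟩

end CF.E62
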